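import Mathlib

/-!
# Recognising `GL(2,3)` by relations

Owner: helper49.
-/

set_option autoImplicit false
set_option linter.unusedSimpArgs false
set_option linter.style.haveILetI false

namespace Cfsg.Agent.Lib.J4Eleven49.GL23

open Matrix

variable {M : Type*} [Group M]

/-- The relations. -/
structure Rel (i j p w : M) : Prop where
  i4 : i * (i * (i * i)) = 1
  jj : j * j = i * i
  ji : j * i = i * (i * (i * j))
  p3 : p * (p * p) = 1
  ww : w * w = 1
  pi : p * i = j * p
  pj : p * j = i * (j * p)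
  wi : w * i = i * (i * (i * w))
  wj : w * j = i * (i * (i * (j * w)))
  wp : w * p = p * (p * w)

/-- The normal form acting on an element. -/
def nf (i j p w : M) (n : Fin 48) (X : M) : M :=
  i ^ ((n : ℕ) / 12) * (j ^ ((n : ℕ) / 6 % 2) * (p ^ ((n : ℕ) / 2 % 3) * (w ^ ((n : ℕ) % 2) * X)))

/-- Right multiplication by a generator on normal forms. -/
def tabI : Fin 48 → Fin 48 := fun n =>
  ![12,37,8,33,22,47,42,19,26,3,16,41,24,1,20,45,34,11,6,31,38,15,28,5,36,13,32,9,46,23,18,43,2,27,40,17,0,25,44,21,10,35,30,7,14,39,4,29] n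

/-- Right multiplication by a generator on normal forms. -/
def tabJ : Fin 48 → Fin 48 := fun n =>
  ![6,43,20,39,16,35,24,37,14,21,46,5,18,7,32,3,28,47,36,1,26,33,10,17,30,19,44,15,40,11,0,13,38,45,22,29,42,31,8,27,4,23,12,25,2,9,34,41] n

/-- Right multiplication by a generator on normal forms. -/
def tabP : Fin 48 → Fin 48 := fun n =>
  ![2,5,4,1,0,3,8,11,10,7,6,9,14,17,16,13,12,15,20,23,22,19,18,21,26,29,28,25,24,27,32,35,34,31,30,33,38,41,40,37,36,39,44,47,46,43,42,45] n

/-- Right multiplication by a generator on normal forms. -/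
def tabW : Fin 48 → Fin 48 := fun n =>
  ![1,0,3,2,5,4,7,6,9,8,11,10,13,12,15,14,17,16,19,18,21,20,23,22,25,24,27,26,29,28,31,30,33,32,35,34,37,36,39,38,41,40,43,42,45,44,47,46] n

theorem step {i j p w : M} (R : Rel i j p w) (n : Fin 48) (X : M) :
    nf i j p w n (i * X) = nf i j p w (tabI n) X ∧ nf i j p w n (j * X) = nf i j p w (tabJ n) X ∧
      nf i j p w n (p * X) = nf i j p w (tabP n) X ∧ nf i j p w n (w * X) = nf i j p w (tabW n) X := by
  have a1 : ∀ Y, i * (i * (i * (i * Y))) = Y := fun Y => by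
    simpa [mul_assoc] using congrArg (· * Y) R.i4
  have a2 : ∀ Y, j * (j * Y) = i * (i * Y) := fun Y => by
    simpa [mul_assoc] using congrArg (· * Y) R.jj
  have a3 : ∀ Y, j * (i * Y) = i * (i * (i * (j * Y))) := fun Y => by
    simpa [mul_assoc] using congrArg (· * Y) R.ji
  have a4 : ∀ Y, p * (p * (p * Y)) = Y := fun Y => by
    simpa [mul_assoc] using congrArg (· * Y) R.p3
  have a5 : ∀ Y, w * (w * Y) = Y := fun Y => by simpa [mul_assoc] using congrArg (· * Y) R.ww
  have a6 : ∀ Y, p * (i * Y) = j * (p * Y) := fun Y => by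
    simpa [mul_assoc] using congrArg (· * Y) R.pi
  have a7 : ∀ Y, p * (j * Y) = i * (j * (p * Y)) := fun Y => by
    simpa [mul_assoc] using congrArg (· * Y) R.pj
  have a8 : ∀ Y, w * (i * Y) = i * (i * (i * (w * Y))) := fun Y => by
    simpa [mul_assoc] using congrArg (· * Y) R.wi
  have a9 : ∀ Y, w * (j * Y) = i * (i * (i * (j * (w * Y)))) := fun Y => by
    simpa [mul_assoc] using congrArg (· * Y) R.wj
  have a10 : ∀ Y, w * (p * Y) = p * (p * (w * Y)) := fun Y => by
    simpa [mul_assoc] using congrArg (· * Y) R.wp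
  fin_cases n <;> refine ⟨?_, ?_, ?_, ?_⟩ <;>
    simp [nf, tabI, tabJ, tabP, tabW, pow_succ, mul_assoc, a1, a2, a3, a4, a5, a6, a7, a8, a9,
      a10]

theorem step' {i j p w : M} (R : Rel i j p w) (n : Fin 48) :
    nf i j p w n 1 * i = nf i j p w (tabI n) 1 ∧ nf i j p w n 1 * j = nf i j p w (tabJ n) 1 ∧
      nf i j p w n 1 * p = nf i j p w (tabP n) 1 ∧ nf i j p w n 1 * w = nf i j p w (tabW n) 1 := by
  have h : ∀ t, nf i j p w n 1 * t = nf i j p w n (t * 1) := fun t => by simp [nf, mul_assoc]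
  rw [h, h, h, h]
  exact step R n 1

local notation "GLT" => GL (Fin 2) (ZMod 3)

/-- The generators in `GL(2,3)`. -/
def gI : GLT := ⟨!![0, 1; 2, 0], !![0, 2; 1, 0], by decide, by decide⟩

/-- The second quaternion. -/
def gJ : GLT := ⟨!![1, 1; 1, 2], !![1, 1; 1, 2] * !![2, 0; 0, 2], by decide, by decide⟩

/-- The element of order three. -/
def gP : GLT := ⟨!![0, 1; 2, 2], !![0, 1; 2, 2] * !![0, 1; 2, 2], by decide, by decide⟩

/-- The involution. -/
def gW : GLT := ⟨!![0, 1; 1, 0], !![0, 1; 1, 0], by decide, by decide⟩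

theorem rel_gl : Rel gI gJ gP gW :=
  ⟨by decide, by decide, by decide, by decide, by decide, by decide, by decide, by decide,
    by decide, by decide⟩

/-- The normal forms in `GL(2,3)`. -/
def glOf (n : Fin 48) : GLT := nf gI gJ gP gW n 1

theorem glOf_injective : Function.Injective glOf := by
  intro a b h
  exact (show ∀ a b : Fin 48, glOf a = glOf b → a = b by decide +kernel) a b h

theorem glOf_zero : glOf 0 = 1 := by decide

theorem card_gl : Nat.card GLT = 48 := by
  haveI : Fact (Nat.Prime 3) := ⟨Nat.prime_three⟩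
  rw [Matrix.card_GL_field]
  simp [Fin.prod_univ_two]

theorem glOf_bijective : Function.Bijective glOf :=
  glOf_injective.bijective_of_nat_card_le (by rw [card_gl]; simp)

/-- A group generated by elements subject to the relations, with 48 normal forms, is `GL(2,3)`. -/
theorem exists_hom {i j p w : M} (R : Rel i j p w) :
    ∃ f : GLT →* M, f gI = i ∧ f gJ = j ∧ f gP = p ∧ f gW = w ∧
      ∀ n, f (glOf n) = nf i j p w n 1 := by
  classical
  let g : Fin 48 → GLT × M := fun n => (glOf n, nf i j p w n 1)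
  set s : Set (GLT × M) := {(gI, i), (gJ, j), (gP, p), (gW, w)}
  set H := Submonoid.closure s
  have hg0 : g 0 = 1 := Prod.ext glOf_zero (by simp [g, nf])
  have hstep : ∀ n, g n * (gI, i) = g (tabI n) ∧ g n * (gJ, j) = g (tabJ n) ∧
      g n * (gP, p) = g (tabP n) ∧ g n * (gW, w) = g (tabW n) := fun n =>
    ⟨Prod.ext (step' rel_gl n).1 (step' R n).1, Prod.ext (step' rel_gl n).2.1 (step' R n).2.1,
      Prod.ext (step' rel_gl n).2.2.1 (step' R n).2.2.1,
      Prod.ext (step' rel_gl n).2.2.2 (step' R n).2.2.2⟩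
  have hclosed : ∀ a ∈ H, ∀ n, ∃ m, g n * a = g m := by
    intro a ha
    induction ha using Submonoid.closure_induction with
    | mem u hu =>
      intro n
      rcases hu with rfl | rfl | rfl | rfl
      exacts [⟨_, (hstep n).1⟩, ⟨_, (hstep n).2.1⟩, ⟨_, (hstep n).2.2.1⟩, ⟨_, (hstep n).2.2.2⟩]
    | one => exact fun n => ⟨n, mul_one _⟩
    | mul u v _ _ hu hv =>
      intro n
      obtain ⟨m, hm⟩ := hu n
      obtain ⟨m', hm'⟩ := hv m
      exact ⟨m', by rw [← mul_assoc, hm, hm']⟩
  have hrange : ∀ a ∈ H, ∃ m, a = g m := fun a ha => by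
    obtain ⟨m, hm⟩ := hclosed a ha 0
    exact ⟨m, by rwa [hg0, one_mul] at hm⟩
  have hmem : ∀ n, g n ∈ H := by
    intro n
    have hp : ∀ (x : GLT × M) (k : ℕ), x ∈ s → x ^ k ∈ H := fun x k hx =>
      pow_mem (Submonoid.subset_closure hx) k
    have e : g n = (gI, i) ^ ((n : ℕ) / 12) * ((gJ, j) ^ ((n : ℕ) / 6 % 2) *
        ((gP, p) ^ ((n : ℕ) / 2 % 3) * ((gW, w) ^ ((n : ℕ) % 2)))) :=
      Prod.ext (by simp [g, glOf, nf]) (by simp [g, nf])
    rw [e]
    exact mul_mem (hp _ _ (by simp [s])) (mul_mem (hp _ _ (by simp [s]))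
      (mul_mem (hp _ _ (by simp [s])) (hp _ _ (by simp [s]))))
  let idx := (Equiv.ofBijective glOf glOf_bijective).symm
  have hidx : ∀ a, glOf (idx a) = a := (Equiv.ofBijective glOf glOf_bijective).apply_symm_apply
  have key : ∀ a ∈ H, a = g (idx a.1) := fun a ha => by
    obtain ⟨m, rfl⟩ := hrange a ha
    congr 1
    exact glOf_injective (hidx (g m).1).symm
  refine ⟨{ toFun := fun a => (g (idx a)).2
            map_one' := ?_
            map_mul' := fun a b => ?_ }, ?_, ?_, ?_, ?_, fun n => ?_⟩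
  · exact (congrArg Prod.snd (key 1 (one_mem H))).symm
  · have := key _ (mul_mem (hmem (idx a)) (hmem (idx b)))
    rw [Prod.fst_mul] at this
    simp only [g, hidx] at this ⊢
    exact (congrArg Prod.snd this).symm
  · exact (congrArg Prod.snd (key _ (Submonoid.subset_closure (by simp [s] : (gI, i) ∈ s)))).symm
  · exact (congrArg Prod.snd (key _ (Submonoid.subset_closure (by simp [s] : (gJ, j) ∈ s)))).symm
  · exact (congrArg Prod.snd (key _ (Submonoid.subset_closure (by simp [s] : (gP, p) ∈ s)))).symm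
  · exact (congrArg Prod.snd (key _ (Submonoid.subset_closure (by simp [s] : (gW, w) ∈ s)))).symm
  · exact (congrArg Prod.snd (key _ (hmem n))).symm

end Cfsg.Agent.Lib.J4Eleven49.GL23
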