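import Cfsg.Agent.Lib.J4Eleven49.Orbit
import Cfsg.Agent.Lib.J4Eleven49.GL23
import Cfsg.Agent.Lib.PGroups.Frattini
import Cfsg.Prelude.Def_Transfer

/-!
# The case of a non-abelian Sylow 11-subgroup

Owner: helper49.
-/

set_option autoImplicit false
set_option linter.unusedSectionVars false
set_option linter.style.haveILetI false

namespace Cfsg.Agent.Lib.J4Eleven49

open Cfsg.Agent.Lib
open Cfsg.Agent.Lib.J4Local
open Cfsg.Agent.Lib.LargeExtraspecial.Basic

theorem isExtraspecial_of_center {P : Type*} [Group P] [Finite P] {q : ℕ} [Fact q.Prime]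
    (hP : IsPGroup q P) (hpow : ∀ g : P, g ^ q = 1) (hc : Nat.card (Subgroup.center P) = q)
    (hle : commutator P ≤ Subgroup.center P) (hne : commutator P ≠ ⊥) :
    Cfsg.IsExtraspecial q P := by
  have hcomm : commutator P = Subgroup.center P := by
    refine Subgroup.eq_of_le_of_card_ge hle ?_
    obtain ⟨n, hn⟩ := (hP.to_subgroup (commutator P)).exists_card_eq
    rw [hc, hn]
    refine Nat.le_self_pow (fun h0 => hne ?_) q
    exact Subgroup.card_eq_one.mp (by rw [hn, h0, pow_zero])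
  refine ⟨⟨hP, le_antisymm ?_ ?_, hcomm⟩, hc⟩
  · exact PGroups.frattini_le_of_pow_commutator (Subgroup.center P)
      (fun g => by rw [hpow g]; exact one_mem _) hle
  · rw [← hcomm]
    exact PGroups.commutator_le_frattini hP

variable {G : Type*} [Group G] [Finite G] {z p x : G} {U : Subgroup G}

theorem zpow_sq_eq_one (hx : orderOf x = 11) {i : ℤ} (h : x ^ i = (x ^ i)⁻¹) : x ^ i = 1 := by
  rw [← zpow_neg] at h
  have h2 : x ^ (i + i) = 1 := by
    rw [zpow_add]; nth_rewrite 2 [h]; rw [zpow_neg, mul_inv_cancel]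
  have h3 := orderOf_dvd_iff_zpow_eq_one.mpr h2
  rw [hx] at h3
  refine orderOf_dvd_iff_zpow_eq_one.mp ?_
  rw [hx]
  omega

/-- Commutators in `U` only depend on the cosets modulo `⟨x⟩`. -/
theorem comm_congr (hU : Cent z x U) {u v u' v' a b : G} (ha : a ∈ Subgroup.zpowers x)
    (hb : b ∈ Subgroup.zpowers x) (hu : u ∈ U) (hv : v ∈ U) (hu' : u' = a * u) (hv' : v' = b * v) :
    u' * v' * u'⁻¹ * v'⁻¹ = u * v * u⁻¹ * v⁻¹ := by
  subst hu' hv'
  have hc : ∀ d ∈ Subgroup.zpowers x, ∀ w ∈ U, Commute d w := by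
    rintro _ ⟨i, rfl⟩ w hw
    exact ((mem_cz.mp (hU.le_cz hw)).zpow_right i).symm
  have hb' : u * b * u⁻¹ = b := mul_inv_eq_iff_eq_mul.mpr (hc b hb u hu).symm.eq
  have h1 : u * (b * v) * u⁻¹ = b * (u * v * u⁻¹) := by
    calc u * (b * v) * u⁻¹ = (u * b * u⁻¹) * (u * v * u⁻¹) := by group
      _ = _ := by rw [hb']
  have hk : u * v * u⁻¹ * v⁻¹ ∈ U := mul_mem (mul_mem (mul_mem hu hv) (inv_mem hu)) (inv_mem hv)
  have h2 : a * (b * (u * v * u⁻¹ * v⁻¹) * b⁻¹) * a⁻¹ = u * v * u⁻¹ * v⁻¹ := by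
    rw [mul_inv_eq_iff_eq_mul.mpr (hc b hb _ hk).eq, mul_inv_eq_iff_eq_mul.mpr (hc a ha _ hk).eq]
  have h3 : a⁻¹ * (b * v)⁻¹ = (b * v)⁻¹ * a⁻¹ :=
    ((hc a ha _ (mul_mem (Subgroup.zpowers_le.mpr hU.x_mem hb) hv)).inv_inv).eq
  calc a * u * (b * v) * (a * u)⁻¹ * (b * v)⁻¹
      = a * (u * (b * v) * u⁻¹) * (a⁻¹ * (b * v)⁻¹) := by group
    _ = a * (u * (b * v) * u⁻¹ * (b * v)⁻¹) * a⁻¹ := by rw [h3]; group
    _ = a * (b * (u * v * u⁻¹ * v⁻¹) * b⁻¹) * a⁻¹ := by rw [h1]; group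
    _ = _ := h2

namespace Ctx

variable (C : Ctx z p x) (I : J4BigPrimes.Inputs z) (hU : Cent z x U)
variable [IsSimpleGroup G] (hG : ¬ IsMulCommutative G)
variable (hne : ∃ a ∈ U, ∃ b ∈ U, ¬ Commute a b)
include C I hU hG hne

theorem noncentral {u : G} (hu : u ∈ U) (hux : u ∉ Subgroup.zpowers x) :
    ∃ v ∈ U, ¬ Commute u v := by
  by_contra hcon
  push Not at hcon
  have hall : ∀ a ∈ U, ∀ b ∈ U, Commute a b := by
    intro a ha b hb
    by_cases hax : a ∈ Subgroup.zpowers x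
    · obtain ⟨i, rfl⟩ := hax
      exact ((mem_cz.mp (hU.le_cz hb)).zpow_right i).symm
    obtain ⟨d, hd, hda⟩ := C.transitive I hU hG hu hux ha hax
    have hdu : ∀ c ∈ U, Commute (d * u * d⁻¹) c := fun c hc => by
      have h := (hcon _ (hU.mem_nz_conj (inv_mem hd.1) hc)).map (MulAut.conj d)
      simp only [MulAut.conj_apply] at h
      rwa [show d * (d⁻¹ * c * d⁻¹⁻¹) * d⁻¹ = c by group] at h
    obtain ⟨i, hi⟩ := Subgroup.mem_zpowers_iff.mp hda
    have e : a = (x ^ i)⁻¹ * (d * u * d⁻¹) := by rw [hi]; group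
    rw [e]
    exact (((mem_cz.mp (hU.le_cz hb)).zpow_right i).symm.inv_left).mul_left (hdu b hb)
  obtain ⟨a, ha, b, hb, hab⟩ := hne
  exact hab (hall a ha b hb)

/-- The centraliser in `U` of an element outside `⟨x⟩`. -/
theorem eq_of_commute {u : G} (hu : u ∈ U) (hux : u ∉ Subgroup.zpowers x) {T : Subgroup G}
    (hTU : T ≤ U) (hT : ∃ v ∈ U, v ∉ T) (huT : u ∈ T) (hxT : x ∈ T) {v : G} (hv : v ∈ T) :
    ∃ m i : ℤ, v = u ^ m * x ^ i := by
  have hxu : ∀ w ∈ U, ∀ i : ℤ, Commute (x ^ i) w := fun w hw i =>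
    ((mem_cz.mp (hU.le_cz hw)).zpow_right i).symm
  let H : Subgroup G :=
    { carrier := {g | ∃ m i : ℤ, g = u ^ m * x ^ i}
      one_mem' := ⟨0, 0, by simp⟩
      mul_mem' := by
        rintro _ _ ⟨m, i, rfl⟩ ⟨n, j, rfl⟩
        refine ⟨m + n, i + j, ?_⟩
        rw [zpow_add, zpow_add, mul_assoc (u ^ m), ← mul_assoc (x ^ i),
          (hxu _ (zpow_mem hu n) i).eq]
        group
      inv_mem' := by
        rintro _ ⟨m, i, rfl⟩
        refine ⟨-m, -i, ?_⟩
        rw [mul_inv_rev, zpow_neg, zpow_neg, ((hxu _ (zpow_mem hu m) i).inv_inv).eq] }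
  haveI : Fact (Nat.Prime 11) := ⟨by norm_num⟩
  have huH : u ∈ H := ⟨1, 0, by simp⟩
  have hxH : x ∈ H := ⟨0, 1, by simp⟩
  have hHT : H ≤ T := by
    rintro _ ⟨m, i, rfl⟩
    exact mul_mem (zpow_mem huT m) (zpow_mem hxT i)
  obtain ⟨k, hk⟩ := (hU.isPGroup.to_le (hHT.trans hTU)).exists_card_eq
  obtain ⟨l, hl⟩ := (hU.isPGroup.to_le hTU).exists_card_eq
  have hl2 : l ≤ 2 := by
    by_contra hlt
    obtain ⟨w, hw, hwT⟩ := hT
    refine hwT ?_
    rw [Subgroup.eq_of_le_of_card_ge hTU (by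
      rw [hU.card, hl]; exact Nat.pow_le_pow_right (by norm_num) (by omega))]
    exact hw
  have hk2 : 2 ≤ k := by
    by_contra hlt
    refine hux ?_
    rw [Subgroup.eq_of_le_of_card_ge (Subgroup.zpowers_le.mpr hxH) (by
      rw [Nat.card_zpowers, C.ord, hk]
      exact (Nat.pow_le_pow_right (by norm_num) (show k ≤ 1 by omega)).trans (by norm_num))]
    exact huH
  have heq : H = T := Subgroup.eq_of_le_of_card_ge hHT (by
    rw [hk, hl]; exact Nat.pow_le_pow_right (by norm_num) (by omega))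
  exact (heq.ge hv : v ∈ H)

theorem exists_w : ∃ w : G, Commute w z ∧ w * p * w⁻¹ = p⁻¹ ∧ w * x * w⁻¹ = x⁻¹ ∧ w * w = 1 := by
  have := Fact.mk Nat.prime_three
  set S := C.set
  obtain ⟨b, hbz, hb⟩ := C.exists_sq
  set M := cz z ⊓ cz x with hM
  have hpM : p ∈ M := ⟨S.p_mem_cz, mem_cz.mpr C.xp.symm⟩
  have hbp : b * p * b⁻¹ ∈ M := by
    have hbm : b ∈ cz z := mem_cz.mpr hbz
    refine ⟨(cz z).mul_mem ((cz z).mul_mem hbm S.p_mem_cz) ((cz z).inv_mem hbm), ?_⟩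
    show b * p * b⁻¹ ∈ cz x
    have h := (C.xp.symm.map (MulAut.conj b)).pow_right 6
    simp only [MulAut.conj_apply, hb] at h
    rw [← pow_mul, show 2 * 6 = 11 + 1 from rfl, pow_add, C.x_pow, one_mul, pow_one] at h
    exact mem_cz.mpr h
  obtain ⟨⟨h, hhM⟩, hh⟩ := J4BigPrimes.conj_of_cyclic (q := 3) (W := ↥M)
    (by rw [C.card_inter I]; norm_num) (a := ⟨_, hbp⟩) (b := ⟨p, hpM⟩)
    (by rw [Subgroup.orderOf_mk]; exact (MulEquiv.orderOf_eq (MulAut.conj b) p).trans S.ord_p)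
    (by rw [Subgroup.orderOf_mk, S.ord_p])
  set c := h * b with hc
  have hcz : Commute c z := (mem_cz.mp hhM.1).mul_left hbz
  have hcx : c * x * c⁻¹ = x ^ 2 := by
    rw [hc, show h * b * x * (h * b)⁻¹ = h * (b * x * b⁻¹) * h⁻¹ by group, hb]
    exact mul_inv_eq_iff_eq_mul.mpr ((mem_cz.mp hhM.2).pow_right 2).eq
  have hcp : c ∈ Subgroup.normalizer (Subgroup.zpowers p : Set G) := by
    obtain ⟨i, hi⟩ := hh.le (Subgroup.mem_zpowers _)
    have hi' : p ^ i = h * (b * p * b⁻¹) * h⁻¹ := congrArg Subtype.val hi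
    refine J4Local.mem_normalizer_of_le ?_
    rintro _ ⟨k, rfl⟩
    rw [← conj_zpow, hc, show h * b * p * (h * b)⁻¹ = h * (b * p * b⁻¹) * h⁻¹ by group, ← hi']
    exact zpow_mem (Subgroup.zpow_mem_zpowers p i) k
  have key : ∀ j : ℕ, c ^ j * x * (c ^ j)⁻¹ = x ^ 2 ^ j := by
    intro j
    induction j with
    | zero => simp
    | succ m ih =>
      calc c ^ (m + 1) * x * (c ^ (m + 1))⁻¹ = c * (c ^ m * x * (c ^ m)⁻¹) * c⁻¹ := by
            rw [pow_succ']; group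
        _ = x ^ 2 ^ (m + 1) := by rw [ih, ← conj_pow, hcx, ← pow_mul, pow_succ']
  set w0 := c ^ 5 with hw0
  have hw0x : w0 * x * w0⁻¹ = x⁻¹ := by
    rw [key 5, eq_inv_iff_mul_eq_one, ← pow_succ, show 2 ^ 5 + 1 = 11 * 3 from rfl, pow_mul,
      C.x_pow, one_pow]
  obtain ⟨k, m, hm, hkm⟩ := Nat.exists_eq_two_pow_mul_odd (orderOf_pos w0).ne'
  set w := w0 ^ m with hw
  have hwx : w * x * w⁻¹ = x⁻¹ := by
    obtain ⟨t, rfl⟩ := hm
    have hsq : ∀ t : ℕ, (w0 ^ 2) ^ t * x * ((w0 ^ 2) ^ t)⁻¹ = x := by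
      intro t
      induction t with
      | zero => simp
      | succ s ih =>
        calc (w0 ^ 2) ^ (s + 1) * x * ((w0 ^ 2) ^ (s + 1))⁻¹
            = w0 * (w0 * ((w0 ^ 2) ^ s * x * ((w0 ^ 2) ^ s)⁻¹) * w0⁻¹) * w0⁻¹ := by
              rw [pow_succ' (w0 ^ 2) s]
              generalize (w0 ^ 2) ^ s = q
              rw [pow_two]
              group
          _ = w0 * x⁻¹ * w0⁻¹ := by rw [ih, hw0x]
          _ = (w0 * x * w0⁻¹)⁻¹ := by group
          _ = x := by rw [hw0x, inv_inv]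
    calc w * x * w⁻¹ = w0 * ((w0 ^ 2) ^ t * x * ((w0 ^ 2) ^ t)⁻¹) * w0⁻¹ := by
          rw [hw, pow_succ', pow_mul]; group
      _ = x⁻¹ := by rw [hsq, hw0x]
  have hwz : Commute w z := (hcz.pow_left 5).pow_left m
  have hwp : w ∈ Subgroup.normalizer (Subgroup.zpowers p : Set G) := pow_mem (pow_mem hcp 5) m
  have hw2k : w ^ 2 ^ k = 1 := by
    rw [hw, ← pow_mul, mul_comm, ← hkm, pow_orderOf_eq_one]
  -- `w ^ 2 ∈ {1, z}`
  have hw2x : Commute (w * w) x := by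
    refine mul_inv_eq_iff_eq_mul.mp ?_
    rw [show w * w * x * (w * w)⁻¹ = w * (w * x * w⁻¹) * w⁻¹ by group, hwx,
      show w * x⁻¹ * w⁻¹ = (w * x * w⁻¹)⁻¹ by group, hwx, inv_inv]
  have hw2z : w * w ∈ cz z := mem_cz.mpr (hwz.mul_left hwz)
  have hw2k' : (w * w) ^ 2 ^ k = 1 := by
    rw [← pow_two, ← pow_mul, mul_comm, pow_mul, hw2k, one_pow]
  have himg : S.img (w * w) = 1 := by
    have h1 : orderOf (S.img (w * w)) ∣ 2 ^ k := orderOf_dvd_of_pow_eq_one (by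
      rw [← S.img_pow hw2z, hw2k', S.img_of_mem (one_mem _)]
      exact map_one _)
    have h11 : orderOf (S.img (w * w)) ∣ 11 :=
      C.img_x ▸ orderOf_dvd_of_mem_zpowers (C.img_mem_zpowers hw2z hw2x)
    exact orderOf_eq_one_iff.mp (Nat.dvd_one.mp
      ((Nat.Coprime.pow_left k (by norm_num : Nat.Coprime 2 11)) ▸ Nat.dvd_gcd h1 h11))
  have hw2Q : w * w ∈ Q z := S.mem_Q_of_img_one hw2z himg hw2k'
  have hw2p : Commute (w * w) p := by
    rcases S.conj_zpowers_cases (mul_mem hwp hwp) with h' | h'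
    · exact mul_inv_eq_iff_eq_mul.mp h'
    · exfalso
      have hQ : w * w * p * (w * w)⁻¹ * p⁻¹ ∈ Q z := by
        rw [show w * w * p * (w * w)⁻¹ * p⁻¹ = w * w * (p * (w * w)⁻¹ * p⁻¹) by group]
        exact mul_mem hw2Q (isQ.normal S.p_z (inv_mem hw2Q))
      rw [h', mul_inv_cancel_right] at hQ
      exact S.p_not_mem hQ
  have hU' : ∀ u ∈ U, w * u * w⁻¹ ∈ U := fun u hu => hU.mem_nz_conj (J4Local.mem_normalizer_of_le (by
    rintro _ ⟨i, rfl⟩
    rw [← conj_zpow, hwx]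
    exact zpow_mem (inv_mem (Subgroup.mem_zpowers x)) i)) hu
  have hwc : ∀ d ∈ Subgroup.zpowers x, w * d * w⁻¹ = d⁻¹ := by
    rintro _ ⟨i, rfl⟩
    rw [← conj_zpow, hwx, inv_zpow]
  have hcU : ∀ c ∈ Subgroup.zpowers x, ∀ v ∈ U, Commute c v := by
    rintro _ ⟨i, rfl⟩ v hv
    exact ((mem_cz.mp (hU.le_cz hv)).zpow_right i).symm
  have hcomm_inv : ∀ u ∈ U, ∀ v ∈ U, (w * u * w⁻¹) * (w * v * w⁻¹) * (w * u * w⁻¹)⁻¹ *
      (w * v * w⁻¹)⁻¹ = (u * v * u⁻¹ * v⁻¹)⁻¹ := fun u hu v hv => by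
    rw [← hwc _ (hU.comm_mod u hu v hv)]
    group
  have hbil : ∀ u ∈ U, ∀ v ∈ U, u⁻¹ * v⁻¹ * u⁻¹⁻¹ * v⁻¹⁻¹ = u * v * u⁻¹ * v⁻¹ := fun u hu v hv => by
    have h := hcU _ (hU.comm_mod u hu v hv) (v * u) (mul_mem hv hu)
    calc u⁻¹ * v⁻¹ * u⁻¹⁻¹ * v⁻¹⁻¹ = (v * u)⁻¹ * ((u * v * u⁻¹ * v⁻¹) * (v * u)) := by group
      _ = _ := by rw [h.eq, inv_mul_cancel_left]
  have hbil1 : ∀ u ∈ U, ∀ v ∈ U, v * u⁻¹ * v⁻¹ * u⁻¹⁻¹ = u * v * u⁻¹ * v⁻¹ := fun u hu v hv => by
    have h := hcU _ (hU.comm_mod u hu v hv) u hu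
    calc v * u⁻¹ * v⁻¹ * u⁻¹⁻¹ = u⁻¹ * ((u * v * u⁻¹ * v⁻¹) * u) := by group
      _ = _ := by rw [h.eq, inv_mul_cancel_left]
  have hkill : ∀ u ∈ U, ∀ v ∈ U, (u * v * u⁻¹ * v⁻¹)⁻¹ = u * v * u⁻¹ * v⁻¹ → Commute u v := by
    intro u hu v hv h
    obtain ⟨i, hi⟩ := Subgroup.mem_zpowers_iff.mp (hU.comm_mod u hu v hv)
    rw [← hi] at h
    have h1 := zpow_sq_eq_one C.ord h.symm
    rw [hi, mul_inv_eq_one] at h1
    exact mul_inv_eq_iff_eq_mul.mp h1
  obtain ⟨u0, hu0, v0, hv0, hne0⟩ := id hne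
  have hw2 : w * w = 1 := by
    refine (S.fix _ hw2Q hw2p).resolve_right fun hwz2 => ?_
    have hux : u0 ∉ Subgroup.zpowers x := fun hm => hne0 (hcU _ hm v0 hv0)
    set v := w * u0 * w⁻¹ with hv
    have hvU := hU' u0 hu0
    have hzu : w * v * w⁻¹ = (z * u0 * z⁻¹ * u0) * u0⁻¹ := by rw [hv, ← hwz2]; group
    have hcom : Commute u0 v := by
      refine hkill _ hu0 _ hvU ?_
      have h1 := hcomm_inv u0 hu0 v hvU
      rw [← hv, comm_congr hU (one_mem _) (hU.inv_mod u0 hu0) hvU (inv_mem hu0) (one_mul v).symm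
        hzu, hbil1 u0 hu0 v hvU] at h1
      exact h1.symm
    obtain ⟨m, i, hmi⟩ := C.eq_of_commute I hU hG hne hu0 hux (T := U ⊓ cz u0) inf_le_left
      (by
        obtain ⟨a, ha, hna⟩ := C.noncentral I hU hG hne hu0 hux
        exact ⟨a, ha, fun hh => hna (mem_cz.mp hh.2).symm⟩)
      ⟨hu0, mem_cz.mpr (Commute.refl u0)⟩ ⟨hU.x_mem, mem_cz.mpr (mem_cz.mp (hU.le_cz hu0)).symm⟩ (v := v) ⟨hvU, mem_cz.mpr hcom.symm⟩
    have h2 : z * u0 * z⁻¹ = u0 ^ (m * m) * x ^ (i * m + -i) := by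
      calc z * u0 * z⁻¹ = w * v * w⁻¹ := by rw [hv, ← hwz2]; group
        _ = w * (u0 ^ m * x ^ i) * w⁻¹ := by rw [hmi]
        _ = (w * u0 * w⁻¹) ^ m * (w * x ^ i * w⁻¹) := by rw [conj_zpow]; group
        _ = (u0 ^ m * x ^ i) ^ m * x ^ (-i) := by
            rw [← hv, hmi, hwc _ (Subgroup.zpow_mem_zpowers x i), zpow_neg]
        _ = _ := by
            rw [((hcU _ (Subgroup.zpow_mem_zpowers x i) _ (zpow_mem hu0 m)).symm).mul_zpow,
              ← zpow_mul, ← zpow_mul, mul_assoc, ← zpow_add]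
    refine hux (mem_of_zpow (k := 1) (n := m * m + 1) (by rw [pow_one]; exact hU.pow u0 hu0)
      (not_dvd_sq_add_one m) ?_)
    obtain ⟨a, ha⟩ := Subgroup.mem_zpowers_iff.mp (hU.inv_mod u0 hu0)
    rw [h2, mul_assoc, (hcU _ (Subgroup.zpow_mem_zpowers x _) u0 hu0).eq, ← mul_assoc,
      ← zpow_add_one] at ha
    refine Subgroup.mem_zpowers_iff.mpr ⟨a - (i * m + -i), ?_⟩
    rw [zpow_sub, ha, mul_inv_cancel_right]
  rcases S.conj_zpowers_cases hwp with hwpp | hwpp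
  · exfalso
    have hpw : Commute w p := mul_inv_eq_iff_eq_mul.mp hwpp
    let T : Subgroup G :=
      { carrier := {u | u ∈ U ∧ w * u * w⁻¹ * u⁻¹ ∈ Subgroup.zpowers x}
        one_mem' := ⟨one_mem _, by simp⟩
        mul_mem' := by
          rintro a b ⟨ha, ha'⟩ ⟨hb, hb'⟩
          refine ⟨mul_mem ha hb, ?_⟩
          rw [show w * (a * b) * w⁻¹ * (a * b)⁻¹ =
            (w * a * w⁻¹ * a⁻¹) * (a * (w * b * w⁻¹ * b⁻¹) * a⁻¹) by group,
            mul_inv_eq_iff_eq_mul.mpr (hcU _ hb' a ha).symm.eq]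
          exact mul_mem ha' hb'
        inv_mem' := by
          rintro a ⟨ha, ha'⟩
          refine ⟨inv_mem ha, ?_⟩
          rw [show w * a⁻¹ * w⁻¹ * a⁻¹⁻¹ = a⁻¹ * (w * a * w⁻¹ * a⁻¹)⁻¹ * a⁻¹⁻¹ by group,
            mul_inv_eq_iff_eq_mul.mpr (hcU _ (inv_mem ha') a⁻¹ (inv_mem ha)).symm.eq]
          exact inv_mem ha' }
    have hTx : x ∈ T := ⟨hU.x_mem, by
      rw [hwc x (Subgroup.mem_zpowers x)]
      exact mul_mem (inv_mem (Subgroup.mem_zpowers x)) (inv_mem (Subgroup.mem_zpowers x))⟩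
    obtain ⟨u, huT, hux⟩ : ∃ u ∈ T, u ∉ Subgroup.zpowers x := by
      by_contra hcon
      push Not at hcon
      have hinvall : ∀ v ∈ U, w * v * w⁻¹ * v ∈ Subgroup.zpowers x := fun v hv => by
        have hvT : w * v * w⁻¹ * v ∈ T := by
          refine ⟨mul_mem (hU' v hv) hv, ?_⟩
          rw [show w * (w * v * w⁻¹ * v) * w⁻¹ * (w * v * w⁻¹ * v)⁻¹ =
            (w * w) * v * (w * w)⁻¹ * (w * v * w⁻¹) * v⁻¹ * (w * v * w⁻¹)⁻¹ by group, hw2]
          simpa using hU.comm_mod v hv _ (hU' v hv)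
        exact hcon _ hvT
      refine hne0 (hkill _ hu0 _ hv0 ?_)
      have h1 := hcomm_inv u0 hu0 v0 hv0
      rw [comm_congr hU (hinvall u0 hu0) (hinvall v0 hv0) (inv_mem hu0) (inv_mem hv0)
        (mul_inv_cancel_right _ _).symm (mul_inv_cancel_right _ _).symm, hbil u0 hu0 v0 hv0] at h1
      exact h1.symm
    have hTU : ∃ v ∈ U, v ∉ T := by
      by_contra hcon
      push Not at hcon
      refine hne0 (hkill _ hu0 _ hv0 ?_)
      have h1 := hcomm_inv u0 hu0 v0 hv0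
      rw [comm_congr hU (hcon u0 hu0).2 (hcon v0 hv0).2 hu0 hv0 (inv_mul_cancel_right _ _).symm
        (inv_mul_cancel_right _ _).symm] at h1
      exact h1.symm
    have hpT : p * u * p⁻¹ ∈ T := by
      have hpn : p ∈ J4BigPrimes.nz x := J4BigPrimes.cz_le_nz x hpM.2
      refine ⟨hU.mem_nz_conj hpn huT.1, ?_⟩
      rw [show w * (p * u * p⁻¹) * w⁻¹ * (p * u * p⁻¹)⁻¹ =
        (w * p) * u * (w * p)⁻¹ * (p * u * p⁻¹)⁻¹ by group, hpw.eq,
        show p * w * u * (p * w)⁻¹ * (p * u * p⁻¹)⁻¹ = p * (w * u * w⁻¹ * u⁻¹) * p⁻¹ by group]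
      exact (Subgroup.mem_normalizer_iff.mp hpn _).mp huT.2
    obtain ⟨m, i, hmi⟩ := C.eq_of_commute I hU hG hne huT.1 hux (fun a (ha : a ∈ T) => ha.1) hTU huT hTx hpT
    have hxp : p * x ^ i * p⁻¹ = x ^ i := mul_inv_eq_iff_eq_mul.mpr (C.xp.zpow_left i).symm.eq
    have hpow : ∀ n : ℕ, ∃ j : ℤ, p ^ n * u * (p ^ n)⁻¹ = u ^ (m ^ n) * x ^ j := by
      intro n
      induction n with
      | zero => exact ⟨0, by simp⟩
      | succ s ih =>
        obtain ⟨j, hj⟩ := ih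
        refine ⟨i * m ^ s + j, ?_⟩
        calc p ^ (s + 1) * u * (p ^ (s + 1))⁻¹ = p * (p ^ s * u * (p ^ s)⁻¹) * p⁻¹ := by
              rw [pow_succ']; group
          _ = (p * u * p⁻¹) ^ (m ^ s) * (p * x ^ j * p⁻¹) := by rw [hj, conj_zpow]; group
          _ = (u ^ m * x ^ i) ^ (m ^ s) * x ^ j := by
              rw [hmi, mul_inv_eq_iff_eq_mul.mpr (C.xp.zpow_left j).symm.eq]
          _ = _ := by
              rw [((hcU _ (Subgroup.zpow_mem_zpowers x i) _ (zpow_mem huT.1 m)).symm).mul_zpow,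
                ← zpow_mul, ← zpow_mul, ← pow_succ', mul_assoc, ← zpow_add]
    obtain ⟨j, hj⟩ := hpow 3
    rw [S.p_cube, one_mul, inv_one, mul_one] at hj
    have hm1 : (11 : ℤ) ∣ m - 1 := by
      by_contra hnd
      refine hux (mem_of_zpow (k := 1) (n := m ^ 3 - 1) (by rw [pow_one]; exact hU.pow u huT.1) ?_ ?_)
      · intro hd
        have h' := (ZMod.intCast_zmod_eq_zero_iff_dvd (m ^ 3 - 1) 11).mpr (by exact_mod_cast hd)
        push_cast at h'
        have h1 : (m : ZMod 11) = 1 :=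
          (show ∀ a : ZMod 11, a ^ 3 - 1 = 0 → a = 1 by decide) _ h'
        refine hnd ?_
        have h2 := (ZMod.intCast_zmod_eq_zero_iff_dvd (m - 1) 11).mp (by push_cast; rw [h1, sub_self])
        exact_mod_cast h2
      · refine Subgroup.mem_zpowers_iff.mpr ⟨-j, ?_⟩
        rw [zpow_sub, zpow_one, zpow_neg, eq_mul_inv_iff_mul_eq]
        exact inv_mul_eq_iff_eq_mul.mpr
          (hj.trans (hcU _ (Subgroup.zpow_mem_zpowers x j) _ (zpow_mem huT.1 _)).symm.eq)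
    obtain ⟨t, ht⟩ := hm1
    have hfix : p * u * p⁻¹ * u⁻¹ ∈ Subgroup.zpowers x := by
      refine Subgroup.mem_zpowers_iff.mpr ⟨i, ?_⟩
      have hum : u ^ m = u := by
        rw [show m = 11 * t + 1 by omega, zpow_add_one, zpow_mul, show (11 : ℤ) = ((11 : ℕ) : ℤ) from rfl,
          zpow_natCast, hU.pow u huT.1, one_zpow, one_mul]
      rw [hmi, hum, ← (hcU _ (Subgroup.zpow_mem_zpowers x i) u huT.1).eq, mul_inv_cancel_right]
    have hp' := C.free I hU hG S.p_z C.xp.symm huT.1 hux hfix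
    have h3 := orderOf_dvd_of_mem_zpowers hp'
    rw [S.ord_p, C.ord] at h3
    norm_num at h3
  · refine ⟨w, hwz, ?_, hwx, hw2⟩
    rw [hwpp]
    exact eq_inv_of_mul_eq_one_left (by rw [← S.p_cube, pow_succ, pow_two])

omit hU hne hG in
/-- The four classes of `C_Q(x)` modulo `⟨z⟩`. -/
theorem fixQ_cases {e : G} (he : e ∈ fixQ z x) (h1 : e ≠ 1) (hz : e ≠ z) {f : G}
    (hf : f ∈ fixQ z x) :
    ∃ a ∈ ({1, e, p * e * p⁻¹, p * (p * e * p⁻¹) * p⁻¹} : Set G), f = a ∨ f = a * z := by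
  classical
  set S := C.set
  set L := fixQ z x
  set Z := (Subgroup.zpowers z).subgroupOf L
  set e1 := p * e * p⁻¹ with he1
  set e2 := p * e1 * p⁻¹ with he2
  have m1 := C.conj_p_mem he
  have m2 := C.conj_p_mem m1
  obtain ⟨a1, a2, a3, a4⟩ := C.fixQ_mod he h1 hz
  obtain ⟨b1, b2, b3, b4⟩ := C.fixQ_mod m1 a1 a2
  have hZ : ∀ a : ↥L, a ∈ Z ↔ ((a : G) = 1 ∨ (a : G) = z) := by
    intro a
    rw [Subgroup.mem_subgroupOf]
    constructor
    · rintro ⟨i, hi⟩
      have h2 : z ^ (2 : ℤ) = 1 := by rw [zpow_two]; exact S.z_sq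
      have hi' : z ^ i = (a : G) := hi
      rcases Int.even_or_odd' i with ⟨m, rfl | rfl⟩
      · left; rw [← hi', zpow_mul, h2, one_zpow]
      · right; rw [← hi', zpow_add, zpow_mul, h2, one_zpow, one_mul, zpow_one]
    · rintro (h | h) <;> rw [h]
      exacts [one_mem _, Subgroup.mem_zpowers z]
  let g : Fin 4 → ↥L ⧸ Z := ![QuotientGroup.mk 1, QuotientGroup.mk ⟨e, he⟩,
    QuotientGroup.mk ⟨e1, m1⟩, QuotientGroup.mk ⟨e2, m2⟩]
  have heq : ∀ a b : ↥L, (QuotientGroup.mk a : ↥L ⧸ Z) = QuotientGroup.mk b →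
      (b : G) = a ∨ (b : G) = a * z := by
    intro a b h
    rcases (hZ _).mp (QuotientGroup.eq.mp h) with h' | h'
    · exact Or.inl (inv_mul_eq_one.mp (show (a : G)⁻¹ * b = 1 from h')).symm
    · exact Or.inr (inv_mul_eq_iff_eq_mul.mp (show (a : G)⁻¹ * b = z from h'))
  have hcz : ∀ v : G, v * z * z = v := fun v => by rw [mul_assoc, S.z_sq, mul_one]
  have hinj : Function.Injective g := by
    have n12 : ¬ (e1 = e ∨ e1 = e * z) := fun h => h.elim a3 a4
    have n23 : ¬ (e2 = e1 ∨ e2 = e1 * z) := fun h => h.elim b3 b4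
    have hpz : p * z * p⁻¹ = z := mul_inv_eq_iff_eq_mul.mpr S.p_z.eq
    have n13 : ¬ (e2 = e ∨ e2 = e * z) := by
      have hp3 : p * e2 * p⁻¹ = e := by
        rw [he2, he1, show p * (p * (p * e * p⁻¹) * p⁻¹) * p⁻¹ = p ^ 3 * e * (p ^ 3)⁻¹ by
          rw [pow_succ, pow_two]; group, S.p_cube]
        group
      rintro (h | h) <;> rw [h] at hp3
      · exact a3 hp3
      · refine a4 ?_
        rw [show p * (e * z) * p⁻¹ = p * e * p⁻¹ * (p * z * p⁻¹) by group, hpz, ← he1] at hp3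
        calc e1 = e1 * z * z := (hcz e1).symm
          _ = e * z := by rw [hp3]
    have n01 : ¬ (e = 1 ∨ e = 1 * z) := by rw [one_mul]; exact fun h => h.elim h1 hz
    have n02 : ¬ (e1 = 1 ∨ e1 = 1 * z) := by rw [one_mul]; exact fun h => h.elim a1 a2
    have n03 : ¬ (e2 = 1 ∨ e2 = 1 * z) := by rw [one_mul]; exact fun h => h.elim b1 b2
    intro i j h
    fin_cases i <;> fin_cases j
    all_goals first
      | rfl
      | exact absurd (heq _ _ h) n01 | exact absurd (heq _ _ h.symm) n01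
      | exact absurd (heq _ _ h) n02 | exact absurd (heq _ _ h.symm) n02
      | exact absurd (heq _ _ h) n03 | exact absurd (heq _ _ h.symm) n03
      | exact absurd (heq _ _ h) n12 | exact absurd (heq _ _ h.symm) n12
      | exact absurd (heq _ _ h) n23 | exact absurd (heq _ _ h.symm) n23
      | exact absurd (heq _ _ h) n13 | exact absurd (heq _ _ h.symm) n13
  have hcard : Nat.card (↥L ⧸ Z) ≤ Nat.card (Fin 4) := by
    have h := Subgroup.card_mul_index Z
    rw [C.card_fixQ I, Nat.card_congr (Subgroup.subgroupOfEquivOfLe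
      (Subgroup.zpowers_le.mpr C.z_mem_fixQ : Subgroup.zpowers z ≤ L)).toEquiv,
      Nat.card_zpowers, S.ord_z, Subgroup.index] at h
    rw [Nat.card_fin]
    omega
  obtain ⟨i, hi⟩ := (hinj.bijective_of_nat_card_le hcard).2 (QuotientGroup.mk ⟨f, hf⟩)
  fin_cases i
  · exact ⟨1, by simp, heq _ _ hi⟩
  · exact ⟨e, by simp, heq _ _ hi⟩
  · exact ⟨e1, by simp, heq _ _ hi⟩
  · exact ⟨e2, by simp, heq _ _ hi⟩

omit hU hne hG in
theorem exists_fixQ_elt : ∃ e ∈ fixQ z x, e ≠ 1 ∧ e ≠ z := by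
  classical
  by_contra hcon
  push Not at hcon
  have hsub : (fixQ z x : Set G) ⊆ (↑({1, z} : Finset G) : Set G) := fun a ha => by
    rw [Finset.coe_insert, Finset.coe_singleton, Set.mem_insert_iff, Set.mem_singleton_iff]
    exact or_iff_not_imp_left.mpr (hcon a ha)
  have h := Set.ncard_le_ncard hsub
  rw [Set.ncard_coe_finset, ← Nat.card_coe_set_eq] at h
  have h8 : Nat.card ↑(fixQ z x : Set G) = 8 := C.card_fixQ I
  have := h.trans Finset.card_le_two
  omega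

theorem exists_gl : ∃ K : Subgroup G, K ≤ Subgroup.normalizer (U : Set G) ∧
    Nonempty (↥K ≃* GL (Fin 2) (ZMod 3)) := by
  set S := C.set
  have hE := S.es
  obtain ⟨w, hwz, hwp, hwx, hw2⟩ := C.exists_w I hU hG hne
  have hwi : w⁻¹ = w := inv_eq_of_mul_eq_one_right hw2
  have hpz : p * z * p⁻¹ = z := mul_inv_eq_iff_eq_mul.mpr S.p_z.eq
  have hpz' : p⁻¹ * z * p = z := by rw [mul_assoc, ← S.p_z.eq, inv_mul_cancel_left]
  have hwzc : w * z * w⁻¹ = z := mul_inv_eq_iff_eq_mul.mpr hwz.eq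
  have hwL : ∀ f ∈ fixQ z x, w * f * w⁻¹ ∈ fixQ z x := fun f hf => by
    obtain ⟨hfQ, hfx⟩ := mem_fixQ.mp hf
    refine mem_fixQ.mpr ⟨isQ.normal hwz hfQ, ?_⟩
    have h := (hfx.map (MulAut.conj w)).inv_right
    simp only [MulAut.conj_apply, hwx, inv_inv] at h
    exact h
  -- a generator fixed by `w` modulo the centre
  have hwpc : ∀ v, w * (p * v * p⁻¹) * w⁻¹ = p⁻¹ * (w * v * w⁻¹) * p := fun v => by
    calc w * (p * v * p⁻¹) * w⁻¹ = (w * p * w⁻¹) * (w * v * w⁻¹) * (w * p * w⁻¹)⁻¹ := by group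
      _ = _ := by rw [hwp, inv_inv]
  obtain ⟨i0, hi0, hi1, hiz, hwi0⟩ : ∃ i0, i0 ∈ fixQ z x ∧ i0 ≠ 1 ∧ i0 ≠ z ∧
      (w * i0 * w⁻¹ = i0 ∨ w * i0 * w⁻¹ = i0 * z) := by
    obtain ⟨e, he, h1, hz⟩ := C.exists_fixQ_elt I
    have m1 := C.conj_p_mem he
    have m2 := C.conj_p_mem m1
    obtain ⟨a1, a2, -, -⟩ := C.fixQ_mod he h1 hz
    obtain ⟨b1, b2, -, -⟩ := C.fixQ_mod m1 a1 a2
    obtain ⟨a, ha, hf⟩ := C.fixQ_cases I he h1 hz (hwL e he)
    have h3 : p * (p * (p * e * p⁻¹) * p⁻¹) * p⁻¹ = e := by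
      rw [show p * (p * (p * e * p⁻¹) * p⁻¹) * p⁻¹ = p ^ 3 * e * (p ^ 3)⁻¹ by
        rw [pow_succ, pow_two]; group, S.p_cube]
      group
    have hmov : ∀ v : G, p⁻¹ * (p * v * p⁻¹ * z) * p = v * z := fun v => by
      calc p⁻¹ * (p * v * p⁻¹ * z) * p = v * (p⁻¹ * z * p) := by group
        _ = v * z := by rw [hpz']
    simp only [Set.mem_insert_iff, Set.mem_singleton_iff] at ha
    rcases ha with rfl | rfl | rfl | rfl
    · exfalso
      rw [one_mul] at hf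
      rcases hf with hf | hf
      · exact h1 (conj_eq_one_iff.mp hf)
      · exact hz (mul_left_cancel (mul_right_cancel (hf.trans hwzc.symm)))
    · exact ⟨a, he, h1, hz, hf⟩
    · refine ⟨_, m2, b1, b2, ?_⟩
      set e2 := p * (p * e * p⁻¹) * p⁻¹ with he2
      have he2' : p⁻¹ * e * p = e2 := by
        calc p⁻¹ * e * p = p⁻¹ * (p * e2 * p⁻¹) * p := by rw [h3]
          _ = e2 := by group
      have hw1 : w * (p * e * p⁻¹) * w⁻¹ = e ∨ w * (p * e * p⁻¹) * w⁻¹ = e * z := by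
        rw [hwpc]
        rcases hf with hf | hf <;> rw [hf]
        · left; group
        · right; exact hmov e
      rw [he2, hwpc, ← he2]
      rcases hw1 with hw1 | hw1 <;> rw [hw1]
      · exact Or.inl he2'
      · right
        calc p⁻¹ * (e * z) * p = (p⁻¹ * e * p) * (p⁻¹ * z * p) := by group
          _ = e2 * z := by rw [he2', hpz']
    · refine ⟨_, m1, a1, a2, ?_⟩
      rw [hwpc]
      rcases hf with hf | hf <;> rw [hf]
      · left; group
      · right; exact hmov _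
  -- orientation
  obtain ⟨i, hi, hi1', hiz', hwi', hk⟩ : ∃ i, i ∈ fixQ z x ∧ i ≠ 1 ∧ i ≠ z ∧
      (w * i * w⁻¹ = i ∨ w * i * w⁻¹ = i * z) ∧ p * (p * i * p⁻¹) * p⁻¹ = i * (p * i * p⁻¹) := by
    have m1 := C.conj_p_mem hi0
    obtain ⟨a1, a2, a3, a4⟩ := C.fixQ_mod hi0 hi1 hiz
    obtain ⟨a, ha, hf⟩ := C.fixQ_cases I hi0 hi1 hiz (mul_mem hi0 m1)
    have hii := C.sq_fixQ I hi0 hi1 hiz
    have hcz : ∀ v : G, v * z * z = v := fun v => by rw [mul_assoc, S.z_sq, mul_one]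
    have hzc : ∀ v ∈ fixQ z x, Commute v z := fun v hv => hE.comm v hv.1
    simp only [Set.mem_insert_iff, Set.mem_singleton_iff] at ha
    set j := p * i0 * p⁻¹ with hj
    rcases ha with rfl | rfl | rfl | rfl
    · exfalso
      rw [one_mul] at hf
      rcases hf with hf | hf
      · refine a4 ?_
        calc j = i0⁻¹ * (i0 * j) := by group
          _ = i0 * z := by
              rw [hf, mul_one]
              exact inv_eq_of_mul_eq_one_right (by rw [← mul_assoc, hii, S.z_sq])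
      · refine a3 ?_
        calc j = i0⁻¹ * (i0 * j) := by group
          _ = i0 := by rw [hf, ← hii, inv_mul_cancel_left]
    · exfalso
      rcases hf with hf | hf
      · exact a1 (mul_eq_left.mp hf)
      · exact a2 (mul_left_cancel hf)
    · exfalso
      rcases hf with hf | hf
      · exact hi1 (mul_eq_right.mp hf)
      · rw [(hzc j m1).eq] at hf
        exact hiz (mul_right_cancel hf)
    · rcases hf with hf | hf
      · exact ⟨i0, hi0, hi1, hiz, hwi0, hf.symm⟩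
      · refine ⟨i0 * z, mul_mem hi0 C.z_mem_fixQ, fun h => hiz ?_, fun h => hi1 (mul_eq_right.mp h),
          ?_, ?_⟩
        · exact (eq_inv_of_mul_eq_one_left h).trans hE.zinv
        · rw [show w * (i0 * z) * w⁻¹ = (w * i0 * w⁻¹) * (w * z * w⁻¹) by group, hwzc]
          rcases hwi0 with h | h <;> rw [h]
          · exact Or.inl rfl
          · exact Or.inr rfl
        · have hj' : p * (i0 * z) * p⁻¹ = j * z := by
            rw [show p * (i0 * z) * p⁻¹ = p * i0 * p⁻¹ * (p * z * p⁻¹) by group, hpz]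
          rw [hj', show p * (j * z) * p⁻¹ = p * j * p⁻¹ * (p * z * p⁻¹) by group, hpz]
          calc p * j * p⁻¹ * z = i0 * j := hf.symm
            _ = i0 * z * (j * z) := by
                rw [mul_assoc i0 z, ← mul_assoc z, ← (hzc j m1).eq, hcz]
  set j := p * i * p⁻¹ with hj
  have m1 := C.conj_p_mem hi
  obtain ⟨a1, a2, a3, a4⟩ := C.fixQ_mod hi hi1' hiz'
  have hii := C.sq_fixQ I hi hi1' hiz'
  have hjj := C.sq_fixQ I m1 a1 a2
  rw [← hj] at hjj
  have hzi : Commute i z := hE.comm i hi.1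
  have hzj : Commute j z := hE.comm j m1.1
  have hiinv : i⁻¹ = i * z := inv_eq_of_mul_eq_one_right (by rw [← mul_assoc, hii, S.z_sq])
  have hjinv : j⁻¹ = j * z := inv_eq_of_mul_eq_one_right (by rw [← mul_assoc, hjj, S.z_sq])
  have hk2 : p * j * p⁻¹ = i * j := hk
  have hsqk : (i * j) * (i * j) = z := by
    rw [← hk2, show p * j * p⁻¹ * (p * j * p⁻¹) = p * (j * j) * p⁻¹ by group, hjj, hpz]
  have hji : j * i = i * j * z := by
    have h1 : i⁻¹ * z * j⁻¹ = j * i := by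
      conv_lhs => rw [← hsqk]
      group
    rw [← h1, hiinv, hjinv, mul_assoc i z z, S.z_sq, mul_one, ← mul_assoc]
  have hp2 : p⁻¹ * i * p = i * j := by
    rw [← hk2, hj, show p * (p * i * p⁻¹) * p⁻¹ = p ^ 2 * i * (p ^ 2)⁻¹ by rw [pow_two]; group,
      show p ^ 2 = p⁻¹ from eq_inv_of_mul_eq_one_left (by rw [← pow_succ, S.p_cube])]
    group
  have hwfin : w * i * w⁻¹ = i * z := by
    refine hwi'.resolve_left fun h => hE.ne ?_
    have h1 : w * j * w⁻¹ = i * j := by rw [hj, hwpc, h, hp2]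
    have h2 : p⁻¹ * (i * j) * p = j := by rw [← hk2]; group
    have h3 : w * (i * j) * w⁻¹ = j := by rw [← hk2, hwpc, h1, h2]
    rw [show w * (i * j) * w⁻¹ = (w * i * w⁻¹) * (w * j * w⁻¹) by group, h, h1, ← mul_assoc,
      hii] at h3
    exact mul_eq_right.mp h3
  have hwj : w * j * w⁻¹ = i * j * z := by
    rw [hj, hwpc, hwfin, show p⁻¹ * (i * z) * p = (p⁻¹ * i * p) * (p⁻¹ * z * p) by group, hp2, hpz',
      hj]
  have hzz := S.z_sq
  have hcube : ∀ v, i * (i * (i * v)) = i * z * v := fun v => by rw [← hii]; group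
  have R : GL23.Rel i j p w := by
    refine ⟨by rw [← mul_assoc, hii]; exact hzz, hjj.trans hii.symm, ?_,
      by rw [← mul_assoc, ← pow_two, ← pow_succ, S.p_cube], hw2, ?_, ?_, ?_, ?_, ?_⟩
    · rw [hji, hcube, mul_assoc, hzj.eq, ← mul_assoc]
    · rw [hj]; group
    · calc p * j = (p * j * p⁻¹) * p := by group
        _ = _ := by rw [hk2, mul_assoc]
    · rw [hcube, ← hwfin]; group
    · rw [hcube]
      calc w * j = (w * j * w⁻¹) * w := by group
        _ = i * (z * j) * w := by rw [hwj, mul_assoc i j z, hzj.eq]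
        _ = _ := by group
    · calc w * p = (w * p * w⁻¹) * w := by group
        _ = p ^ 2 * w := by
            rw [hwp, show p ^ 2 = p⁻¹ from eq_inv_of_mul_eq_one_left (by rw [← pow_succ, S.p_cube])]
        _ = _ := by rw [pow_two, mul_assoc]
  obtain ⟨φ, h1, h2, h3, h4, hnf⟩ := GL23.exists_hom R
  have hix : Commute i x := (mem_fixQ.mp hi).2
  have hjx : Commute j x := (mem_fixQ.mp m1).2
  have hinj : Function.Injective φ := by
    rw [injective_iff_map_eq_one]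
    intro g hg
    obtain ⟨n, rfl⟩ := GL23.glOf_bijective.2 g
    rw [hnf, GL23.nf, mul_one] at hg
    set a := (n : ℕ) / 12 with ha
    set b := (n : ℕ) / 6 % 2 with hb
    set c := (n : ℕ) / 2 % 3 with hc
    set d := (n : ℕ) % 2 with hd
    have hq : Commute (i ^ a * (j ^ b * p ^ c)) x :=
      (hix.pow_left _).mul_left ((hjx.pow_left _).mul_left (C.xp.symm.pow_left _))
    have hd0 : d = 0 := by
      by_contra hne
      rw [show d = 1 by omega, pow_one] at hg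
      have hwx' : Commute w x := by
        rw [show w = (i ^ a * (j ^ b * p ^ c))⁻¹ from eq_inv_of_mul_eq_one_right
          (by simpa [mul_assoc] using hg)]
        exact hq.inv_left
      rw [mul_inv_eq_iff_eq_mul.mpr hwx'.eq] at hwx
      have := zpow_sq_eq_one C.ord (i := 1) (by rw [zpow_one]; exact hwx)
      rw [zpow_one] at this
      have := this ▸ C.ord
      simp at this
    rw [hd0, pow_zero, mul_one, ← mul_assoc] at hg
    have hij : i ^ a * j ^ b ∈ Q z := mul_mem (pow_mem hi.1 _) (pow_mem m1.1 _)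
    have hc0 : c = 0 := by
      have hpc : p ^ (c : ℤ) = 1 := S.zpow_mem_Q (by
        rw [zpow_natCast, eq_inv_of_mul_eq_one_right hg]
        exact inv_mem hij)
      rw [zpow_natCast] at hpc
      have := orderOf_dvd_of_pow_eq_one hpc
      rw [S.ord_p] at this
      omega
    rw [hc0, pow_zero, mul_one] at hg
    have hb0 : b = 0 := by
      by_contra hne
      rw [show b = 1 by omega, pow_one] at hg
      have hjc : Commute j i := by
        rw [eq_inv_of_mul_eq_one_right hg]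
        exact ((Commute.refl i).pow_left a).inv_left
      rw [hjc.eq] at hji
      exact hE.ne (mul_eq_left.mp hji.symm)
    rw [hb0, pow_zero, mul_one] at hg
    have ha0 : a = 0 := by
      have h4 : orderOf i = 4 := by
        haveI := Fact.mk Nat.prime_two
        refine orderOf_eq_prime_pow (p := 2) (n := 1) ?_ ?_
        · rw [pow_one, pow_two, hii]; exact hE.ne
        · rw [show 2 ^ (1 + 1) = 2 * 2 from rfl, pow_mul, pow_two i, hii, pow_two]; exact hzz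
      have := orderOf_dvd_of_pow_eq_one hg
      rw [h4] at this
      have hlt := n.isLt
      omega
    have hn : n = 0 := Fin.ext (by rw [Fin.val_zero]; omega)
    rw [hn]
    exact GL23.glOf_zero
  refine ⟨φ.range, ?_, ⟨(MonoidHom.ofInjective hinj).symm⟩⟩
  have hle : ∀ n, φ (GL23.glOf n) ∈ Subgroup.normalizer (U : Set G) := fun n => by
    rw [hnf, GL23.nf, mul_one]
    have hn : ∀ g ∈ J4BigPrimes.nz x, g ∈ Subgroup.normalizer (U : Set G) := fun g hg => hU.nz_le hg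
    have hc : ∀ g, Commute g x → g ∈ Subgroup.normalizer (U : Set G) := fun g hg =>
      hn g (J4BigPrimes.cz_le_nz x (mem_cz.mpr hg))
    refine mul_mem (pow_mem (hc _ hix) _) (mul_mem (pow_mem (hc _ hjx) _)
      (mul_mem (pow_mem (hc _ C.xp.symm) _) (pow_mem (hn w ?_) _)))
    refine J4Local.mem_normalizer_of_le ?_
    rintro _ ⟨k, rfl⟩
    rw [← conj_zpow, hwx]
    exact zpow_mem (inv_mem (Subgroup.mem_zpowers x)) k
  rintro _ ⟨g, rfl⟩
  obtain ⟨n, rfl⟩ := GL23.glOf_bijective.2 g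
  exact hle n

theorem isExtraspecial : Cfsg.IsExtraspecial 11 ↥U ∧ Monoid.exponent ↥U = 11 := by
  haveI : Fact (Nat.Prime 11) := ⟨by norm_num⟩
  have hpow : ∀ g : ↥U, g ^ 11 = 1 := fun g => Subtype.ext (hU.pow g g.2)
  have hxle : Subgroup.zpowers x ≤ U := Subgroup.zpowers_le.mpr hU.x_mem
  have hcen : Subgroup.center ↥U = (Subgroup.zpowers x).subgroupOf U := by
    ext g
    rw [Subgroup.mem_center_iff, Subgroup.mem_subgroupOf]
    constructor
    · intro h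
      by_contra hg
      obtain ⟨v, hv, hnv⟩ := C.noncentral I hU hG hne g.2 hg
      exact hnv (congrArg Subtype.val (h ⟨v, hv⟩)).symm
    · rintro ⟨i, hi⟩ v
      refine Subtype.ext ?_
      show (v : G) * g = g * v
      rw [show (g : G) = x ^ i from hi.symm]
      exact ((mem_cz.mp (hU.le_cz v.2)).zpow_right i).eq
  refine ⟨isExtraspecial_of_center hU.isPGroup hpow ?_ ?_ ?_, ?_⟩
  · rw [hcen, Nat.card_congr (Subgroup.subgroupOfEquivOfLe hxle).toEquiv, Nat.card_zpowers, C.ord]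
  · rw [commutator_def, Subgroup.commutator_le, hcen]
    intro a _ b _
    exact hU.comm_mod a a.2 b b.2
  · intro h
    obtain ⟨a, ha, b, hb, hab⟩ := hne
    rw [commutator_def, ← le_bot_iff, Subgroup.commutator_le] at h
    have := h (⟨a, ha⟩ : ↥U) (Subgroup.mem_top _) ⟨b, hb⟩ (Subgroup.mem_top _)
    rw [Subgroup.mem_bot, commutatorElement_eq_one_iff_commute] at this
    exact hab (congrArg Subtype.val this.eq)
  · rcases (Nat.dvd_prime (by norm_num : Nat.Prime 11)).mp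
      (Monoid.exponent_dvd_of_forall_pow_eq_one hpow) with h1 | h1
    · exfalso
      have h := congrArg Subtype.val
        ((Monoid.exp_eq_one_iff.1 h1).elim (⟨x, hU.x_mem⟩ : ↥U) 1)
      have hx := C.ord
      simp only [OneMemClass.coe_one] at h
      rw [h, orderOf_one] at hx
      norm_num at hx
    · exact h1

/-- All elements of `U` outside `⟨x⟩` are conjugate. -/
theorem conj_outside {u v : G} (hu : u ∈ U) (hux : u ∉ Subgroup.zpowers x) (hv : v ∈ U)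
    (hvx : v ∉ Subgroup.zpowers x) : IsConj u v := by
  obtain ⟨d, hd, hdu⟩ := C.transitive I hU hG hu hux hv hvx
  obtain ⟨c, hc, hnc⟩ := C.noncentral I hU hG hne hv hvx
  obtain ⟨a, ha⟩ := Subgroup.mem_zpowers_iff.mp (hU.comm_mod c hc v hv)
  obtain ⟨b, hb⟩ := Subgroup.mem_zpowers_iff.mp hdu
  have ha0 : (a : ZMod 11) ≠ 0 := fun h0 => hnc (by
    have h1 : x ^ a = x ^ (0 : ℤ) := zpow_eq_of_cast C.ord (by rw [h0]; norm_num)
    rw [ha, zpow_zero, mul_inv_eq_one] at h1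
    exact (mul_inv_eq_iff_eq_mul.mp h1).symm)
  obtain ⟨t, ht⟩ := (show ∀ a b : ZMod 11, a ≠ 0 → ∃ t : Fin 11, a * (t : ℕ) = b by decide)
    (a : ZMod 11) (b : ZMod 11) ha0
  have hcv : c * v * c⁻¹ = x ^ a * v := by rw [ha, inv_mul_cancel_right]
  have key : ∀ n : ℕ, c ^ n * v * (c ^ n)⁻¹ = x ^ (a * n) * v := by
    intro n
    induction n with
    | zero => simp
    | succ m ih =>
      calc c ^ (m + 1) * v * (c ^ (m + 1))⁻¹ = c * (c ^ m * v * (c ^ m)⁻¹) * c⁻¹ := by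
            rw [pow_succ']; group
        _ = (c * x ^ (a * m) * c⁻¹) * (c * v * c⁻¹) := by rw [ih]; group
        _ = x ^ (a * m) * (x ^ a * v) := by
            rw [hcv, mul_inv_eq_iff_eq_mul.mpr ((mem_cz.mp (hU.le_cz hc)).zpow_right _).eq]
        _ = _ := by rw [← mul_assoc, ← zpow_add, Nat.cast_succ, mul_add, mul_one]
  refine isConj_iff.mpr ⟨(c ^ (t : ℕ))⁻¹ * d, ?_⟩
  have e1 : d * u * d⁻¹ = x ^ b * v := by rw [hb, inv_mul_cancel_right]
  have e2 : x ^ b * v = c ^ (t : ℕ) * v * (c ^ (t : ℕ))⁻¹ := by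
    rw [key]
    congr 1
    refine zpow_eq_of_cast C.ord ?_
    push_cast
    exact ht.symm
  rw [show (c ^ (t : ℕ))⁻¹ * d * u * ((c ^ (t : ℕ))⁻¹ * d)⁻¹ =
    (c ^ (t : ℕ))⁻¹ * (d * u * d⁻¹) * c ^ (t : ℕ) by group, e1, e2]
  group

/-- Exactly two classes of elements of order eleven. -/
theorem two_classes (hsec : ∃ t : G, orderOf t = 2 ∧ ¬ IsConj z t) :
    ∃ a b : G, orderOf a = 11 ∧ orderOf b = 11 ∧ ¬ IsConj a b ∧
      ∀ w : G, orderOf w = 11 → IsConj w a ∨ IsConj w b := by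
  haveI : Fact (Nat.Prime 11) := ⟨by norm_num⟩
  obtain ⟨t, ht, htn⟩ := hsec
  obtain ⟨⟨y, hy⟩, hyo⟩ := exists_prime_orderOf_dvd_card' (G := ↥(cz t)) 11
    (by rw [J4BigPrimes.card_cent_second autFacts I ht htn]; norm_num)
  rw [Subgroup.orderOf_mk] at hyo
  have hxy : ¬ IsConj x y := fun h => by
    obtain ⟨g, hg⟩ := isConj_iff.mp h
    refine htn ?_
    have h1 := (mem_cz.mp hy).symm.map (MulAut.conj g⁻¹)
    simp only [MulAut.conj_apply, inv_inv] at h1
    rw [show g⁻¹ * y * g = x by rw [← hg]; group] at h1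
    have h2 : orderOf (g⁻¹ * t * g) = 2 := by
      rw [← ht]
      exact (congrArg orderOf (by simp : g⁻¹ * t * g = MulAut.conj g⁻¹ t)).trans
        (MulEquiv.orderOf_eq _ t)
    exact (C.involution_conj I hU h1 h2).trans (isConj_iff.mpr ⟨g, by group⟩)
  have hin : ∀ w : G, orderOf w = 11 → ∃ v, IsConj w v ∧ v ∈ U ∧ (v ∈ Subgroup.zpowers x →
      IsConj v x) := fun w hw => by
    obtain ⟨g, hg⟩ := hU.exists_conj_mem I (y := w) (by rw [← hw, pow_orderOf_eq_one])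
    refine ⟨_, isConj_iff.mpr ⟨g, rfl⟩, hg, fun hm => ?_⟩
    obtain ⟨i, hi⟩ := Subgroup.mem_zpowers_iff.mp hm
    obtain ⟨b, -, hb⟩ := C.exists_sq
    have key : ∀ j : ℕ, b ^ j * x * (b ^ j)⁻¹ = x ^ 2 ^ j := by
      intro j
      induction j with
      | zero => simp
      | succ m ih =>
        calc b ^ (m + 1) * x * (b ^ (m + 1))⁻¹ = b * (b ^ m * x * (b ^ m)⁻¹) * b⁻¹ := by
              rw [pow_succ']; group
          _ = x ^ 2 ^ (m + 1) := by rw [ih, ← conj_pow, hb, ← pow_mul, pow_succ']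
    have hi0 : (i : ZMod 11) ≠ 0 := fun h0 => by
      have h1 : x ^ i = x ^ (0 : ℤ) := zpow_eq_of_cast C.ord (by rw [h0]; norm_num)
      rw [zpow_zero, hi, conj_eq_one_iff] at h1
      rw [h1, orderOf_one] at hw
      norm_num at hw
    obtain ⟨k, hk⟩ := two_pow_surj _ hi0
    refine (isConj_iff.mpr ⟨b ^ (k : ℕ), ?_⟩).symm
    rw [key, ← hi, ← zpow_natCast]
    refine zpow_eq_of_cast C.ord ?_
    rw [← hk]
    push_cast
    rfl
  obtain ⟨y', hy', hy'U, hy'x⟩ := hin y hyo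
  have hy'out : y' ∉ Subgroup.zpowers x := fun h => hxy ((hy'.trans (hy'x h)).symm)
  refine ⟨x, y, C.ord, hyo, hxy, fun w hw => ?_⟩
  obtain ⟨v, hwv, hvU, hvx⟩ := hin w hw
  by_cases hv : v ∈ Subgroup.zpowers x
  · exact Or.inl (hwv.trans (hvx hv))
  · exact Or.inr ((hwv.trans (C.conj_outside I hU hG hne hvU hv hy'U hy'out)).trans hy'.symm)

end Ctx

end Cfsg.Agent.Lib.J4Eleven49
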