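import Cfsg.Agent.Lib.J4Eleven49.Arith

/-!
# No triple of degrees
-/

set_option autoImplicit false

namespace Cfsg.Agent.Lib.J4Eleven49.Arith

theorem mem_box {p q : ℤ} (hp : p * p ≤ 25) (hq : q * q ≤ 240) : (p, q) ∈ box := by
  have h1 : -5 ≤ p := by nlinarith
  have h2 : p ≤ 5 := by nlinarith
  have h3 : -15 ≤ q := by nlinarith
  have h4 : q ≤ 15 := by nlinarith
  simp only [box, List.mem_flatMap, List.mem_range, List.mem_map, Prod.mk.injEq]
  exact ⟨(p + 5).toNat, by omega, (q + 15).toNat, by omega, by omega, by omega⟩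

theorem inWin_iff {d : ℕ} {c p q : ℤ} :
    inWin d c (p, q) = true ↔ (d : ℤ) ≡ c + q + 10 * p [ZMOD 1331] := by
  simp only [inWin, beq_iff_eq, Int.ModEq]
  omega

theorem mem_winRes {d : ℕ} {c p q : ℤ} (hb : (p, q) ∈ box)
    (h : (d : ℤ) ≡ c + q + 10 * p [ZMOD 1331]) : (winRes c).contains (d % 1331) = true := by
  rw [List.contains_iff_mem, winRes, List.mem_map]
  refine ⟨(p, q), hb, ?_⟩
  simp only [Int.ModEq] at h
  omega

theorem mem_degWin {d : ℕ} {c p q : ℤ} (hd : d ∈ degList) (hp : p * p ≤ 25) (hq : q * q ≤ 240)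
    (h : (d : ℤ) ≡ c + q + 10 * p [ZMOD 1331]) : d ∈ degWin c :=
  List.mem_filter.mpr ⟨hd, mem_winRes (mem_box hp hq) h⟩

theorem sqOK_of {a b d : ℕ} {K : ℤ}
    (hK : K * K * 32897107 = 13762560 * ((a : ℤ) * b * d)) : sqOK a b d = true := by
  have hn : K.natAbs * K.natAbs * 32897107 = 13762560 * (a * b * d) := by
    have h := congrArg Int.natAbs hK
    simpa [Int.natAbs_mul] using h
  have hdiv : 13762560 * (a * b * d) / 32897107 = K.natAbs * K.natAbs := by
    rw [← hn, Nat.mul_div_cancel _ (by norm_num)]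
  simp only [sqOK, Bool.and_eq_true, beq_iff_eq]
  refine ⟨by rw [← hn, Nat.mul_mod_left], ?_⟩
  rw [hdiv, Nat.sqrt_eq]

/-- The data of a triple of degrees. -/
structure Triple (e sa sb : ℤ) (a b d : ℕ) : Prop where
  e_sign : e = 1 ∨ e = -1
  sa_sign : sa = 1 ∨ sa = -1
  sb_sign : sb = 1 ∨ sb = -1
  prod : sa * sb * e = 1
  degree : sa * a + sb * b = e * d
  mem : a ∈ degList ∧ b ∈ degList ∧ d ∈ degList
  square : ∃ K : ℤ, K * K * 32897107 = 13762560 * ((a : ℤ) * b * d)
  small : ∃ pa qa pb qb p q : ℤ,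
    (a : ℤ) ≡ 120 * sa + qa + 10 * pa [ZMOD 1331] ∧
    (b : ℤ) ≡ 120 * sb + qb + 10 * pb [ZMOD 1331] ∧
    (d : ℤ) ≡ 240 * e + q + 10 * p [ZMOD 1331] ∧
    sa * pa + sb * pb = e * p ∧ sa * qa + sb * qb = e * q ∧
    pa * pa + pb * pb + 4 * (p * p) + (p - e) * (p - e) ≤ 25 ∧
    qa * qa + qb * qb + 4 * (q * q) + (q - e) * (q - e) ≤ 240

theorem no_triple_pos {e : ℤ} {a b d : ℕ} (T : Triple e 1 e a b d) (hpos : 0 < a ∧ 0 < b) :
    False := by
  obtain ⟨ha, hb, hd⟩ := T.mem
  obtain ⟨K, hK⟩ := T.square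
  obtain ⟨pa, qa, pb, qb, p, q, hA, hB, hD, hp, hq, hnp, hnq⟩ := T.small
  have hpa : pa * pa ≤ 25 := by
    nlinarith only [hnp, mul_self_nonneg pa, mul_self_nonneg pb, mul_self_nonneg p,
      mul_self_nonneg qa, mul_self_nonneg qb, mul_self_nonneg q, mul_self_nonneg (p - e), mul_self_nonneg (q - e)]
  have hpb : pb * pb ≤ 25 := by
    nlinarith only [hnp, mul_self_nonneg pa, mul_self_nonneg pb, mul_self_nonneg p,
      mul_self_nonneg qa, mul_self_nonneg qb, mul_self_nonneg q, mul_self_nonneg (p - e), mul_self_nonneg (q - e)]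
  have hpp : p * p ≤ 25 := by
    nlinarith only [hnp, mul_self_nonneg pa, mul_self_nonneg pb, mul_self_nonneg p,
      mul_self_nonneg qa, mul_self_nonneg qb, mul_self_nonneg q, mul_self_nonneg (p - e), mul_self_nonneg (q - e)]
  have hqa : qa * qa ≤ 240 := by
    nlinarith only [hnq, mul_self_nonneg pa, mul_self_nonneg pb, mul_self_nonneg p,
      mul_self_nonneg qa, mul_self_nonneg qb, mul_self_nonneg q, mul_self_nonneg (p - e), mul_self_nonneg (q - e)]
  have hqb : qb * qb ≤ 240 := by
    nlinarith only [hnq, mul_self_nonneg pa, mul_self_nonneg pb, mul_self_nonneg p,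
      mul_self_nonneg qa, mul_self_nonneg qb, mul_self_nonneg q, mul_self_nonneg (p - e), mul_self_nonneg (q - e)]
  have hqq : q * q ≤ 240 := by
    nlinarith only [hnq, mul_self_nonneg pa, mul_self_nonneg pb, mul_self_nonneg p,
      mul_self_nonneg qa, mul_self_nonneg qb, mul_self_nonneg q, mul_self_nonneg (p - e), mul_self_nonneg (q - e)]
  have heq1 : p = e * (pa + e * pb) := by
    rcases T.e_sign with rfl | rfl <;> linarith
  have heq2 : q = e * (qa + e * qb) := by
    rcases T.e_sign with rfl | rfl <;> linarith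
  rw [mul_one] at hA
  have hgood : good e a b d = true := by
    simp only [good, Bool.and_eq_true, List.any_eq_true]
    refine ⟨sqOK_of hK, (pa, qa), ?_, (pb, qb), ?_, ?_, ?_⟩
    · exact List.mem_filter.mpr ⟨mem_box hpa hqa, inWin_iff.mpr hA⟩
    · exact List.mem_filter.mpr ⟨mem_box hpb hqb, inWin_iff.mpr hB⟩
    · rw [← heq1, ← heq2]; exact inWin_iff.mpr hD
    · rw [← heq1, ← heq2]
      simp only [normOK, Bool.and_eq_true, decide_eq_true_eq]
      exact ⟨hnp, hnq⟩
  have ha' := mem_degWin ha hpa hqa hA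
  have hb' := mem_degWin hb hpb hqb hB
  have hd' := mem_degWin hd hpp hqq hD
  rcases T.e_sign with rfl | rfl
  · have hsum : d = a + b := by have := T.degree; omega
    have h := List.all_eq_true.mp (List.all_eq_true.mp no_plus d (by simpa using hd')) a ha'
    have hb2 : d - a = b := by omega
    rw [hb2] at h
    have hlt : a < d := by omega
    have hbc : b ∈ degWin 120 := by simpa using hb'
    simp [hlt, hgood] at h
    exact h hbc
  · have hsum : a + d = b := by have := T.degree; omega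
    have h := List.all_eq_true.mp (List.all_eq_true.mp no_minus d (by simpa using hd')) a ha'
    rw [hsum] at h
    have hbc : b ∈ degWin (-120) := by simpa using hb'
    simp [hgood] at h
    exact h hbc

/-- There is no triple of degrees. -/
theorem no_triple {e sa sb : ℤ} {a b d : ℕ} (T : Triple e sa sb a b d) : False := by
  have hpos : ∀ n ∈ degList, 0 < n := by decide +kernel
  have hA := hpos a T.mem.1
  have hB := hpos b T.mem.2.1
  have hsb : sb = sa * e := by
    rcases T.sa_sign with rfl | rfl <;> rcases T.sb_sign with rfl | rfl <;>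
      rcases T.e_sign with rfl | rfl <;> simp_all <;> (have := T.prod; norm_num at this)
  subst hsb
  rcases T.sa_sign with rfl | rfl
  · rw [one_mul] at T
    exact no_triple_pos T ⟨hA, hB⟩
  · rcases T.e_sign with rfl | rfl
    · have := T.degree
      omega
    · obtain ⟨pa, qa, pb, qb, p, q, hA', hB', hD, hp, hq, hnp, hnq⟩ := T.small
      obtain ⟨K, hK⟩ := T.square
      refine no_triple_pos (e := -1) (a := b) (b := a) (d := d)
        ⟨Or.inr rfl, Or.inl rfl, Or.inr rfl, by norm_num, ?_, ⟨T.mem.2.1, T.mem.1, T.mem.2.2⟩,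
          ⟨K, by rw [hK]; ring⟩,
          pb, qb, pa, qa, p, q, by simpa using hB', by simpa using hA', hD, by linarith,
          by linarith, by linarith, by linarith⟩ ⟨hB, hA⟩
      have := T.degree
      linarith

end Cfsg.Agent.Lib.J4Eleven49.Arith
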