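import Cfsg.Agent.Lib.J4Eleven49.Gram
import Cfsg.Agent.Lib.J4Eleven49.ArithMain
import Cfsg.Agent.Lib.Fg6.NormThree

/-!
# The induced differences force an impossible triple of degrees

Owner: helper49.
-/

set_option autoImplicit false
set_option linter.unusedSectionVars false

namespace Cfsg.Agent.Lib.J4Eleven49

open Cfsg.Agent.Lib
open scoped ComplexConjugate

namespace Combi

section Vectors

variable {ι : Type*} [Fintype ι] [DecidableEq ι]

/-- The unit vector. -/
def dl (i : ι) : ι → ℤ := fun j => if j = i then 1 else 0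

theorem sum_dl_mul (i : ι) (v : ι → ℤ) : ∑ j, dl i j * v j = v i := by
  simp [dl]

theorem exists_two (T : Finset ι) (v : ι → ℤ) (h : ∑ i ∈ T, v i * v i = 2) :
    ∃ a ∈ T, ∃ b ∈ T, a ≠ b ∧ (v a = 1 ∨ v a = -1) ∧ (v b = 1 ∨ v b = -1) ∧
      ∀ i ∈ T, i ≠ a → i ≠ b → v i = 0 := by
  have hle : ∀ i ∈ T, v i * v i ≤ 2 := fun i hi =>
    h ▸ Finset.single_le_sum (f := fun j => v j * v j) (fun j _ => mul_self_nonneg _) hi
  have hv : ∀ i ∈ T, v i ≠ 0 → v i = 1 ∨ v i = -1 := fun i hi hne => by
    have h2 := hle i hi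
    have h3 : v i < 2 := by nlinarith
    have h4 : -2 < v i := by nlinarith
    omega
  have h' : ∑ i ∈ T.filter (fun i => v i ≠ 0), v i * v i = 2 := by
    rw [Finset.sum_filter, ← h]
    refine Finset.sum_congr rfl fun i _ => ?_
    by_cases hi : v i = 0 <;> simp [hi]
  rw [Finset.sum_congr rfl (g := fun _ => (1 : ℤ)) fun i hi => by
    obtain ⟨hT, hne⟩ := Finset.mem_filter.mp hi
    rcases hv i hT hne with e | e <;> rw [e] <;> rfl, Finset.sum_const, nsmul_eq_mul, mul_one] at h'
  obtain ⟨a, b, hab, heq⟩ := Finset.card_eq_two.mp (by exact_mod_cast h' :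
    (T.filter fun i => v i ≠ 0).card = 2)
  obtain ⟨haT, ha⟩ := Finset.mem_filter.mp (heq ▸ Finset.mem_insert_self a {b} :
    a ∈ T.filter fun i => v i ≠ 0)
  obtain ⟨hbT, hb⟩ := Finset.mem_filter.mp (heq ▸ Finset.mem_insert_of_mem (Finset.mem_singleton_self b) :
    b ∈ T.filter fun i => v i ≠ 0)
  refine ⟨a, haT, b, hbT, hab, hv a haT ha, hv b hbT hb, fun i hi hia hib => ?_⟩
  by_contra hne
  have : i ∈ ({a, b} : Finset ι) := heq ▸ Finset.mem_filter.mpr ⟨hi, hne⟩
  simp [hia, hib] at this

theorem norm_two (d : ι → ℤ) (hd : ∀ i, 0 < d i) (v : ι → ℤ) (h : ∑ i, v i * v i = 2)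
    (h0 : ∑ i, v i * d i = 0) : ∃ P M, P ≠ M ∧ ∀ i, v i = dl P i - dl M i := by
  obtain ⟨a, -, b, -, hab, ha, hb, hz⟩ := exists_two Finset.univ v h
  have hsum : v a * d a + v b * d b = 0 := by
    rw [← h0, ← Finset.sum_pair (f := fun i => v i * d i) hab]
    refine Finset.sum_subset (Finset.subset_univ _) fun i _ hi => ?_
    simp only [Finset.mem_insert, Finset.mem_singleton, not_or] at hi
    rw [hz i (Finset.mem_univ _) hi.1 hi.2, zero_mul]
  have key : ∀ P M, P ≠ M → v P = 1 → v M = -1 → (∀ i, i ≠ P → i ≠ M → v i = 0) →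
      ∀ i, v i = dl P i - dl M i := by
    intro P M hne hP hM hr i
    rcases eq_or_ne i P with rfl | hiP
    · simp [dl, hP, hne]
    · rcases eq_or_ne i M with rfl | hiM
      · simp [dl, hM, hne.symm]
      · simp [dl, hr i hiP hiM, hiP, hiM]
  have := hd a
  have := hd b
  rcases ha with ha | ha <;> rcases hb with hb | hb <;> rw [ha, hb] at hsum
  · omega
  · exact ⟨a, b, hab, key a b hab ha hb fun i h1 h2 => hz i (Finset.mem_univ _) h1 h2⟩
  · exact ⟨b, a, hab.symm, key b a hab.symm hb ha fun i h1 h2 => hz i (Finset.mem_univ _) h2 h1⟩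
  · omega

/-- Four vectors of norm two with products one are differences with a common member. -/
theorem exists_star (d : ι → ℤ) (hd : ∀ i, 0 < d i) (w : Fin 4 → ι → ℤ)
    (h0 : ∀ k, ∑ i, w k i * d i = 0)
    (hg : ∀ k l, ∑ i, w k i * w l i = if k = l then 2 else 1) :
    ∃ (e : ℤ) (c : ι) (f : Fin 4 → ι), (e = 1 ∨ e = -1) ∧ Function.Injective f ∧
      (∀ k, f k ≠ c) ∧ ∀ k i, w k i = e * (dl (f k) i - dl c i) := by
  choose P M hPM hw using fun k => norm_two d hd (w k) (by rw [hg]; simp) (h0 k)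
  have hrel : ∀ k l, k ≠ l → (P k = P l ∧ M k ≠ M l) ∨ (M k = M l ∧ P k ≠ P l) := by
    intro k l hkl
    have h := hg k l
    rw [if_neg hkl, Finset.sum_congr rfl fun i _ => by rw [hw k i, sub_mul], Finset.sum_sub_distrib,
      sum_dl_mul, sum_dl_mul, hw l, hw l] at h
    have h1 := hPM k
    have h2 := hPM l
    by_cases hP : P k = P l <;> by_cases hM : M k = M l
    · simp [dl, hP, hM, h2, h2.symm] at h
    · exact Or.inl ⟨hP, hM⟩
    · exact Or.inr ⟨hM, hP⟩
    · simp only [dl, hP, hM, if_false] at h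
      split_ifs at h <;> omega
  rcases hrel 0 1 (by decide) with ⟨h01, h01'⟩ | ⟨h01, h01'⟩
  · have hall : ∀ k, P k = P 0 := fun k => by
      by_cases hk0 : k = 0
      · rw [hk0]
      by_cases hk1 : k = 1
      · rw [hk1, h01]
      rcases hrel 0 k (Ne.symm hk0) with h | ⟨h, h'⟩
      · exact h.1.symm
      · rcases hrel 1 k (Ne.symm hk1) with ⟨g, -⟩ | ⟨g, -⟩
        · exact absurd (h01.trans g) h'
        · exact absurd (h.trans g.symm) h01'
    refine ⟨-1, P 0, M, Or.inr rfl, fun k l h => ?_, fun k => hall k ▸ (hPM k).symm, fun k i => ?_⟩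
    · by_contra hkl
      rcases hrel k l hkl with g | g
      · exact g.2 h
      · exact g.2 ((hall k).trans (hall l).symm)
    · rw [hw k i, hall k]; ring
  · have hall : ∀ k, M k = M 0 := fun k => by
      by_cases hk0 : k = 0
      · rw [hk0]
      by_cases hk1 : k = 1
      · rw [hk1, h01]
      rcases hrel 0 k (Ne.symm hk0) with ⟨h, h'⟩ | h
      · rcases hrel 1 k (Ne.symm hk1) with ⟨g, -⟩ | ⟨g, -⟩
        · exact absurd (h.trans g.symm) h01'
        · exact absurd (h01.trans g) h'
      · exact h.1.symm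
    refine ⟨1, M 0, P, Or.inl rfl, fun k l h => ?_, fun k => hall k ▸ hPM k, fun k i => ?_⟩
    · by_contra hkl
      rcases hrel k l hkl with g | g
      · exact g.2 ((hall k).trans (hall l).symm)
      · exact g.2 h
    · rw [hw k i, hall k]; ring

theorem star_dot {e : ℤ} {c : ι} {f : Fin 4 → ι} {w : Fin 4 → ι → ℤ}
    (hw : ∀ k i, w k i = e * (dl (f k) i - dl c i)) (v : ι → ℤ) (k : Fin 4) :
    ∑ i, v i * w k i = e * (v (f k) - v c) := by
  rw [← sum_dl_mul (f k) v, ← sum_dl_mul c v, ← Finset.sum_sub_distrib, Finset.mul_sum]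
  refine Finset.sum_congr rfl fun i _ => ?_
  rw [hw k i]; ring

theorem sum_three (g : ι → ℂ) {a b c : ι} (hab : a ≠ b) (hac : a ≠ c) (hbc : b ≠ c)
    (h : ∀ i, i ≠ a → i ≠ b → i ≠ c → g i = 0) : ∑ i, g i = g a + g b + g c := by
  rw [← Finset.sum_subset (Finset.subset_univ ({a, b, c} : Finset ι)) (fun i _ hi => by
    simp only [Finset.mem_insert, Finset.mem_singleton, not_or] at hi
    exact h i hi.1 hi.2.1 hi.2.2),
    Finset.sum_insert (by simp [hab, hac]), Finset.sum_pair hbc, add_assoc]

end Vectors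

theorem sq_identity {e sa sb a b d A B C : ℤ} (he : e = 1 ∨ e = -1) (hsa : sa = 1 ∨ sa = -1)
    (hsb : sb = 1 ∨ sb = -1) (hd : sa * a + sb * b = e * d) (hC : sa * A + sb * B = e * C)
    (h : 32897107 * (sa * A * A * (b * d) + sb * B * B * (a * d) - e * C * C * (a * b)) =
      13762560 * (a * b * d)) :
    32897107 * (sa * sb * e) * ((b * A - a * B) * (b * A - a * B)) = 13762560 * (a * b * d) := by
  rcases he with rfl | rfl <;> rcases hsa with rfl | rfl <;> rcases hsb with rfl | rfl
  · obtain rfl : d = a + b := by linarith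
    obtain rfl : C = A + B := by linarith
    linear_combination h
  · obtain rfl : d = a - b := by linarith
    obtain rfl : C = A - B := by linarith
    linear_combination h
  · obtain rfl : d = -a + b := by linarith
    obtain rfl : C = -A + B := by linarith
    linear_combination h
  · obtain rfl : d = -a - b := by linarith
    obtain rfl : C = -A - B := by linarith
    linear_combination h
  · obtain rfl : d = -(a + b) := by linarith
    obtain rfl : C = -(A + B) := by linarith
    linear_combination h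
  · obtain rfl : d = -(a - b) := by linarith
    obtain rfl : C = -(A - B) := by linarith
    linear_combination h
  · obtain rfl : d = -(-a + b) := by linarith
    obtain rfl : C = -(-A + B) := by linarith
    linear_combination h
  · obtain rfl : d = a + b := by linarith
    obtain rfl : C = A + B := by linarith
    linear_combination h

universe u

variable {G : Type u} [Group G] [Fintype G]

/-- A non-trivial irreducible character of a non-abelian simple group is not linear. -/
theorem one_lt_degree [IsSimpleGroup G] (hG : ¬ IsMulCommutative G) (χ : Cfsg.IrrCharacter G)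
    (hχ : χ ≠ Characters.Basic.oneChar G) : 1 < Cfsg.charDegree (χ : G → ℂ) := by
  obtain ⟨hpos, h1⟩ := H80.ClassMult.deg_spec χ
  by_contra hle
  have hd : Cfsg.charDegree (χ : G → ℂ) = 1 := by omega
  rw [hd, Nat.cast_one] at h1
  set φ := Characters.Linear.degOneHom (Characters.Basic.isCharacter_irr χ) h1
  rcases (inferInstance : φ.ker.Normal).eq_bot_or_eq_top with hk | hk
  · have hinj : Function.Injective φ := (MonoidHom.ker_eq_bot_iff φ).mp hk
    exact hG ⟨⟨fun a b => hinj (by rw [map_mul, map_mul, mul_comm])⟩⟩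
  · refine hχ (Subtype.ext (funext fun g => ?_))
    have hg : φ g = 1 := MonoidHom.mem_ker.mp (hk ▸ Subgroup.mem_top g)
    rw [← Characters.Linear.degOneHom_apply (Characters.Basic.isCharacter_irr χ) h1 g]
    show ((φ g : ℂˣ) : ℂ) = _
    rw [hg]
    rfl

theorem degree_sq_le (χ : Cfsg.IrrCharacter G) :
    Cfsg.charDegree (χ : G → ℂ) * Cfsg.charDegree (χ : G → ℂ) ≤ Nat.card G := by
  classical
  have := Fintype.ofFinite (Cfsg.IrrCharacter G)
  have h := Characters.Complete.finsum_degree_sq (G := G)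
  rw [finsum_eq_sum_of_fintype, Finset.sum_congr rfl fun ψ _ => by
    rw [(H80.ClassMult.deg_spec ψ).2]] at h
  norm_cast at h
  rw [← h, ← pow_two]
  exact Finset.single_le_sum (f := fun ψ : Cfsg.IrrCharacter G => Cfsg.charDegree (ψ : G → ℂ) ^ 2)
    (fun ψ _ => Nat.zero_le _) (Finset.mem_univ χ)

/-- The residues known at the five large primes. -/
def qList : List (ℕ × ℕ) := [(23, 22), (29, 28), (31, 10), (37, 12), (43, 14)]

/-- The indices of the four differences of norm two. -/
def idx4 : Fin 4 → Fin 8 := ![3, 4, 5, 6]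

theorem false_of_charData [IsSimpleGroup G] (hG : ¬ IsMulCommutative G)
    (hcard : Nat.card G = 86775571046077562880) (D : CharData G)
    (hres : ∀ χ : Cfsg.IrrCharacter G, χ ≠ Characters.Basic.oneChar G → ∀ qw ∈ qList,
      Arith.okRes (Cfsg.charDegree (χ : G → ℂ)) qw.1 qw.2 = true) : False := by
  classical
  have := Fintype.ofFinite (Cfsg.IrrCharacter G)
  choose v hv using fun R (χ : Cfsg.IrrCharacter G) =>
    Characters.Generalized.exists_classInner_int (D.gen R)
      (Characters.Generalized.of_isCharacter (Characters.Basic.isCharacter_irr χ))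
  set one := Characters.Basic.oneChar G with hone
  set n : Cfsg.IrrCharacter G → ℕ := fun χ => Cfsg.charDegree (χ : G → ℂ) with hndef
  have hn : ∀ χ : Cfsg.IrrCharacter G, (χ : G → ℂ) 1 = (n χ : ℂ) := fun χ => (H80.ClassMult.deg_spec χ).2
  have hexp : ∀ R g, D.F R g = ∑ χ, (v R χ : ℂ) * (χ : G → ℂ) g := by
    intro R g
    have h := congrFun (Characters.Complete.classFunction_eq_sum
      (Characters.Generalized.isClassFunction (D.gen R))) g
    simp only [Finset.sum_apply, Pi.smul_apply, smul_eq_mul, hv] at h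
    exact h
  have hsym : ∀ R (χ : Cfsg.IrrCharacter G), Cfsg.classInner (χ : G → ℂ) (D.F R) = (v R χ : ℂ) := fun R χ => by
    rw [← Induced.Basic.classInner_conj_symm, hv, map_intCast]
  -- products
  have hgram : ∀ R R' : Fin 8, R ≠ 7 → R' ≠ 7 →
      ∑ χ, v R χ * v R' χ = if R = R' then (wgt R : ℤ) + 1 else 1 := by
    intro R R' h h'
    have e : Cfsg.classInner (D.F R) (D.F R') = ∑ χ, (v R χ : ℂ) * (v R' χ : ℂ) := by
      conv_lhs => rw [Characters.Complete.classFunction_eq_sum
        (Characters.Generalized.isClassFunction (D.gen R))]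
      simp only [Characters.Basic.classInner_sum_left, Induced.Basic.classInner_smul_left, hv, hsym]
    have := e.symm.trans (D.gram R R' h h')
    split_ifs at this ⊢ with hRR <;> exact_mod_cast this
  have hv7 : ∀ χ, v 7 χ = 0 := fun χ => by
    have := hv 7 χ
    rw [D.zero7, Characters.Basic.classInner_zero_left] at this
    exact_mod_cast this.symm
  have htriv : ∀ R : Fin 8, R ≠ 7 → v R one = if R = 0 then 1 else 0 := fun R hR => by
    have := (hv R one).symm.trans (D.triv R hR)
    split_ifs at this ⊢ <;> exact_mod_cast this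
  have hzero1 : ∀ R, ∑ χ, v R χ * (n χ : ℤ) = 0 := fun R => by
    have h := D.one R
    simp only [hexp, hn] at h
    exact_mod_cast h
  -- the star
  obtain ⟨e, c, f, he, hfinj, hfc, hw⟩ := exists_star (fun χ => (n χ : ℤ))
    (fun χ => by exact_mod_cast (H80.ClassMult.deg_spec χ).1) (fun k => v (idx4 k))
    (fun k => hzero1 _) (fun k l => by
      rw [hgram _ _ ((show ∀ k, idx4 k ≠ 7 by decide) k) ((show ∀ k, idx4 k ≠ 7 by decide) l)]
      have h1 : ∀ k, wgt (idx4 k) = 1 := by decide
      have h2 : ∀ k l, idx4 k = idx4 l ↔ k = l := by decide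
      simp only [h2, h1]
      norm_num)
  have hdot : ∀ R : Fin 8, R ≠ 7 → (∀ k, R ≠ idx4 k) → ∀ k, e * (v R (f k) - v R c) = 1 := by
    intro R hR hRk k
    rw [← star_dot hw (v R) k, hgram R _ hR ((show ∀ k, idx4 k ≠ 7 by decide) k), if_neg (hRk k)]
  have hee : e * e = 1 := by rcases he with rfl | rfl <;> rfl
  have hdot' : ∀ R : Fin 8, R ≠ 7 → (∀ k, R ≠ idx4 k) → ∀ k, v R (f k) = v R c + e :=
    fun R hR hRk k => by linear_combination e * hdot R hR hRk k - (v R (f k) - v R c) * hee
  set S : Finset (Cfsg.IrrCharacter G) := insert c (Finset.univ.image f) with hSdef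
  have hsplit : ∀ u : Cfsg.IrrCharacter G → ℤ, ∑ χ, u χ * u χ =
      u c * u c + (∑ k, u (f k) * u (f k)) + ∑ χ ∈ Sᶜ, u χ * u χ := fun u => by
    rw [← Finset.sum_add_sum_compl S, hSdef, Finset.sum_insert (by simp [hfc]),
      Finset.sum_image fun a _ b _ h => hfinj h]
  -- the difference of norm three
  have h2 := hsplit (v 2)
  rw [hgram 2 2 (by decide) (by decide), if_pos rfl] at h2
  have h2f : ∀ k, v 2 (f k) = v 2 c + e := hdot' 2 (by decide) (by decide)
  simp only [h2f, Finset.sum_const, Finset.card_univ, Fintype.card_fin, nsmul_eq_mul] at h2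
  have hnn : 0 ≤ ∑ χ ∈ Sᶜ, v 2 χ * v 2 χ := Finset.sum_nonneg fun χ _ => mul_self_nonneg _
  have hc2 : v 2 c = -e := by
    by_contra hne
    have : 1 ≤ (v 2 c + e) * (v 2 c + e) := by
      have : v 2 c + e ≠ 0 := fun h => hne (by linarith)
      nlinarith [Int.one_le_abs this, abs_mul_abs_self (v 2 c + e)]
    have hw2 : wgt 2 = 2 := rfl
    rw [hw2] at h2
    push_cast at h2
    nlinarith [mul_self_nonneg (v 2 c)]
  have hf2 : ∀ k, v 2 (f k) = 0 := fun k => by rw [h2f k, hc2]; ring
  have hT2 : ∑ χ ∈ Sᶜ, v 2 χ * v 2 χ = 2 := by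
    have hw2 : wgt 2 = 2 := rfl
    rw [hc2, hw2] at h2
    push_cast at h2
    linear_combination -h2 - hee
  obtain ⟨a, haT, b, hbT, hab, hsa, hsb, hrest⟩ := exists_two _ _ hT2
  have hmem : ∀ {χ}, χ ∈ Sᶜ → χ ≠ c ∧ ∀ k, χ ≠ f k := fun {χ} h => by
    simp only [Finset.mem_compl, hSdef, Finset.mem_insert, Finset.mem_image, Finset.mem_univ,
      true_and, not_or, not_exists] at h
    exact ⟨h.1, fun k e => h.2 k e.symm⟩
  obtain ⟨hac, haf⟩ := hmem haT
  obtain ⟨hbc, hbf⟩ := hmem hbT
  have hsupp : ∀ χ, χ ≠ a → χ ≠ b → χ ≠ c → v 2 χ = 0 := by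
    intro χ hχa hχb hχc
    by_cases h : ∃ k, χ = f k
    · obtain ⟨k, rfl⟩ := h
      exact hf2 k
    · refine hrest χ ?_ hχa hχb
      simp only [Finset.mem_compl, hSdef, Finset.mem_insert, Finset.mem_image, Finset.mem_univ,
        true_and, not_or, not_exists]
      exact ⟨hχc, fun k e => h ⟨k, e.symm⟩⟩
  -- the trivial character
  have hone2 : v 2 one = 0 := by rw [htriv 2 (by decide), if_neg (by decide)]
  have hca : a ≠ one := fun h => by rcases hsa with e' | e' <;> rw [h, hone2] at e' <;> omega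
  have hcb : b ≠ one := fun h => by rcases hsb with e' | e' <;> rw [h, hone2] at e' <;> omega
  have hcc : c ≠ one := fun h => by
    rw [h, hone2] at hc2; rcases he with rfl | rfl <;> omega
  have hcf : ∀ k, f k ≠ one := fun k h => by
    have h1 := hw k (f k)
    have h2' : dl (f k) (f k) - dl c (f k) = 1 := by simp [dl, hfc k]
    rw [h2', mul_one, h, htriv _ ((show ∀ k, idx4 k ≠ 7 by decide) k),
      if_neg ((show ∀ k, idx4 k ≠ 0 by decide) k)] at h1
    rcases he with rfl | rfl <;> omega
  -- norms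
  have hlow : ∀ u : Cfsg.IrrCharacter G → ℤ,
      u c * u c + (∑ k, u (f k) * u (f k)) + u a * u a + u b * u b + u one * u one ≤
        ∑ χ, u χ * u χ := fun u => by
    rw [hsplit u]
    have honeS : one ∈ Sᶜ := by
      simp only [Finset.mem_compl, hSdef, Finset.mem_insert, Finset.mem_image, Finset.mem_univ,
        true_and, not_or, not_exists]
      exact ⟨Ne.symm hcc, fun k => hcf k⟩
    have hsub : ({a, b, one} : Finset _) ⊆ Sᶜ := by
      simp [Finset.insert_subset_iff, haT, hbT, honeS]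
    have := Finset.sum_le_sum_of_subset_of_nonneg hsub
      (f := fun χ => u χ * u χ) (fun χ _ _ => mul_self_nonneg _)
    rw [Finset.sum_insert (by simp [hab, hca]), Finset.sum_pair hcb] at this
    linarith
  have hdot2 : ∀ R : Fin 8, R ≠ 7 → R ≠ 2 →
      v 2 a * v R a + v 2 b * v R b - e * v R c = 1 := by
    intro R hR hR2
    have h := hgram 2 R (by decide) hR
    rw [if_neg (Ne.symm hR2)] at h
    rw [← Finset.sum_subset (Finset.subset_univ ({a, b, c} : Finset _)) (fun i _ hi => by
      simp only [Finset.mem_insert, Finset.mem_singleton, not_or] at hi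
      rw [hsupp i hi.1 hi.2.1 hi.2.2, zero_mul]),
      Finset.sum_insert (by simp [hab, hac]), Finset.sum_pair hbc, hc2] at h
    linear_combination h
  set p := v 1 (f 0) with hp
  set q := v 0 (f 0) with hq
  have h1c : v 1 c = p - e := by rw [hp, hdot' 1 (by decide) (by decide) 0]; ring
  have h0c : v 0 c = q - e := by rw [hq, hdot' 0 (by decide) (by decide) 0]; ring
  have h1f : ∀ k, v 1 (f k) = p := fun k => by rw [hdot' 1 (by decide) (by decide) k, h1c]; ring
  have h0f : ∀ k, v 0 (f k) = q := fun k => by rw [hdot' 0 (by decide) (by decide) k, h0c]; ring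
  have hp' : v 2 a * v 1 a + v 2 b * v 1 b = e * p := by
    have := hdot2 1 (by decide) (by decide)
    rw [h1c] at this
    linear_combination this - hee
  have hq' : v 2 a * v 0 a + v 2 b * v 0 b = e * q := by
    have := hdot2 0 (by decide) (by decide)
    rw [h0c] at this
    linear_combination this - hee
  have hn1 : v 1 a * v 1 a + v 1 b * v 1 b + 4 * (p * p) + (p - e) * (p - e) ≤ 25 := by
    have h := hlow (v 1)
    rw [hgram 1 1 (by decide) (by decide), if_pos rfl, htriv 1 (by decide), if_neg (by decide)] at h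
    simp only [h1f, h1c, Finset.sum_const, Finset.card_univ, Fintype.card_fin, nsmul_eq_mul] at h
    have hw1 : wgt 1 = 24 := rfl
    rw [hw1] at h
    push_cast at h
    linarith
  have hn0 : v 0 a * v 0 a + v 0 b * v 0 b + 4 * (q * q) + (q - e) * (q - e) ≤ 240 := by
    have h := hlow (v 0)
    rw [hgram 0 0 (by decide) (by decide), if_pos rfl, htriv 0 (by decide), if_pos rfl] at h
    simp only [h0f, h0c, Finset.sum_const, Finset.card_univ, Fintype.card_fin, nsmul_eq_mul] at h
    have hw0 : wgt 0 = 240 := rfl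
    rw [hw0] at h
    push_cast at h
    linarith
  -- degrees
  have hdeg : ∀ χ, ∃ m : ℤ, (n χ : ℤ) = 1331 * m + v 0 χ + 10 * v 1 χ + 120 * v 2 χ +
      240 * ∑ k, v (idx4 k) χ := by
    intro χ
    obtain ⟨m, hm⟩ := D.degree χ
    refine ⟨m, ?_⟩
    simp only [hn, hsym, Fin.sum_univ_eight] at hm
    rw [hv7 χ] at hm
    simp [wgt] at hm
    simp only [Fin.sum_univ_four, idx4, Matrix.cons_val_zero, Matrix.cons_val_one,
      Matrix.cons_val]
    apply Int.cast_injective (α := ℂ)
    push_cast
    rw [hm]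
    ring
  have hwk : ∀ χ, χ ≠ c → (∀ k, χ ≠ f k) → ∀ k, v (idx4 k) χ = 0 := fun χ h1 h2 k => by
    rw [hw k χ]; simp [dl, h1, h2 k]
  have hA : (n a : ℤ) ≡ 120 * v 2 a + v 0 a + 10 * v 1 a [ZMOD 1331] := by
    obtain ⟨m, hm⟩ := hdeg a
    rw [hm, Finset.sum_congr rfl fun k _ => hwk a hac haf k, Finset.sum_const_zero]
    exact Int.modEq_iff_dvd.mpr ⟨-m, by ring⟩
  have hB : (n b : ℤ) ≡ 120 * v 2 b + v 0 b + 10 * v 1 b [ZMOD 1331] := by
    obtain ⟨m, hm⟩ := hdeg b
    rw [hm, Finset.sum_congr rfl fun k _ => hwk b hbc hbf k, Finset.sum_const_zero]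
    exact Int.modEq_iff_dvd.mpr ⟨-m, by ring⟩
  have hD : (n c : ℤ) ≡ 240 * e + q + 10 * p [ZMOD 1331] := by
    obtain ⟨m, hm⟩ := hdeg c
    have hk : ∀ k, v (idx4 k) c = -e := fun k => by
      rw [hw k c]; simp [dl, (hfc k).symm]
    rw [hm, Finset.sum_congr rfl fun k _ => hk k, h0c, h1c, hc2, Finset.sum_const, Finset.card_univ,
      Fintype.card_fin, nsmul_eq_mul]
    push_cast
    exact Int.modEq_iff_dvd.mpr ⟨e - m, by ring⟩
  have hdegree : v 2 a * (n a : ℤ) + v 2 b * (n b : ℤ) = e * (n c : ℤ) := by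
    have h := hzero1 2
    rw [← Finset.sum_subset (Finset.subset_univ ({a, b, c} : Finset _)) (fun i _ hi => by
      simp only [Finset.mem_insert, Finset.mem_singleton, not_or] at hi
      rw [hsupp i hi.1 hi.2.1 hi.2.2, zero_mul]),
      Finset.sum_insert (by simp [hab, hac]), Finset.sum_pair hbc, hc2] at h
    linear_combination h
  -- values at the involution
  choose val hval using fun χ : Cfsg.IrrCharacter G => Fg6.NormThree.exists_int_involution χ
    (show D.t * D.t = 1 by rw [← pow_two, ← D.t_ord, pow_orderOf_eq_one])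
  have hsuppC : ∀ χ, χ ≠ a → χ ≠ b → χ ≠ c → (v 2 χ : ℂ) = 0 := fun χ h1 h2 h3 => by
    rw [hsupp χ h1 h2 h3, Int.cast_zero]
  have hvalsum : v 2 a * val a + v 2 b * val b = e * val c := by
    have h := D.t_zero 2
    rw [hexp, sum_three _ hab hac hbc fun i h1 h2 h3 => by rw [hsuppC i h1 h2 h3, zero_mul],
      hval, hval, hval, hc2] at h
    have h' : v 2 a * val a + v 2 b * val b + -e * val c = 0 := by exact_mod_cast h
    linear_combination h'
  have hpos : ∀ χ, (n χ : ℂ) ≠ 0 := fun χ => Nat.cast_ne_zero.mpr (H80.ClassMult.deg_spec χ).1.ne'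
  have hsq : 32897107 * (v 2 a * v 2 b * e) *
      (((n b : ℤ) * val a - (n a : ℤ) * val b) * ((n b : ℤ) * val a - (n a : ℤ) * val b)) =
        13762560 * ((n a : ℤ) * n b * n c) := by
    refine sq_identity (C := val c) he hsa hsb hdegree hvalsum ?_
    have h := D.struct
    rw [sum_three _ hab hac hbc fun i h1 h2 h3 => by rw [hv, hsuppC i h1 h2 h3, zero_mul, zero_div],
      hv, hv, hv, hval, hval, hval, hn, hn, hn, hc2] at h
    have := hpos a
    have := hpos b
    have := hpos c
    field_simp at h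
    apply Int.cast_injective (α := ℂ)
    push_cast at h ⊢
    linear_combination h
  have hsign : v 2 a * v 2 b * e = 1 := by
    have hpa := (H80.ClassMult.deg_spec a).1
    have hpb := (H80.ClassMult.deg_spec b).1
    have hpc := (H80.ClassMult.deg_spec c).1
    have : (0 : ℤ) < (n a : ℤ) * n b * n c := by positivity
    have hcases : v 2 a * v 2 b * e = 1 ∨ v 2 a * v 2 b * e = -1 := by
      rcases hsa with h1 | h1 <;> rcases hsb with h2' | h2' <;> rcases he with h3 | h3 <;>
        rw [h1, h2', h3] <;> norm_num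
    refine hcases.resolve_right fun hneg => ?_
    rw [hneg] at hsq
    nlinarith [mul_self_nonneg ((n b : ℤ) * val a - (n a : ℤ) * val b)]
  have hOK : ∀ χ, χ ≠ one → n χ ∈ Arith.degList := by
    intro χ hχ
    refine Arith.mem_degList ?_ ?_
    · have := H80.ClassMult.charDegree_dvd_card χ
      rwa [hcard] at this
    · simp only [Arith.degOK, Bool.and_eq_true, decide_eq_true_eq]
      exact ⟨⟨⟨⟨⟨⟨one_lt_degree hG χ hχ, (degree_sq_le χ).trans (le_of_eq hcard)⟩,
        hres χ hχ (23, 22) (by decide)⟩, hres χ hχ (29, 28) (by decide)⟩,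
        hres χ hχ (31, 10) (by decide)⟩, hres χ hχ (37, 12) (by decide)⟩,
        hres χ hχ (43, 14) (by decide)⟩
  refine Arith.no_triple (e := e) (sa := v 2 a) (sb := v 2 b) (a := n a) (b := n b) (d := n c)
    ⟨he, hsa, hsb, hsign, hdegree, ⟨hOK a hca, hOK b hcb, hOK c hcc⟩,
      ⟨(n b : ℤ) * val a - (n a : ℤ) * val b, ?_⟩,
      v 1 a, v 0 a, v 1 b, v 0 b, p, q, hA, hB, hD, hp', hq', hn1, hn0⟩
  rw [hsign] at hsq
  linear_combination hsq

end Combi

end Cfsg.Agent.Lib.J4Eleven49
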