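import Cfsg.Agent.Lib.J4Eleven49.Arith
import Cfsg.Agent.Lib.PrimePrincipal.Main
import Cfsg.Agent.Lib.MathieuBlocks.Values
import Cfsg.Agent.Lib.H80.ClassMult

/-!
# Residues of the degrees at a self-centralising Sylow subgroup of prime order

Owner: helper49.
-/

set_option autoImplicit false
set_option linter.unusedSectionVars false

namespace Cfsg.Agent.Lib.J4Eleven49.Residue

open Cfsg.Agent.Lib
open scoped ComplexConjugate

universe u

theorem okRes_of {d q w : ℕ} (hw0 : 0 < w) (hwq : w < q)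
    (h : (d : ℤ) ≡ 0 [ZMOD q] ∨ (d : ℤ) ≡ 1 [ZMOD q] ∨ (d : ℤ) ≡ -1 [ZMOD q] ∨
      (d : ℤ) ≡ w [ZMOD q] ∨ (d : ℤ) ≡ -(w : ℤ) [ZMOD q]) : Arith.okRes d q w = true := by
  have key : ∀ r : ℕ, r < q → (d : ℤ) ≡ (r : ℤ) [ZMOD q] → d % q = r := fun r hr hc =>
    Eq.trans (Int.natCast_modEq_iff.mp hc) (Nat.mod_eq_of_lt hr)
  simp only [Arith.okRes, Bool.or_eq_true, beq_iff_eq]
  rcases h with h | h | h | h | h
  · exact Or.inl (Or.inl (Or.inl (Or.inl (key 0 (by omega) h))))
  · exact Or.inl (Or.inl (Or.inl (Or.inr (key 1 (by omega) h))))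
  · refine Or.inl (Or.inl (Or.inr (key (q - 1) (by omega) (h.trans ?_))))
    rw [Nat.cast_sub (by omega)]
    exact Int.modEq_iff_dvd.mpr ⟨1, by push_cast; ring⟩
  · exact Or.inl (Or.inr ((key w hwq h).trans (Nat.mod_eq_of_lt hwq).symm))
  · refine Or.inr ?_
    rw [Nat.mod_eq_of_lt hwq, Nat.mod_eq_of_lt (show q - w < q by omega)]
    refine key (q - w) (by omega) (h.trans ?_)
    rw [Nat.cast_sub (by omega)]
    exact Int.modEq_iff_dvd.mpr ⟨1, by ring⟩

variable {G : Type u} [Group G] [Fintype G] {q : ℕ} [Fact q.Prime] {P : Sylow q G}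

theorem zpowers_eq (hP : Nat.card P = q) {g : G} (hg : g ∈ (P : Subgroup G)) (h1 : g ≠ 1) :
    Subgroup.zpowers g = (P : Subgroup G) := by
  refine Subgroup.eq_of_le_of_card_ge (Subgroup.zpowers_le.mpr hg) ?_
  rw [Nat.card_zpowers]
  have hdvd : orderOf g ∣ q := by
    have := orderOf_dvd_natCard (⟨g, hg⟩ : ↥(P : Subgroup G))
    rwa [Subgroup.orderOf_mk, hP] at this
  rcases (Nat.dvd_prime (Fact.out : q.Prime)).mp hdvd with h | h
  · exact absurd (orderOf_eq_one_iff.mp h) h1
  · exact le_of_eq (hP.trans h.symm)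

theorem cent_eq (hP : Nat.card P = q)
    (hC : Subgroup.centralizer ((P : Subgroup G) : Set G) = (P : Subgroup G))
    {g : G} (hg : g ∈ (P : Subgroup G)) (h1 : g ≠ 1) :
    Subgroup.centralizer ({g} : Set G) = (P : Subgroup G) := by
  conv_rhs => rw [← hC, ← zpowers_eq hP hg h1, Subgroup.zpowers_eq_closure,
    Subgroup.centralizer_closure]

open scoped Classical in
/-- The non-trivial elements of the subgroup. -/
noncomputable def sharp (P : Sylow q G) : Finset G :=
  Finset.univ.filter fun g => g ∈ (P : Subgroup G) ∧ g ≠ 1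

theorem mem_sharp {g : G} : g ∈ sharp P ↔ g ∈ (P : Subgroup G) ∧ g ≠ 1 := by
  classical
  simp [sharp]

theorem card_sharp (hP : Nat.card P = q) : (sharp P).card = q - 1 := by
  classical
  have : (sharp P) = (Finset.univ.filter fun g => g ∈ (P : Subgroup G)).erase 1 := by
    ext g; simp [sharp, and_comm]
  rw [this, Finset.card_erase_of_mem (by simp), ← Fintype.card_subtype, ← Nat.card_eq_fintype_card]
  exact congrArg (· - 1) hP

open scoped Classical in
theorem card_conj (hP : Nat.card P = q)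
    (hC : Subgroup.centralizer ((P : Subgroup G) : Set G) = (P : Subgroup G))
    {w : ℕ} (hN : Nat.card ↥(Subgroup.normalizer ((P : Subgroup G) : Set G)) = q * w)
    {g : G} (hg : g ∈ sharp P) : ((sharp P).filter fun h => IsConj g h).card = w := by
  obtain ⟨hgP, hg1⟩ := mem_sharp.mp hg
  set N := Subgroup.normalizer ((P : Subgroup G) : Set G)
  have := Fintype.ofFinite ↥N
  have hmem : ∀ n : ↥N, (n : G) * g * (n : G)⁻¹ ∈ sharp P := fun n =>
    mem_sharp.mpr ⟨(Subgroup.mem_normalizer_iff.mp n.2 g).mp hgP, fun h => hg1 (by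
      have := congrArg (fun t => (n : G)⁻¹ * t * n) h
      simpa [mul_assoc] using this)⟩
  have himg : Finset.univ.image (fun n : ↥N => (n : G) * g * (n : G)⁻¹) =
      (sharp P).filter fun h => IsConj g h := by
    ext h
    simp only [Finset.mem_image, Finset.mem_univ, true_and, Finset.mem_filter]
    constructor
    · rintro ⟨n, rfl⟩
      exact ⟨hmem n, isConj_iff.mpr ⟨n, rfl⟩⟩
    · rintro ⟨hh, hc⟩
      obtain ⟨c, hc⟩ := isConj_iff.mp hc
      obtain ⟨hhP, hh1⟩ := mem_sharp.mp hh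
      refine ⟨⟨c, Subgroup.mem_normalizer_iff.mpr fun a => ?_⟩, hc⟩
      have e1 := zpowers_eq hP hgP hg1
      have e2 := zpowers_eq hP hhP hh1
      constructor
      · intro ha
        rw [← e1] at ha
        obtain ⟨i, rfl⟩ := ha
        rw [← e2, show c * g ^ i * c⁻¹ = h ^ i by rw [← hc, conj_zpow]]
        exact Subgroup.zpow_mem_zpowers h i
      · intro ha
        rw [← e2] at ha
        obtain ⟨i, hi⟩ := ha
        have hi' : h ^ i = c * a * c⁻¹ := hi
        rw [← hc, conj_zpow] at hi'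
        rw [← mul_left_cancel (mul_right_cancel hi')]
        exact zpow_mem hgP i
  have hfib : ∀ h ∈ Finset.univ.image (fun n : ↥N => (n : G) * g * (n : G)⁻¹),
      (Finset.univ.filter fun n : ↥N => (n : G) * g * (n : G)⁻¹ = h).card = q := by
    intro h hh
    obtain ⟨n₀, -, rfl⟩ := Finset.mem_image.mp hh
    rw [← hP, ← Fintype.card_subtype, ← Nat.card_eq_fintype_card]
    refine Nat.card_congr (Equiv.ofBijective
      (fun n : {n : ↥N // (n : G) * g * (n : G)⁻¹ = (n₀ : G) * g * (n₀ : G)⁻¹} =>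
        (⟨(n₀ : G)⁻¹ * (n.1 : G), ?_⟩ : ↥(P : Subgroup G))) ⟨fun a b h => ?_, fun a => ?_⟩)
    · rw [← cent_eq hP hC hgP hg1, Subgroup.mem_centralizer_singleton_iff]
      have h := congrArg (fun t => (n₀ : G)⁻¹ * t * (n.1 : G)) n.2
      simpa [mul_assoc] using h
    · exact Subtype.ext (Subtype.ext (mul_left_cancel (congrArg Subtype.val h)))
    · have ha : Commute (a : G) g := by
        have := cent_eq hP hC hgP hg1
        exact Subgroup.mem_centralizer_singleton_iff.mp (this.symm ▸ a.2)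
      refine ⟨⟨⟨(n₀ : G) * a, mul_mem n₀.2 (Subgroup.le_normalizer a.2)⟩, ?_⟩,
        Subtype.ext (inv_mul_cancel_left _ _)⟩
      show (n₀ : G) * a * g * ((n₀ : G) * a)⁻¹ = _
      rw [mul_assoc (n₀ : G) (a : G) g, ha.eq]
      group
  have h := Finset.card_eq_sum_card_image (fun n : ↥N => (n : G) * g * (n : G)⁻¹)
    (Finset.univ : Finset ↥N)
  rw [Finset.sum_congr rfl hfib, Finset.sum_const, smul_eq_mul, Finset.card_univ,
    ← Nat.card_eq_fintype_card, hN, himg, mul_comm _ q] at h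
  exact (Nat.eq_of_mul_eq_mul_left (Fact.out : q.Prime).pos h).symm

/-- The sum of a character over the non-trivial elements. -/
noncomputable def total (P : Sylow q G) (χ : Cfsg.IrrCharacter G) : ℂ :=
  ∑ g ∈ sharp P, (χ : G → ℂ) g

theorem exists_total (hP : Nat.card P = q)
    (hC : Subgroup.centralizer ((P : Subgroup G) : Set G) = (P : Subgroup G))
    {w : ℕ} (hw0 : 0 < w) (hN : Nat.card ↥(Subgroup.normalizer ((P : Subgroup G) : Set G)) = q * w)
    (χ : Cfsg.IrrCharacter G) :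
    ∃ s : ℤ, total P χ = s ∧ (w : ℤ) ∣ s ∧
      (q : ℤ) ∣ (Cfsg.charDegree (χ : G → ℂ) : ℤ) + s := by
  classical
  have := Fintype.ofFinite ↥(P : Subgroup G)
  obtain ⟨m, hm⟩ := H80.ClassMult.exists_sum_subgroup χ (P : Subgroup G)
  have hsplit : ∑ u : ↥(P : Subgroup G), (χ : G → ℂ) u = (χ : G → ℂ) 1 + total P χ := by
    rw [← Finset.sum_subtype (Finset.univ.filter fun g => g ∈ (P : Subgroup G))
      (fun g => by simp) (fun g => (χ : G → ℂ) g),
      ← Finset.add_sum_erase _ _ (show (1 : G) ∈ Finset.univ.filter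
        (fun g => g ∈ (P : Subgroup G)) by simp), total]
    congr 2
    ext g; simp [sharp, and_comm]
  rw [hsplit, hP, (H80.ClassMult.deg_spec χ).2] at hm
  set s : ℤ := (q : ℤ) * m - Cfsg.charDegree (χ : G → ℂ) with hs
  have hts : total P χ = (s : ℂ) := by
    rw [hs]; push_cast; linear_combination hm
  set z : ℂ := ∑ K ∈ (sharp P).image ConjClasses.mk, (χ : G → ℂ) K.out with hz
  have hzs : (s : ℂ) = (w : ℂ) * z := by
    rw [← hts, total, hz, Finset.mul_sum,
      ← Finset.sum_fiberwise_of_maps_to (g := ConjClasses.mk)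
        (fun g hg => Finset.mem_image_of_mem _ hg)]
    refine Finset.sum_congr rfl fun K hK => ?_
    obtain ⟨g, hg, rfl⟩ := Finset.mem_image.mp hK
    rw [Finset.sum_congr rfl (g := fun _ => (χ : G → ℂ) (ConjClasses.mk g).out) fun h hh => by
      rw [← (Finset.mem_filter.mp hh).2]
      refine Characters.Basic.classFunction_apply_of_isConj
        (Characters.Basic.isClassFunction_irr χ) (ConjClasses.mk_eq_mk_iff_isConj.mp ?_)
      exact (Quotient.out_eq (ConjClasses.mk h)).symm]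
    rw [Finset.sum_const, nsmul_eq_mul]
    congr 2
    rw [← card_conj hP hC hN hg]
    congr 1
    ext h
    simp only [Finset.mem_filter, ConjClasses.mk_eq_mk_iff_isConj]
    exact and_congr_right fun _ => isConj_comm
  have hzint : IsIntegral ℤ z :=
    IsIntegral.sum _ fun K _ => Characters.Basic.isIntegral_apply (Characters.Basic.isCharacter_irr χ) _
  obtain ⟨k, hk⟩ := MathieuBlocks.Values.exists_int_of_rat hzint ((s : ℚ) / (w : ℚ)) (by
    push_cast
    rw [hzs, mul_div_cancel_left₀ _ (Nat.cast_ne_zero.mpr hw0.ne')])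
  refine ⟨s, hts, ⟨k, ?_⟩, ⟨m, by rw [hs]; ring⟩⟩
  rw [← hk] at hzs
  exact_mod_cast hzs

theorem sum_total_sq (hP : Nat.card P = q)
    (hC : Subgroup.centralizer ((P : Subgroup G) : Set G) = (P : Subgroup G))
    {w : ℕ} (hN : Nat.card ↥(Subgroup.normalizer ((P : Subgroup G) : Set G)) = q * w)
    [Fintype (Cfsg.IrrCharacter G)] :
    ∑ χ : Cfsg.IrrCharacter G, total P χ * conj (total P χ) = ((q - 1 : ℕ) : ℂ) * (w * q) := by
  classical
  simp only [total, map_sum, Finset.sum_mul_sum]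
  rw [Finset.sum_comm, Finset.sum_congr rfl fun g _ => Finset.sum_comm]
  rw [Finset.sum_congr rfl (g := fun _ => ((w : ℂ) * q)) fun g hg => ?_, Finset.sum_const,
    card_sharp hP, nsmul_eq_mul]
  have key : ∀ h ∈ sharp P, ∑ χ : Cfsg.IrrCharacter G, (χ : G → ℂ) g * conj ((χ : G → ℂ) h) =
      if h ∈ (sharp P).filter (fun h => IsConj g h) then (q : ℂ) else 0 := by
    intro h hh
    rw [Characters.Complete.sum_irr_mul_conj, cent_eq hP hC (mem_sharp.mp hg).1 (mem_sharp.mp hg).2,
      hP]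
    by_cases hc : IsConj g h
    · rw [if_pos hc, if_pos (Finset.mem_filter.mpr ⟨hh, hc⟩)]
    · rw [if_neg hc, if_neg fun h' => hc (Finset.mem_filter.mp h').2]
  rw [Finset.sum_congr rfl key, Finset.sum_ite_mem,
    Finset.inter_eq_right.mpr (Finset.filter_subset _ _), Finset.sum_const, nsmul_eq_mul,
    card_conj hP hC hN hg]

/-- The residues of the degrees. -/
theorem okRes_of_sylow (hP : Nat.card P = q)
    (hC : Subgroup.centralizer ((P : Subgroup G) : Set G) = (P : Subgroup G))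
    {w : ℕ} (hw : w ∣ q - 1)
    (hN : Nat.card ↥(Subgroup.normalizer ((P : Subgroup G) : Set G)) = q * w)
    (χ : Cfsg.IrrCharacter G) : Arith.okRes (Cfsg.charDegree (χ : G → ℂ)) q w = true := by
  classical
  have hqp : q.Prime := Fact.out
  have := Fintype.ofFinite (Cfsg.IrrCharacter G)
  have hq1 : 0 < q - 1 := by have := hqp.two_le; omega
  have hwle := Nat.le_of_dvd hq1 hw
  have hw0 : 0 < w := Nat.pos_of_dvd_of_pos hw hq1
  have hwq : w < q := by omega
  choose s hs hsw hsq using exists_total hP hC hw0 hN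
  obtain ⟨M, hM⟩ := Blocks.exists_isPModular q hqp
  have he : (Subgroup.centralizer ((P : Subgroup G) : Set G)).relIndex
      (Subgroup.normalizer ((P : Subgroup G) : Set G)) = w := by
    have h : (⊥ : Subgroup G).relIndex (P : Subgroup G) * (P : Subgroup G).relIndex
        (Subgroup.normalizer ((P : Subgroup G) : Set G)) = (⊥ : Subgroup G).relIndex _ :=
      Subgroup.relIndex_mul_relIndex _ _ _ bot_le Subgroup.le_normalizer
    rw [Subgroup.relIndex_bot_left, Subgroup.relIndex_bot_left, hP, hN] at h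
    rw [hC]
    exact Nat.eq_of_mul_eq_mul_left hqp.pos h
  obtain ⟨R, T, a, δ, -, hdisj, hRc, hTc, hδ, hR, hT, -, -⟩ :=
    PrimePrincipal.Main.exists_structure M hM hP he
  have hsR : ∀ θ ∈ R, s θ = ((q - 1 : ℕ) : ℤ) * a θ := by
    intro θ hθ
    obtain ⟨-, -, hval⟩ := hR θ hθ
    have h : total P θ = ((q - 1 : ℕ) : ℂ) * (a θ : ℂ) := by
      rw [total, Finset.sum_congr rfl (g := fun _ => (a θ : ℂ)) fun g hg => by
        have := hval g (mem_sharp.mp hg).1 (mem_sharp.mp hg).2 1 (one_mem _)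
          (by rw [orderOf_one, Nat.dvd_one]; exact hqp.ne_one)
        rwa [mul_one] at this, Finset.sum_const, card_sharp hP, nsmul_eq_mul]
    rw [hs] at h
    exact_mod_cast h
  have hsT : ∀ θ ∈ T, (w : ℤ) ^ 2 ≤ s θ ^ 2 := by
    intro θ hθ
    obtain ⟨k, hk⟩ := hsw θ
    have hne : k ≠ 0 := by
      rintro rfl
      have h2 : (q : ℤ) ∣ δ * (w : ℤ) := by
        have h3 := Int.modEq_iff_dvd.mp (hT θ hθ)
        have h4 := hsq θ
        rw [hk, mul_zero, add_zero] at h4
        simpa using Int.dvd_add h3 h4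
      have h5 : (q : ℤ) ∣ (w : ℤ) := by
        rcases hδ with h | h <;> simpa [h] using h2
      have := Nat.le_of_dvd hw0 (Int.natCast_dvd_natCast.mp h5)
      omega
    rw [hk, mul_pow]
    have : 1 ≤ k ^ 2 := by nlinarith [Int.one_le_abs hne, sq_abs k]
    nlinarith
  have htot : ∑ θ : Cfsg.IrrCharacter G, s θ ^ 2 = ((q - 1 : ℕ) : ℤ) * (w * q) := by
    have h := sum_total_sq hP hC hN
    simp only [hs, map_intCast] at h
    apply Int.cast_injective (α := ℂ)
    push_cast
    rw [← h]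
    exact Finset.sum_congr rfl fun θ _ => pow_two _
  by_cases hχR : χ ∈ R
  · obtain ⟨h1, h2, -⟩ := hR χ hχR
    refine okRes_of hw0 hwq ?_
    rcases h1 with h | h <;> rw [h] at h2
    · exact Or.inr (Or.inl h2)
    · exact Or.inr (Or.inr (Or.inl h2))
  by_cases hχT : χ ∈ T
  · have h2 := hT χ hχT
    refine okRes_of hw0 hwq ?_
    rcases hδ with h | h <;> rw [h] at h2
    · exact Or.inr (Or.inr (Or.inr (Or.inl (by simpa using h2))))
    · exact Or.inr (Or.inr (Or.inr (Or.inr (by simpa using h2))))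
  refine okRes_of hw0 hwq (Or.inl ?_)
  have hχU : χ ∉ R ∪ T := by simp [hχR, hχT]
  have hle : ∑ θ ∈ insert χ (R ∪ T), s θ ^ 2 ≤ ∑ θ : Cfsg.IrrCharacter G, s θ ^ 2 :=
    Finset.sum_le_sum_of_subset_of_nonneg (Finset.subset_univ _) fun θ _ _ => sq_nonneg _
  rw [Finset.sum_insert hχU, Finset.sum_union hdisj, htot] at hle
  have hR2 : ∑ θ ∈ R, s θ ^ 2 = (w : ℤ) * ((q - 1 : ℕ) : ℤ) ^ 2 := by
    rw [Finset.sum_congr rfl (g := fun _ => ((q - 1 : ℕ) : ℤ) ^ 2) fun θ hθ => by
      rw [hsR θ hθ, mul_pow]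
      rcases (hR θ hθ).1 with h | h <;> rw [h] <;> ring, Finset.sum_const, hRc, nsmul_eq_mul]
  have hT2 : ((q - 1 : ℕ) : ℤ) * w ≤ ∑ θ ∈ T, s θ ^ 2 := by
    refine le_trans (le_of_eq ?_) (Finset.card_nsmul_le_sum T _ ((w : ℤ) ^ 2) hsT)
    obtain ⟨k, hk⟩ := hw
    rw [hTc, hk, Nat.mul_div_cancel_left _ hw0, nsmul_eq_mul]
    push_cast
    ring
  have hcast : ((q - 1 : ℕ) : ℤ) = (q : ℤ) - 1 := by have := hqp.one_le; omega
  rw [hR2] at hle
  rw [hcast] at hle hT2
  have hzero : s χ = 0 := by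
    have h := mul_self_nonneg (s χ)
    have h' : s χ ^ 2 ≤ 0 := by nlinarith
    exact pow_eq_zero_iff (n := 2) (by norm_num) |>.mp (le_antisymm h' (sq_nonneg _))
  have h4 := hsq χ
  rw [hzero, add_zero] at h4
  exact Int.modEq_zero_iff_dvd.mpr h4

end Cfsg.Agent.Lib.J4Eleven49.Residue
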