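import Cfsg.Agent.Lib.J4Eleven49.Extra
import Cfsg.Agent.Lib.J4Eleven49.Combi
import Cfsg.Agent.Lib.J4Eleven49.Residue
import Cfsg.Agent.Lib.J4BigPrimes.Rows
import Cfsg.Agent.Lib.FusionP3.GenExtra.Iso

/-!
# The Sylow 11-subgroup of a group of Janko-four type

Owner: helper49.
-/

set_option autoImplicit false
set_option linter.unusedSectionVars false

namespace Cfsg.Agent.Lib.J4Eleven49

open Cfsg.Agent.Lib
open Cfsg.Agent.Lib.J4Local

/-- The Sylow 11-subgroup is not abelian. -/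
theorem exists_not_commute {G : Type*} [Group G] [Finite G] [IsSimpleGroup G]
    (hG : ¬ IsMulCommutative G) {z p x : G} {U : Subgroup G} (C : Ctx z p x)
    (I : J4BigPrimes.Inputs z) (hU : Cent z x U) : ∃ a ∈ U, ∃ b ∈ U, ¬ Commute a b := by
  classical
  by_contra hcon
  push Not at hcon
  have := Fintype.ofFinite G
  obtain ⟨L⟩ := C.exists_linData I hU hcon hG
  obtain ⟨D⟩ := C.exists_charData I hU hcon hG L
  refine Combi.false_of_charData hG I.order D fun χ _ qw hqw => ?_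
  obtain ⟨hmem, hw, htar⟩ := (show ∀ r ∈ Combi.qList, r.1 ∈ J4BigPrimes.Arith.primes ∧ r.2 ∣ r.1 - 1 ∧
    (J4BigPrimes.Arith.target r.1).1 * (J4BigPrimes.Arith.target r.1).2 = r.1 * r.2 by decide) qw hqw
  obtain ⟨hq, hqq, hqd⟩ : qw.1.Prime ∧ ¬ qw.1 ^ 2 ∣ Nat.card G ∧ qw.1 ∣ Nat.card G := by
    obtain ⟨h1, h2, h3, -, -⟩ := J4BigPrimes.mem_primes hmem
    rw [I.order]
    exact ⟨h1, h2, h3⟩
  have := Fact.mk hq
  obtain ⟨P⟩ := (inferInstance : Nonempty (Sylow qw.1 G))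
  obtain ⟨v, hv⟩ := exists_prime_orderOf_dvd_card' (G := G) qw.1 hqd
  obtain ⟨P', hP'⟩ := J4BigPrimes.sylow_of_order hqq hv
  have hP : Nat.card P = qw.1 := by
    rw [Nat.card_congr (Sylow.equiv P P').toEquiv, hP', Nat.card_zpowers, hv]
  obtain ⟨hC, hN⟩ := J4BigPrimes.sylow_structure hG C.set autFacts I hmem P
  exact Residue.okRes_of_sylow hP hC hw (hN.trans htar) χ

/-- The structure of the Sylow 11-normaliser and the classes, from the rows on the local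
subgroups. -/
theorem main_of_rows {G : Type*} [Group G] [Finite G] [IsSimpleGroup G]
    (hG : ¬ IsMulCommutative G) (z : G) (hJ : Cfsg.IsOfJankoFourTypeAt z)
    (hcard : Nat.card G = 86775571046077562880)
    (h67 : ∀ V : Subgroup G, Cfsg.IsElementaryAbelian 2 V → Nat.card ↥V = 2 ^ 11 →
      Subgroup.centralizer (V : Set G) ≤ V ∧ ∃ K : Subgroup G,
        K ≤ Subgroup.normalizer (V : Set G) ∧ K ⊓ V = ⊥ ∧
        K ⊔ V = Subgroup.normalizer (V : Set G) ∧ Cfsg.Spor.IsoM24 ↥K)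
    (h68 : ∀ V : Subgroup G, Cfsg.IsElementaryAbelian 2 V → Nat.card ↥V = 2 ^ 11 →
      ∃ z' t : G, z' ∈ V ∧ t ∈ V ∧ t ≠ 1 ∧ IsConj z z' ∧ ¬ IsConj z t ∧
      Set.ncard {v : G | ∃ n ∈ Subgroup.normalizer (V : Set G), n * z' * n⁻¹ = v} = 1771 ∧
      Set.ncard {v : G | ∃ n ∈ Subgroup.normalizer (V : Set G), n * t * n⁻¹ = v} = 276 ∧
      Subgroup.centralizer ({t} : Set G) ≤ Subgroup.normalizer (V : Set G))
    (h69 : ∀ t : G, orderOf t = 2 → ¬ IsConj z t → ∃ V K : Subgroup G,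
      V ≤ Subgroup.centralizer ({t} : Set G) ∧ K ≤ Subgroup.centralizer ({t} : Set G) ∧
      Subgroup.centralizer ({t} : Set G) ≤ Subgroup.normalizer (V : Set G) ∧
      Cfsg.IsElementaryAbelian 2 V ∧ Nat.card ↥V = 2 ^ 11 ∧ K ⊓ V = ⊥ ∧
      K ⊔ V = Subgroup.centralizer ({t} : Set G) ∧ Nonempty (↥K ≃* MulAut ↥Cfsg.Spor.M22))
    (h70 : ∃ B : Subgroup G, Nonempty (↥B ≃* Matrix.SpecialLinearGroup (Fin 5) (ZMod 2))) :
    (∀ U : Sylow 11 G, Cfsg.IsExtraspecial 11 ↥(U : Subgroup G) ∧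
      Nat.card ↥(U : Subgroup G) = 11 ^ 3 ∧ Monoid.exponent ↥(U : Subgroup G) = 11 ∧
      Nat.card ↥(Subgroup.normalizer ((U : Subgroup G) : Set G)) = 2 ^ 4 * 3 * 5 * 11 ^ 3 ∧
      ∃ K : Subgroup G, K ≤ Subgroup.normalizer ((U : Subgroup G) : Set G) ∧
        Nonempty (↥K ≃* GL (Fin 2) (ZMod 3))) ∧
    ∃ x y : G, orderOf x = 11 ∧ orderOf y = 11 ∧ ¬ IsConj x y ∧
      ∀ w : G, orderOf w = 11 → IsConj w x ∨ IsConj w y := by
  obtain ⟨p, S⟩ := Setting.of_at hJ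
  have cen : ∀ a : G, cz a ≤ Subgroup.normalizer
      ((Subgroup.zpowers a : Subgroup G) : Set G) := fun a => J4BigPrimes.cz_le_nz a
  obtain ⟨T⟩ := (inferInstance : Nonempty (Sylow 2 G))
  obtain ⟨V, hV, -⟩ := J4Big.RowS5566.unique_of_facts autFacts ⟨z, hJ⟩ T
  have I : J4BigPrimes.Inputs z := by
    refine ⟨hcard, ?_, ?_, fun x hx hxz => ?_, fun x hx hxz => ?_,
      fun W hW hc => (h67 W hW hc).1, h69⟩
    · obtain ⟨-, K, -, -, -, ⟨iso⟩⟩ := h67 V hV.2.1 hV.2.2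
      exact ⟨K.subtype.comp iso.symm.toMonoidHom,
        Subtype.coe_injective.comp iso.symm.injective⟩
    · obtain ⟨B, ⟨iso⟩⟩ := h70
      exact ⟨B.subtype.comp iso.symm.toMonoidHom,
        Subtype.coe_injective.comp iso.symm.injective⟩
    · obtain ⟨-, -, -, hN⟩ := J4Five.five_of_rows hG z hJ h67 h68 h69 (Subgroup.zpowers x)
        (by rw [Nat.card_zpowers, hx]) (Subgroup.zpowers_le.mpr hxz)
      exact (Subgroup.card_dvd_of_le (cen x)).trans (dvd_of_eq (hN.trans (by norm_num)))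
    · obtain ⟨-, -, -, hN⟩ := J4Seven.seven_of_rows hG z hJ h67 h68 h69 (Subgroup.zpowers x)
        (by rw [Nat.card_zpowers, hx]) (Subgroup.zpowers_le.mpr hxz)
      exact (Subgroup.card_dvd_of_le (cen x)).trans (dvd_of_eq (hN.trans (by norm_num)))
  have hsec : ∃ t : G, orderOf t = 2 ∧ ¬ IsConj z t := by
    obtain ⟨-, t, -, htV, ht1, -, htn, -⟩ := h68 V hV.2.1 hV.2.2
    exact ⟨t, orderOf_eq_prime (hV.2.1.2 t htV) ht1, htn⟩
  haveI : Fact (Nat.Prime 11) := ⟨by norm_num⟩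
  obtain ⟨x, C⟩ := exists_ctx S
  obtain ⟨U₀, hU⟩ := C.exists_cent I hG
  have hne := exists_not_commute hG C I hU
  refine ⟨fun U => ?_, C.two_classes I hU hG hne hsec⟩
  obtain ⟨hex, hexp⟩ := C.isExtraspecial I hU hG hne
  obtain ⟨K, hK, ⟨iso⟩⟩ := C.exists_gl I hU hG hne
  obtain ⟨P, hP⟩ := hU.exists_sylow I
  have hnrm : Nat.card ↥(Subgroup.normalizer ((P : Subgroup G) : Set G)) = 319440 := by
    rw [hP, C.normalizer_eq I hG hU, C.card_nz I hU]
  subst hP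
  let e : ↥(P : Subgroup G) ≃* ↥(U : Subgroup G) := Sylow.equiv P U
  refine ⟨FusionP3.GenExtra.isExtraspecial_congr e hex,
    (Nat.card_congr e.toEquiv).symm.trans hU.card,
    (Monoid.exponent_eq_of_mulEquiv e).symm.trans hexp, ?_, ?_⟩
  · have h1 := Subgroup.card_mul_index (Subgroup.normalizer ((P : Subgroup G) : Set G))
    have h2 := Subgroup.card_mul_index (Subgroup.normalizer ((U : Subgroup G) : Set G))
    have hi : ∀ Q : Sylow 11 G,
        (Subgroup.normalizer ((Q : Subgroup G) : Set G)).index = Nat.card (Sylow 11 G) :=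
      fun Q => (Sylow.card_eq_index_normalizer Q).symm
    rw [hi P, ← h2, hnrm, hi U] at h1
    exact (Nat.eq_of_mul_eq_mul_right Nat.card_pos h1).symm.trans (by norm_num)
  · obtain ⟨g, hg⟩ := MulAction.exists_smul_eq G P U
    refine ⟨K.map (MulAut.conj g).toMonoidHom, ?_,
      ⟨(K.equivMapOfInjective _ (MulAut.conj g).injective).symm.trans iso⟩⟩
    rintro _ ⟨k, hk, rfl⟩
    refine Sylow.smul_eq_iff_mem_normalizer.mp ?_
    have hk' : k • P = P := Sylow.smul_eq_iff_mem_normalizer.mpr (hK hk)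
    show (g * k * g⁻¹) • U = U
    rw [← hg, ← mul_smul, inv_mul_cancel_right, mul_smul, hk']

end Cfsg.Agent.Lib.J4Eleven49
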