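import Cfsg.Agent.Lib.J4Eleven49.Orbit
import Cfsg.Agent.Lib.J4Five.Fix

/-!
# The local structure in the case of an abelian Sylow 11-subgroup

Owner: helper49.
-/

set_option autoImplicit false
set_option linter.unusedSectionVars false
set_option linter.style.haveILetI false

namespace Cfsg.Agent.Lib.J4Eleven49

open Cfsg.Agent.Lib
open Cfsg.Agent.Lib.J4Local
open Cfsg.Agent.Lib.LargeExtraspecial.Basic

variable {G : Type*} [Group G]

/-- The elements of an abelian subgroup inverted by an element. -/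
def aSub (z : G) (U : Subgroup G) (hab : ∀ a ∈ U, ∀ b ∈ U, Commute a b) : Subgroup G where
  carrier := {u | u ∈ U ∧ z * u * z⁻¹ = u⁻¹}
  one_mem' := ⟨one_mem _, by simp⟩
  mul_mem' := by
    rintro a b ⟨ha, ha'⟩ ⟨hb, hb'⟩
    refine ⟨mul_mem ha hb, ?_⟩
    rw [show z * (a * b) * z⁻¹ = (z * a * z⁻¹) * (z * b * z⁻¹) by group, ha', hb', mul_inv_rev,
      ((hab a ha b hb).inv_inv).eq]
  inv_mem' := by
    rintro a ⟨ha, ha'⟩
    refine ⟨inv_mem ha, ?_⟩
    rw [show z * a⁻¹ * z⁻¹ = (z * a * z⁻¹)⁻¹ by group, ha']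

/-- The involutions inverting an element. -/
def invSet (u : G) : Set G := {j | orderOf j = 2 ∧ j * u * j⁻¹ = u⁻¹}

theorem mem_invSet {u j : G} : j ∈ invSet u ↔ orderOf j = 2 ∧ j * u * j⁻¹ = u⁻¹ := Iff.rfl

theorem orderOf_two {j : G} (h : orderOf j = 2) : j * j = 1 ∧ j ≠ 1 ∧ j⁻¹ = j := by
  have h2 : j * j = 1 := by rw [← pow_two, ← h, pow_orderOf_eq_one]
  exact ⟨h2, fun h1 => by rw [h1, orderOf_one] at h; norm_num at h, inv_eq_of_mul_eq_one_right h2⟩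

theorem orderOf_eq_two {j : G} (h : j * j = 1) (h1 : j ≠ 1) : orderOf j = 2 := by
  haveI := Fact.mk Nat.prime_two
  exact orderOf_eq_prime (by rw [pow_two, h]) h1

variable [Finite G] {z p x : G} {U : Subgroup G}

/-- Self-inverse powers of an element of order eleven are trivial. -/
theorem zpow_self_inv (hx : orderOf x = 11) {i : ℤ} (h : x ^ i = x ^ (-i)) : x ^ i = 1 := by
  rw [zpow_eq_zpow_iff_modEq, hx, Int.ModEq] at h
  refine orderOf_dvd_iff_zpow_eq_one.mp ?_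
  rw [hx]
  omega

namespace Ctx

variable (C : Ctx z p x) (I : J4BigPrimes.Inputs z) (hU : Cent z x U)
variable (hab : ∀ a ∈ U, ∀ b ∈ U, Commute a b)
include C I hU hab

omit I in
theorem decompose {u : G} (hu : u ∈ U) : ∃ i : ℤ, ∃ a ∈ aSub z U hab, u = x ^ i * a := by
  obtain ⟨k, hk⟩ := Subgroup.mem_zpowers_iff.mp (hU.inv_mod u hu)
  refine ⟨6 * k, (x ^ (6 * k))⁻¹ * u, ⟨mul_mem (inv_mem (zpow_mem hU.x_mem _)) hu, ?_⟩, by group⟩
  have hz : z * u * z⁻¹ = x ^ k * u⁻¹ := by rw [hk, mul_inv_cancel_right]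
  have hxz : z * (x ^ (6 * k))⁻¹ * z⁻¹ = (x ^ (6 * k))⁻¹ :=
    mul_inv_eq_iff_eq_mul.mpr ((C.xz.symm.zpow_right _).inv_right).eq
  have h6 : (x ^ (6 * k))⁻¹ * x ^ k = x ^ (6 * k) := by
    rw [← zpow_neg, ← zpow_add]
    rw [zpow_eq_zpow_iff_modEq, C.ord, Int.ModEq]
    omega
  calc z * ((x ^ (6 * k))⁻¹ * u) * z⁻¹ = (z * (x ^ (6 * k))⁻¹ * z⁻¹) * (z * u * z⁻¹) := by group
    _ = x ^ (6 * k) * u⁻¹ := by rw [hxz, hz, ← mul_assoc, h6]
    _ = ((x ^ (6 * k))⁻¹ * u)⁻¹ := by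
        rw [mul_inv_rev, inv_inv]
        exact ((mem_cz.mp (hU.le_cz hu)).zpow_right _).inv_left.eq.symm

omit I in
theorem inter_aSub {d : G} (hd : d ∈ aSub z U hab) (hdx : d ∈ Subgroup.zpowers x) : d = 1 := by
  obtain ⟨i, rfl⟩ := hdx
  refine zpow_self_inv C.ord ?_
  have h := hd.2
  simp only at h
  rw [mul_inv_eq_iff_eq_mul.mpr (C.xz.symm.zpow_right i).eq] at h
  rw [zpow_neg]
  exact h

omit I in
theorem decompose_unique {i j : ℤ} {a b : G} (ha : a ∈ aSub z U hab) (hb : b ∈ aSub z U hab)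
    (h : x ^ i * a = x ^ j * b) : x ^ i = x ^ j ∧ a = b := by
  have h1 : a * b⁻¹ = 1 := C.inter_aSub hU hab (mul_mem ha (inv_mem hb))
    (Subgroup.mem_zpowers_iff.mpr ⟨-i + j, by
      rw [zpow_add, zpow_neg, eq_mul_inv_iff_mul_eq, mul_assoc, ← h, inv_mul_cancel_left]⟩)
  have h2 := mul_inv_eq_one.mp h1
  subst h2
  exact ⟨mul_right_cancel h, rfl⟩

omit I in
theorem aSub_conj {g a : G} (hg : g ∈ J4BigPrimes.nz x) (hgz : Commute g z)
    (ha : a ∈ aSub z U hab) : g * a * g⁻¹ ∈ aSub z U hab := by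
  refine ⟨hU.mem_nz_conj hg ha.1, ?_⟩
  have hz : g⁻¹ * z * g = z := by rw [mul_assoc, ← hgz.eq, inv_mul_cancel_left]
  calc z * (g * a * g⁻¹) * z⁻¹ = g * ((g⁻¹ * z * g) * a * (g⁻¹ * z * g)⁻¹) * g⁻¹ := by group
    _ = g * a⁻¹ * g⁻¹ := by rw [hz, ha.2]
    _ = _ := by group

omit I in
theorem z_not_commute {a : G} (ha : a ∈ aSub z U hab) (h1 : a ≠ 1) : ¬ Commute a z := fun h => by
  have h' := ha.2
  rw [mul_inv_eq_iff_eq_mul.mpr h.symm.eq] at h'
  have h11 := hU.pow a ha.1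
  have h2 : a ^ 2 = 1 := by rw [pow_two]; exact eq_inv_iff_mul_eq_one.mp h'
  refine h1 ?_
  rw [pow_succ, show (10 : ℕ) = 2 * 5 from rfl, pow_mul, h2, one_pow, one_mul] at h11
  exact h11

omit I in
theorem not_mem_zpowers {a : G} (ha : a ∈ aSub z U hab) (h1 : a ≠ 1) :
    a ∉ Subgroup.zpowers x := fun h => h1 (C.inter_aSub hU hab ha h)

variable [IsSimpleGroup G] (hG : ¬ IsMulCommutative G)
include hG

theorem card_aSub : Nat.card ↥(aSub z U hab) = 121 := by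
  let f : ↥(Subgroup.zpowers x) × ↥(aSub z U hab) → ↥U := fun a =>
    ⟨a.1 * a.2, mul_mem (Subgroup.zpowers_le.mpr hU.x_mem a.1.2) a.2.2.1⟩
  have hf : Function.Bijective f := by
    constructor
    · rintro ⟨⟨_, i, rfl⟩, a⟩ ⟨⟨_, j, rfl⟩, b⟩ h
      obtain ⟨h1, h2⟩ := C.decompose_unique hU hab a.2 b.2 (congrArg Subtype.val h)
      exact Prod.ext (Subtype.ext h1) (Subtype.ext h2)
    · rintro ⟨u, hu⟩
      obtain ⟨i, a, ha, rfl⟩ := C.decompose hU hab hu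
      exact ⟨(⟨x ^ i, Subgroup.zpow_mem_zpowers x i⟩, ⟨a, ha⟩), rfl⟩
  have h := Nat.card_eq_of_bijective f hf
  rw [Nat.card_prod, Nat.card_zpowers, C.ord, hU.card] at h
  omega

theorem not_conj {u : G} (hu : u ∈ U) (hux : u ∉ Subgroup.zpowers x) : ¬ IsConj x u := fun h => by
  obtain ⟨g, hg⟩ := isConj_iff.mp h
  refine hux ?_
  have hgn : g⁻¹ ∈ Subgroup.normalizer (U : Set G) := by
    refine J4Local.mem_normalizer_of_le fun v hv => ?_
    refine hU.mem_of_pow (k := 1) (mem_cz.mpr ?_) (by rw [pow_one, conj_pow, hU.pow v hv]; group)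
    have h := (hab v hv u hu).map (MulAut.conj g⁻¹)
    simp only [MulAut.conj_apply] at h
    rwa [show g⁻¹ * u * g⁻¹⁻¹ = x by rw [← hg]; group] at h
  rw [C.normalizer_eq I hG hU] at hgn
  have := (Subgroup.mem_normalizer_iff.mp (inv_mem hgn) x).mp (Subgroup.mem_zpowers x)
  rwa [inv_inv, hg] at this

theorem no_z {u t : G} (hu : u ∈ U) (hux : u ∉ Subgroup.zpowers x) (ht : IsConj z t) :
    ¬ Commute t u := fun hc => by
  haveI : Fact (Nat.Prime 11) := ⟨by norm_num⟩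
  obtain ⟨g, hg⟩ := isConj_iff.mp ht
  have h1 := hc.symm.map (MulAut.conj g⁻¹)
  simp only [MulAut.conj_apply, inv_inv] at h1
  rw [show g⁻¹ * t * g = z by rw [← hg]; group] at h1
  set u' := g⁻¹ * u * g with hu'
  have huo : orderOf u = 11 :=
    orderOf_eq_prime (hU.pow u hu) fun h => hux (h ▸ one_mem _)
  have ho : orderOf u' = 11 := by
    rw [hu', ← huo]
    exact (congrArg orderOf (by simp : g⁻¹ * u * g = MulAut.conj g⁻¹ u)).trans
      (MulEquiv.orderOf_eq _ u)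
  obtain ⟨⟨h, hh⟩, hconj⟩ := J4BigPrimes.conj_of_cyclic (q := 11) (W := ↥(cz z))
    (by rw [C.set.card_cz autFacts]; norm_num) (a := ⟨u', mem_cz.mpr h1⟩) (b := ⟨x, C.x_mem⟩)
    (by rw [Subgroup.orderOf_mk, ho]) (by rw [Subgroup.orderOf_mk, C.ord])
  obtain ⟨i, hi⟩ := hconj.ge (Subgroup.mem_zpowers _)
  have hi' : (h * u' * h⁻¹) ^ i = x := congrArg Subtype.val hi
  have hx1 : x = (h * g⁻¹) * u ^ i * (h * g⁻¹)⁻¹ := by rw [← hi', hu', ← conj_zpow]; group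
  refine C.not_conj I hU hab hG (zpow_mem hu i) (fun hm => ?_)
    (isConj_iff.mpr ⟨(h * g⁻¹)⁻¹, by rw [hx1]; group⟩)
  refine hux (mem_of_zpow (k := 1) (n := i) (by rw [pow_one]; exact hU.pow u hu) ?_ hm)
  intro hd
  obtain ⟨m, rfl⟩ := hd
  rw [zpow_mul, show (11 : ℤ) = ((11 : ℕ) : ℤ) from rfl, zpow_natCast, hU.pow u hu, one_zpow,
    mul_one, mul_inv_cancel] at hx1
  have := C.ord
  rw [hx1, orderOf_one] at this
  norm_num at this

theorem cz_le_nz_of_mem {u : G} (hu : u ∈ U) (hu1 : u ≠ 1) :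
    cz u ≤ J4BigPrimes.nz x := by
  haveI : Fact (Nat.Prime 11) := ⟨by norm_num⟩
  have huo : orderOf u = 11 := orderOf_eq_prime (hU.pow u hu) hu1
  by_cases hux : u ∈ Subgroup.zpowers x
  · have heq : Subgroup.zpowers u = Subgroup.zpowers x :=
      Subgroup.eq_of_le_of_card_ge (Subgroup.zpowers_le.mpr hux)
        (by rw [Nat.card_zpowers, Nat.card_zpowers, huo, C.ord])
    rw [J4BigPrimes.cz_eq_of_zpowers heq]
    exact J4BigPrimes.cz_le_nz x
  have hd := card_cz_eleven hG C.set I huo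
  have h3 : ¬ 3 ∣ Nat.card ↥(cz u) := fun h => by
    have := Fact.mk Nat.prime_three
    obtain ⟨⟨r, hr⟩, hro⟩ := exists_prime_orderOf_dvd_card' (G := ↥(cz u)) 3 h
    rw [Subgroup.orderOf_mk] at hro
    obtain ⟨g, hg⟩ := isConj_iff.mp (C.set.three_conj hG autFacts hro)
    refine C.no_z I hU hab hG hu hux (t := g * z * g⁻¹) (isConj_iff.mpr ⟨g, rfl⟩) ?_
    exact ((C.set.conj g).centralizer_p_le hG autFacts
      (show Commute u (g * p * g⁻¹) by rw [hg]; exact (mem_cz.mp hr).symm)).symm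
  have hd8 : Nat.card ↥(cz u) ∣ 2 ^ 3 * 11 ^ 3 :=
    ((Nat.Prime.coprime_iff_not_dvd Nat.prime_three).mpr h3).symm.dvd_of_dvd_mul_left
      (hd.trans (dvd_of_eq (by norm_num)))
  have hUu : U ≤ cz u := fun v hv => mem_cz.mpr (hab v hv u hu)
  set W := U.subgroupOf (cz u) with hW
  have hWc : Nat.card ↥W = 11 ^ 3 :=
    (Nat.card_congr (Subgroup.subgroupOfEquivOfLe hUu).toEquiv).trans hU.card
  obtain ⟨P, hP⟩ := (IsPGroup.of_card hWc).exists_le_sylow
  have hPW : (P : Subgroup ↥(cz u)) = W := by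
    refine (Subgroup.eq_of_le_of_card_ge hP ?_).symm
    obtain ⟨k, hk⟩ := P.2.exists_card_eq
    rw [hk, hWc]
    refine Nat.pow_le_pow_right (by norm_num) ?_
    by_contra hlt
    have h := ((pow_dvd_pow 11 (show 4 ≤ k by omega)).trans
      (hk ▸ Subgroup.card_subgroup_dvd_card _)).trans hd8
    norm_num at h
  have hidx : W.index ∣ 2 ^ 3 := by
    have h := Subgroup.card_mul_index W
    rw [hWc] at h
    rw [← h, mul_comm (2 ^ 3)] at hd8
    exact Nat.dvd_of_mul_dvd_mul_left (by norm_num) hd8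
  have hn1 : Nat.card (Sylow 11 ↥(cz u)) = 1 := by
    have h1 := P.card_dvd_index
    rw [hPW] at h1
    have h2 : Nat.card (Sylow 11 ↥(cz u)) ∣ 8 := h1.trans hidx
    have h3 := card_sylow_modEq_one 11 ↥(cz u)
    have h8 := Nat.le_of_dvd (by norm_num) h2
    have hpos : 0 < Nat.card (Sylow 11 ↥(cz u)) := Nat.card_pos
    rw [Nat.ModEq] at h3
    omega
  haveI : Subsingleton (Sylow 11 ↥(cz u)) := (Nat.card_eq_one_iff_unique.mp hn1).1
  intro g hg
  rw [← C.normalizer_eq I hG hU]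
  refine J4Local.mem_normalizer_of_le fun v hv => ?_
  have h : (⟨g, hg⟩ : ↥(cz u)) * ⟨v, hUu hv⟩ * ⟨g, hg⟩⁻¹ ∈ (P : Subgroup ↥(cz u)) := by
    have h0 : ((⟨g, hg⟩ : ↥(cz u)) • P : Sylow 11 ↥(cz u)) = P := Subsingleton.elim _ _
    rw [← h0, Sylow.coe_subgroup_smul]
    refine Subgroup.smul_mem_pointwise_smul _ (MulAut.conj _) _ ?_
    rw [hPW, hW, Subgroup.mem_subgroupOf]
    exact hv
  rw [hPW, hW, Subgroup.mem_subgroupOf] at h
  exact h

/-- Fusion in `U`. -/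
theorem fusion {u g : G} (hu : u ∈ U) (hu1 : u ≠ 1) (h : g * u * g⁻¹ ∈ U) :
    g ∈ J4BigPrimes.nz x := by
  haveI : Fact (Nat.Prime 11) := ⟨by norm_num⟩
  set u' := g * u * g⁻¹ with hu'
  have hu'1 : u' ≠ 1 := fun hh => hu1 (conj_eq_one_iff.mp hh)
  rw [← C.normalizer_eq I hG hU]
  refine J4Local.mem_normalizer_of_le fun v hv => ?_
  have hv' : g * v * g⁻¹ ∈ cz u' := mem_cz.mpr ((hab v hv u hu).map (MulAut.conj g))
  have hn := C.cz_le_nz_of_mem I hU hab hG h hu'1 hv'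
  obtain ⟨i, hi⟩ := conj_x_of_nz hn
  have hp : (g * v * g⁻¹) ^ 11 = 1 := by rw [conj_pow, hU.pow v hv]; group
  have key : ∀ n : ℕ, (g * v * g⁻¹) ^ n * x * ((g * v * g⁻¹) ^ n)⁻¹ = x ^ (i ^ n) := by
    intro n
    induction n with
    | zero => simp
    | succ m ih =>
      calc (g * v * g⁻¹) ^ (m + 1) * x * ((g * v * g⁻¹) ^ (m + 1))⁻¹
          = (g * v * g⁻¹) * ((g * v * g⁻¹) ^ m * x * ((g * v * g⁻¹) ^ m)⁻¹) * (g * v * g⁻¹)⁻¹ := by
            rw [pow_succ']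
            generalize (g * v * g⁻¹) ^ m = q
            group
        _ = (x ^ i) ^ (i ^ m) := by rw [ih, ← conj_zpow, hi]
        _ = _ := by rw [← zpow_mul, ← pow_succ']
  have h11 := key 11
  rw [hp, one_mul, inv_one, mul_one] at h11
  have hi1 : (i : ZMod 11) = 1 := by
    have h' : x ^ (1 : ℤ) = x ^ (i ^ 11) := by rw [zpow_one]; exact h11
    rw [zpow_eq_zpow_iff_modEq, C.ord] at h'
    have h'' := (ZMod.intCast_eq_intCast_iff _ _ _).mpr h'
    push_cast at h''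
    rw [ZMod.pow_card] at h''
    exact h''.symm
  refine hU.mem_of_pow (k := 1) (mem_cz.mpr (mul_inv_eq_iff_eq_mul.mp ?_)) (by rw [pow_one]; exact hp)
  rw [hi, zpow_eq_of_cast C.ord (b := 1) (by rw [hi1]; norm_num), zpow_one]

/-- The elements outside `⟨x⟩` meet `C(x)` only in `U`. -/
theorem mem_of_cz {u c : G} (hu : u ∈ U) (hux : u ∉ Subgroup.zpowers x) (hcx : Commute c x)
    (hcu : Commute c u) : c ∈ U := by
  obtain ⟨v, hv, hvz⟩ := hU.decomp c (mem_cz.mpr hcx)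
  have hfree := C.free I hU hG hvz (Commute.mul_left (mem_cz.mp (hU.le_cz hv)) hcx) hu hux (by
    rw [show v * c * u * (v * c)⁻¹ * u⁻¹ = v * (c * u * c⁻¹) * v⁻¹ * u⁻¹ by group,
      mul_inv_eq_iff_eq_mul.mpr hcu.eq, mul_inv_eq_iff_eq_mul.mpr (hab v hv u hu).eq,
      mul_inv_cancel]
    exact one_mem _)
  rw [show c = v⁻¹ * (v * c) by group]
  exact mul_mem (inv_mem hv) (Subgroup.zpowers_le.mpr hU.x_mem hfree)

/-- No involution centralises a subgroup of order 121. -/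
theorem no_121 {j : G} (hj : orderOf j = 2) : ¬ aSub z U hab ≤ cz j := fun h => by
  have hd := Subgroup.card_dvd_of_le h
  rw [C.card_aSub I hU hab hG] at hd
  by_cases hz : IsConj z j
  · obtain ⟨g, rfl⟩ := isConj_iff.mp hz
    rw [J4BigPrimes.card_cz_conj, C.set.card_cz autFacts] at hd
    norm_num at hd
  · rw [J4BigPrimes.card_cent_second autFacts I hj hz] at hd
    norm_num at hd

theorem transitive_aSub {a b : G} (ha : a ∈ aSub z U hab) (ha1 : a ≠ 1) (hb : b ∈ aSub z U hab)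
    (hb1 : b ≠ 1) : ∃ d ∈ dSub z x, d * a * d⁻¹ = b := by
  obtain ⟨d, hd, h⟩ := C.transitive I hU hG ha.1 (C.not_mem_zpowers hU hab ha ha1) hb.1
    (C.not_mem_zpowers hU hab hb hb1)
  refine ⟨d, hd, mul_inv_eq_one.mp (C.inter_aSub hU hab ?_ h)⟩
  exact mul_mem (C.aSub_conj hU hab hd.1 (mem_cz.mp hd.2) ha) (inv_mem hb)

/-- An element of `N(⟨x⟩) ∩ C(z)` fixing a non-trivial element of `A` inverts or centralises `x`. -/
theorem fix_cases {a d : G} (ha : a ∈ aSub z U hab) (ha1 : a ≠ 1) (hd : d ∈ dSub z x)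
    (hda : Commute d a) : d ∈ Subgroup.zpowers x ∨ d * x * d⁻¹ = x⁻¹ := by
  have hax := C.not_mem_zpowers hU hab ha ha1
  have h2 := C.fix_acts I hU hG hd ha.1 hax (by
    rw [mul_inv_eq_iff_eq_mul.mpr hda.eq, mul_inv_cancel]; exact one_mem _)
  obtain ⟨i, hi⟩ := conj_x_of_nz hd.1
  have hii : x ^ (i * i) = x ^ (1 : ℤ) := by
    rw [zpow_mul, ← hi, conj_zpow, ← hi, zpow_one]
    rw [show d * (d * x * d⁻¹) * d⁻¹ = d * d * x * (d * d)⁻¹ by group]
    exact mul_inv_eq_iff_eq_mul.mpr h2.eq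
  rw [zpow_eq_zpow_iff_modEq, C.ord] at hii
  have h' := (ZMod.intCast_eq_intCast_iff _ _ _).mpr hii
  push_cast at h'
  rcases (show ∀ a : ZMod 11, a * a = 1 → a = 1 ∨ a = -1 by decide) _ h' with h1 | h1
  · left
    refine C.free I hU hG (mem_cz.mp hd.2) (mul_inv_eq_iff_eq_mul.mp ?_) ha.1 hax ?_
    · rw [hi, zpow_eq_of_cast C.ord (b := 1) (by rw [h1]; norm_num), zpow_one]
    · rw [mul_inv_eq_iff_eq_mul.mpr hda.eq, mul_inv_cancel]; exact one_mem _
  · right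
    rw [hi, zpow_eq_of_cast C.ord (b := -1) (by rw [h1]; norm_num), zpow_neg_one]

end Ctx

end Cfsg.Agent.Lib.J4Eleven49
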