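import Mathlib

/-!
# The arithmetic behind the exclusion of an abelian Sylow 11-subgroup in a group of Janko-four type

Degrees are divisors of the group order with prescribed residues at 23, 29, 31, 37, 43; three of
them, linked linearly, congruent to prescribed windows modulo `11 ^ 3` and satisfying a square
condition, do not exist.
-/

set_option autoImplicit false

namespace Cfsg.Agent.Lib.J4Eleven49.Arith

/-- The order of the group. -/
def order : ℕ := 86775571046077562880

/-- The residues allowed at a prime `q` whose normaliser has index `e` over the subgroup. -/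
def okRes (d q e : ℕ) : Bool :=
  d % q == 0 || d % q == 1 || d % q == q - 1 || d % q == e % q || d % q == (q - e % q) % q

/-- The prime powers in the order of the group. -/
def parts : List (ℕ × ℕ) :=
  [(2, 21), (3, 3), (5, 1), (7, 1), (11, 3), (23, 1), (29, 1), (31, 1), (37, 1), (43, 1)]

/-- All divisors of a product of prime powers. -/
def divs : List (ℕ × ℕ) → List ℕ
  | [] => [1]
  | (p, k) :: rest => (List.range (k + 1)).flatMap fun i => (divs rest).map fun m => p ^ i * m

/-- The product of prime powers. -/
def value : List (ℕ × ℕ) → ℕ
  | [] => 1
  | (p, k) :: rest => p ^ k * value rest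

theorem mem_divs : ∀ L : List (ℕ × ℕ), (∀ x ∈ L, x.1.Prime) → ∀ d, d ∣ value L → d ∈ divs L
  | [], _, d, hd => by simp [divs, Nat.dvd_one.mp hd]
  | (p, k) :: rest, hL, d, hd => by
      have hp : p.Prime := hL (p, k) (List.mem_cons_self ..)
      obtain ⟨d1, d2, h1, h2, rfl⟩ := exists_dvd_and_dvd_of_dvd_mul (show d ∣ p ^ k * value rest from hd)
      obtain ⟨i, hi, rfl⟩ := (Nat.dvd_prime_pow hp).mp h1
      simp only [divs, List.mem_flatMap, List.mem_range, List.mem_map]
      exact ⟨i, by omega, d2, mem_divs rest (fun x hx => hL x (List.mem_cons_of_mem _ hx)) d2 h2, rfl⟩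

/-- The possible degrees. -/
def degOK (d : ℕ) : Bool :=
  decide (1 < d) && decide (d * d ≤ order) && okRes d 23 22 && okRes d 29 28 && okRes d 31 10 &&
    okRes d 37 12 && okRes d 43 14

/-- The 301 possible degrees. -/
def degList : List ℕ :=
  [
 1333, 11223, 288144, 295482, 299367, 391644, 592296, 642320,
   887777, 887778, 889111, 1187145, 1280755, 1530098, 1776888, 2076255,
   2122394, 3011505, 3401816, 3403149, 4290927, 4292260, 4590294, 6367182,
   6378405, 7897280, 10658109, 10669332, 17036514, 28606180, 31616352, 32007996,
   32307363, 32897107, 34427205, 35019501, 35411145, 36300256, 53002488, 59427032,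
   61203920, 62391065, 63671820, 64264116, 65794214, 67324312, 67916608, 88021989,
   94400394, 95288172, 97410566, 97504176, 97802210, 98691321, 99580432, 102094470,
   102982248, 103281615, 105058503, 105957504, 131588428, 133710822, 142257760, 159007464,
   159552288, 160194608, 162409280, 164485535, 164831040, 165126522, 170306560, 186713310,
   191015460, 192792348, 193091715, 195852544, 197382642, 201972936, 203749824, 205076718,
   229046466, 230279749, 256809674, 259775040, 263176856, 264065967, 273846188, 294543865,
   296073963, 299477112, 300364890, 326457032, 326848676, 328971070, 330501168, 361868177,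
   366159104, 384095952, 393877506, 394172988, 394765284, 401132466, 426773280, 458437104,
   460559498, 463524864, 466926680, 490053456, 491288072, 491583554, 493456605, 501450048,
   526353712, 544290560, 560139930, 562011648, 587557632, 592147926, 594270320, 625934144,
   629335960, 657942140, 668899616, 686548320, 690839247, 693850752, 706699840, 714597120,
   720334538, 723736354, 786127419, 789530568, 821538564, 856854880, 883631595, 885257856,
   885461060, 888221889, 910449664, 921118996, 925709290, 953716736, 980546028, 986913210,
   991204137, 991215360, 1016407168, 1018280219, 1050585030, 1052707424, 1081313604, 1085604531,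
   1089007680, 1096262640, 1120624032, 1151398745, 1173626520, 1182518964, 1183406741, 1184295852,
   1194965184, 1315884280, 1375599456, 1381678494, 1412453207, 1445942610, 1447472708, 1480369815,
   1509863773, 1514797020, 1579061136, 1705812480, 1721318896, 1746949820, 1776443778, 1782810960,
   1809340885, 1842237992, 1901665024, 1903741279, 1973826420, 1981808640, 2001151845, 2037498240,
   2072517741, 2076808668, 2105414848, 2171209062, 2173331456, 2201686960, 2206228563, 2259231051,
   2265609456, 2267824128, 2302797490, 2368591704, 2470686174, 2471573952, 2528143992, 2533077239,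
   2568096740, 2570564640, 2631768560, 2692972480, 2727495848, 2731348992, 2763356988, 2827621104,
   2828263424, 2855381760, 2858645160, 2894945416, 2922316980, 2960739630, 2962269728, 3053952880,
   3054840657, 3083781120, 3087148020, 3151755090, 3158122272, 3194422528, 3256813593, 3316194486,
   3361872096, 3454196235, 3520879560, 3524281376, 3552887556, 3584895552, 3618681770, 3684475984,
   3781980160, 3844670592, 3947652840, 3980549947, 4011324660, 4145035482, 4210829696, 4237359621,
   4248017730, 4278746304, 4342418124, 4406682240, 4441109445, 4544391060, 4605594980, 4737183408,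
   4861077760, 4958581936, 4998830166, 5066154478, 5121279360, 5163956688, 5227236864, 5255639840,
   5263537120, 5393003154, 5428022655, 5490413720, 5526713976, 5627481552, 5660770304, 5789890832,
   5921479260, 6057358615, 6112494720, 6217553223, 6316244544, 6513627186, 6519994368, 6608027580,
   6614487040, 6721679160, 6777693153, 6908392470, 7105775112, 7208757360, 7237363540, 7368951968,
   7511209728, 7599231717, 7704290220, 7834101760, 7895305680, 7961099894, 8055500288, 8217909568,
   8225806848, 8290070964, 8385359136, 8421659392, 8482863312, 8617511936, 8684836248, 8787818496,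
   8882218890, 8886809184, 8984313360, 9211189960, 9251343360  ]

theorem degList_spec :
    ((divs parts).filter degOK).all (fun d => degList.contains d) = true := by
  decide +kernel

theorem mem_degList {d : ℕ} (hd : d ∣ order) (h1 : degOK d = true) : d ∈ degList := by
  have hmem : d ∈ divs parts := mem_divs parts (by decide) d
    (by rwa [show value parts = order from by decide +kernel])
  have h := List.all_eq_true.mp degList_spec d (List.mem_filter.mpr ⟨hmem, h1⟩)
  exact List.contains_iff_mem.mp h

/-- The window at `11 ^ 3`. -/
def inWin (d : ℕ) (c : ℤ) (x : ℤ × ℤ) : Bool := ((d : ℤ) - c - x.2 - 10 * x.1) % 1331 == 0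

/-- The possible pairs of small multiplicity differences. -/
def box : List (ℤ × ℤ) :=
  (List.range 11).flatMap fun i : ℕ => (List.range 31).map fun j : ℕ => ((i : ℤ) - 5, (j : ℤ) - 15)

/-- The pairs compatible with a degree. -/
def wins (d : ℕ) (c : ℤ) : List (ℤ × ℤ) := box.filter (inWin d c)

/-- The norm conditions. -/
def normOK (e p q pa qa pb qb : ℤ) : Bool :=
  decide (pa * pa + pb * pb + 4 * (p * p) + (p - e) * (p - e) ≤ 25) &&
    decide (qa * qa + qb * qb + 4 * (q * q) + (q - e) * (q - e) ≤ 240)

/-- The square condition. -/
def sqOK (a b d : ℕ) : Bool :=
  let n := 13762560 * (a * b * d)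
  n % 32897107 == 0 && Nat.sqrt (n / 32897107) * Nat.sqrt (n / 32897107) == n / 32897107

/-- A triple of degrees satisfies all conditions. -/
def good (e : ℤ) (a b d : ℕ) : Bool :=
  sqOK a b d && (wins a 120).any fun x => (wins b (120 * e)).any fun y =>
    (inWin d (240 * e) (e * (x.1 + e * y.1), e * (x.2 + e * y.2))) &&
      normOK e (e * (x.1 + e * y.1)) (e * (x.2 + e * y.2)) x.1 x.2 y.1 y.2

/-- The residues modulo `11 ^ 3` in a window. -/
def winRes (c : ℤ) : List ℕ := box.map fun x => ((c + x.2 + 10 * x.1) % 1331).toNat

/-- Degrees with residue in a window. -/
def degWin (c : ℤ) : List ℕ :=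
  degList.filter fun d => (winRes c).contains (d % 1331)

theorem no_plus : ((degWin 240).all fun d => (degWin 120).all fun a =>
    !(decide (a < d) && (degWin 120).contains (d - a) && good 1 a (d - a) d)) = true := by
  decide +kernel

theorem no_minus : ((degWin (-240)).all fun d => (degWin 120).all fun a =>
    !((degWin (-120)).contains (a + d) && good (-1) a (a + d) d)) = true := by
  decide +kernel

end Cfsg.Agent.Lib.J4Eleven49.Arith
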