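import Cfsg.Agent.Lib.J4Eleven49.Core
import Cfsg.Agent.Lib.J4Local.RowsC
import Cfsg.Agent.Lib.ZStar.UniqueCase
import Cfsg.Agent.Lib.ZStar.Consequences

/-!
# The centralizer of an element of order eleven

`C(x) = U (C(x) ∩ C(z))` with `U` of order `11 ^ 3` and exponent 11.

Owner: helper49.
-/

set_option autoImplicit false
set_option linter.unusedSectionVars false
set_option linter.style.haveILetI false

namespace Cfsg.Agent.Lib.J4Eleven49

open Cfsg.Agent.Lib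
open Cfsg.Agent.Lib.J4Local
open Cfsg.Agent.Lib.LargeExtraspecial.Basic

variable {G : Type*} [Group G]

/-- The normal Sylow 11-subgroup of the centralizer. -/
structure Cent (z x : G) (U : Subgroup G) : Prop where
  card : Nat.card ↥U = 11 ^ 3
  x_mem : x ∈ U
  le_cz : U ≤ cz x
  normal : ∀ c ∈ cz x, ∀ u ∈ U, c * u * c⁻¹ ∈ U
  card_cz : Nat.card ↥(cz x) = 24 * 11 ^ 3
  inter : ∀ u ∈ U, Commute u z → u ∈ Subgroup.zpowers x
  decomp : ∀ c ∈ cz x, ∃ u ∈ U, Commute (u * c) z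
  pow : ∀ u ∈ U, u ^ 11 = 1
  inv_mod : ∀ u ∈ U, z * u * z⁻¹ * u ∈ Subgroup.zpowers x
  comm_mod : ∀ u ∈ U, ∀ v ∈ U, u * v * u⁻¹ * v⁻¹ ∈ Subgroup.zpowers x

theorem zmod_sq_add_one : ∀ a : ZMod 11, a * a + 1 ≠ 0 := by decide

theorem not_dvd_sq_add_one (m : ℤ) : ¬ (11 : ℤ) ∣ m * m + 1 := fun h => by
  have h' := (ZMod.intCast_zmod_eq_zero_iff_dvd (m * m + 1) 11).mpr (by exact_mod_cast h)
  push_cast at h'
  exact zmod_sq_add_one _ h'

/-- An element whose power prime to 11 lies in a subgroup, lies in it. -/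
theorem mem_of_zpow {H : Subgroup G} {v : G} {k : ℕ} (hv : v ^ 11 ^ k = 1) {n : ℤ}
    (hn : ¬ (11 : ℤ) ∣ n) (h : v ^ n ∈ H) : v ∈ H := by
  have hc : IsCoprime (((11 : ℕ) : ℤ) ^ k) n := by
    refine IsCoprime.pow_left ?_
    exact (Prime.coprime_iff_not_dvd (Nat.prime_iff_prime_int.mp (by norm_num))).mpr
      (by exact_mod_cast hn)
  obtain ⟨a, b, hab⟩ := hc
  have key : v = (v ^ ((11 : ℕ) ^ k : ℤ)) ^ a * (v ^ n) ^ b := by
    rw [← zpow_mul, ← zpow_mul, ← zpow_add, mul_comm _ a, mul_comm n b, hab, zpow_one]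
  rw [key, show ((11 : ℕ) : ℤ) ^ k = ((11 ^ k : ℕ) : ℤ) by push_cast; rfl, zpow_natCast, hv,
    one_zpow, one_mul]
  exact zpow_mem h b

variable [Finite G] {z p x : G}

namespace Ctx

variable (C : Ctx z p x) (I : J4BigPrimes.Inputs z)
include C I

theorem card_inter : Nat.card ↥(cz z ⊓ cz x) = 264 := by
  set S := C.set
  set M := cz z ⊓ cz x with hM
  let m : ↥M →* AutM22 := S.phi.comp (Subgroup.inclusion inf_le_left)
  have hm : ∀ g : ↥M, m g = S.img g := fun g => (S.img_of_mem g.2.1).symm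
  have hrange : m.range = Subgroup.zpowers (S.img x) := by
    refine le_antisymm ?_ (Subgroup.zpowers_le.mpr
      ⟨⟨x, C.x_mem, mem_cz.mpr (Commute.refl x)⟩, hm _⟩)
    rintro _ ⟨g, rfl⟩
    rw [hm]
    exact C.img_mem_zpowers g.2.1 (mem_cz.mp g.2.2)
  have hker : Nat.card ↥m.ker = 24 := by
    let f : ↥(fixQ z x) × ↥(Subgroup.zpowers p) → ↥m.ker := fun a =>
      ⟨⟨a.1 * a.2, mul_mem (Q_le_cz z a.1.2.1) (Subgroup.zpowers_le.mpr S.p_mem_cz a.2.2),
        mul_mem a.1.2.2 (Subgroup.zpowers_le.mpr (mem_cz.mpr C.xp.symm) a.2.2)⟩, by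
        obtain ⟨i, hi⟩ := Subgroup.mem_zpowers_iff.mp a.2.2
        exact (S.phi_eq_one _).mpr ⟨a.1, a.1.2.1, i, by rw [hi]; rfl⟩⟩
    have hinj : Function.Injective f := by
      rintro ⟨a, b⟩ ⟨c, d⟩ hh
      have hh' : (a : G) * b = c * d := congrArg (fun y : ↥m.ker => (y.1 : G)) hh
      have h1 : ((c : G)⁻¹ * a) = d * (b : G)⁻¹ := by
        rw [eq_mul_inv_iff_mul_eq, mul_assoc, hh', inv_mul_cancel_left]
      obtain ⟨i, hi⟩ := Subgroup.mem_zpowers_iff.mp
        (mul_mem d.2 (inv_mem b.2) : (d : G) * (b : G)⁻¹ ∈ Subgroup.zpowers p)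
      have hone : (c : G)⁻¹ * a = 1 := by
        rw [h1, ← hi]
        exact S.zpow_mem_Q (by rw [hi, ← h1]; exact mul_mem (inv_mem c.2.1) a.2.1)
      exact Prod.ext (Subtype.ext (inv_mul_eq_one.mp hone).symm)
        (Subtype.ext (mul_inv_eq_one.mp (h1.symm.trans hone)).symm)
    have hsurj : Function.Surjective f := by
      rintro ⟨⟨g, hgz, hgx⟩, hg⟩
      obtain ⟨e, he, i, hi⟩ := (S.phi_eq_one _).mp hg
      have hex : e ∈ cz x := by
        have he' : e = g * (p ^ i)⁻¹ := by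
          rw [show (g : G) = e * p ^ i from hi, mul_inv_cancel_right]
        rw [he']
        exact mul_mem hgx (inv_mem (zpow_mem (mem_cz.mpr C.xp.symm) i))
      exact ⟨(⟨e, he, hex⟩, ⟨p ^ i, Subgroup.zpow_mem_zpowers p i⟩),
        Subtype.ext (Subtype.ext hi.symm)⟩
    rw [← Nat.card_eq_of_bijective f ⟨hinj, hsurj⟩, Nat.card_prod, C.card_fixQ I,
      Nat.card_zpowers, S.ord_p]
  have h := Subgroup.card_mul_index m.ker
  rw [Subgroup.index_ker, hrange, Nat.card_zpowers, C.img_x, hker] at h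
  exact h.symm

/-- An odd normal subgroup of `C(x)` meets `C(z)` in a subgroup of `⟨x⟩`. -/
theorem odd_le {K : Subgroup G} (hodd : Odd (Nat.card ↥K)) (hK : K ≤ cz x) (hxK : x ∈ K)
    (hn : ∀ c ∈ cz x, ∀ u ∈ K, c * u * c⁻¹ ∈ K) {w : G} (hw : w ∈ K) (hwz : Commute w z) :
    w ∈ Subgroup.zpowers x := by
  set S := C.set
  have hE := S.es
  obtain ⟨i, hi⟩ := Subgroup.mem_zpowers_iff.mp
    (C.img_mem_zpowers (mem_cz.mpr hwz) (mem_cz.mp (hK hw)))
  set k := (x ^ i)⁻¹ * w with hk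
  have hkK : k ∈ K := mul_mem (inv_mem (zpow_mem hxK i)) hw
  have hkz : k ∈ cz z := mul_mem (inv_mem (zpow_mem C.x_mem i)) (mem_cz.mpr hwz)
  have hphi : S.phi ⟨k, hkz⟩ = 1 := by
    have h1 : (⟨k, hkz⟩ : ↥(cz z)) = (⟨x, C.x_mem⟩ ^ i)⁻¹ * ⟨w, mem_cz.mpr hwz⟩ :=
      Subtype.ext (by simp [hk])
    rw [h1, map_mul, map_inv, map_zpow, ← S.img_of_mem, ← S.img_of_mem, hi, inv_mul_cancel]
  obtain ⟨e, he, j, hej⟩ := (S.phi_eq_one _).mp hphi
  have hpx : p ^ j ∈ cz x := zpow_mem (mem_cz.mpr C.xp.symm) j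
  have hefix : e ∈ fixQ z x := by
    refine ⟨he, ?_⟩
    show e ∈ cz x
    have he' : e = k * (p ^ j)⁻¹ := by
      rw [show (k : G) = e * p ^ j from hej, mul_inv_cancel_right]
    rw [he']
    exact mul_mem (hK hkK) (inv_mem hpx)
  have hodd1 : ∀ c ∈ K, c ∈ Q z → c = 1 := fun c hc hcQ => by
    obtain ⟨m, hm⟩ := S.isPGroup_Q ⟨c, hcQ⟩
    have h2 : orderOf c ∣ 2 ^ m := orderOf_dvd_of_pow_eq_one (congrArg Subtype.val hm)
    have h3 : orderOf c ∣ Nat.card ↥K := by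
      rw [← Nat.card_zpowers]
      exact Subgroup.card_dvd_of_le (Subgroup.zpowers_le.mpr hc)
    have hcop : Nat.Coprime (2 ^ m) (Nat.card ↥K) :=
      Nat.Coprime.pow_left m (Nat.coprime_two_left.mpr hodd)
    exact orderOf_eq_one_iff.mp (Nat.dvd_one.mp (hcop ▸ Nat.dvd_gcd h2 h3))
  have hpj : p ^ j = 1 := by
    by_contra hne
    obtain ⟨f, hf, hf1, hfz⟩ : ∃ f ∈ fixQ z x, f ≠ 1 ∧ f ≠ z := by
      classical
      by_contra hcon
      push Not at hcon
      have hsub : (fixQ z x : Set G) ⊆ (↑({1, z} : Finset G) : Set G) := fun a ha => by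
        rw [Finset.coe_insert, Finset.coe_singleton, Set.mem_insert_iff, Set.mem_singleton_iff]
        exact or_iff_not_imp_left.mpr (hcon a ha)
      have h := Set.ncard_le_ncard hsub
      rw [Set.ncard_coe_finset, ← Nat.card_coe_set_eq] at h
      have h8 : Nat.card ↑(fixQ z x : Set G) = 8 := C.card_fixQ I
      have := h.trans Finset.card_le_two
      omega
    have hkf : Commute k f := by
      have hc : f * k * f⁻¹ * k⁻¹ = 1 := by
        refine hodd1 _ (mul_mem (hn f hf.2 k hkK) (inv_mem hkK)) ?_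
        rw [show f * k * f⁻¹ * k⁻¹ = f * (k * f⁻¹ * k⁻¹) by group]
        exact mul_mem hf.1 (isQ.normal (mem_cz.mp hkz) (inv_mem hf.1))
      exact (mul_inv_eq_iff_eq_mul.mp (mul_inv_eq_one.mp hc)).symm
    have hinner : p ^ j * f * (p ^ j)⁻¹ = f ∨ p ^ j * f * (p ^ j)⁻¹ = f * z := by
      have h1 : p ^ j * f * (p ^ j)⁻¹ = e⁻¹ * f * e⁻¹⁻¹ := by
        calc p ^ j * f * (p ^ j)⁻¹ = e⁻¹ * (k * f * k⁻¹) * e⁻¹⁻¹ := by
              rw [show (k : G) = e * p ^ j from hej]; group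
          _ = _ := by rw [mul_inv_eq_iff_eq_mul.mpr hkf.eq]
      rw [h1]
      exact hE.conj _ (inv_mem he) f hf.1
    rcases S.p_zpow_cases j with h | h | h
    · exact hne h
    · rw [h] at hinner
      exact (S.fix_mod hf.1 hinner).elim hf1 hfz
    · rw [h] at hinner
      have hpz : (p * p) * z * (p * p)⁻¹ = z :=
        mul_inv_eq_iff_eq_mul.mpr (S.p_z.mul_left S.p_z).eq
      have hp4 : p = (p * p) * (p * p) := by
        calc p = p ^ 3 * p := by rw [S.p_cube, one_mul]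
          _ = (p * p) * (p * p) := by rw [pow_succ, pow_two]; group
      have h2 : p * f * p⁻¹ = f ∨ p * f * p⁻¹ = f * z := by
        have e1 : p * f * p⁻¹ = (p * p) * ((p * p) * f * (p * p)⁻¹) * (p * p)⁻¹ := by
          conv_lhs => rw [hp4]
          group
        rw [e1]
        rcases hinner with h' | h' <;> rw [h']
        · exact Or.inl h'
        · refine Or.inl ?_
          calc (p * p) * (f * z) * (p * p)⁻¹
              = ((p * p) * f * (p * p)⁻¹) * ((p * p) * z * (p * p)⁻¹) := by group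
            _ = f := by rw [h', hpz, mul_assoc, hE.sq, mul_one]
      exact (S.fix_mod hf.1 h2).elim hf1 hfz
  have hk1 : k = 1 := by
    refine hodd1 k hkK ?_
    rw [show (k : G) = e * p ^ j from hej, hpj, mul_one]
    exact he
  rw [hk, inv_mul_eq_one] at hk1
  exact hk1 ▸ Subgroup.zpow_mem_zpowers x i

variable [IsSimpleGroup G] (hG : ¬ IsMulCommutative G)
include hG

theorem exists_odd : ∃ K : Subgroup G, Odd (Nat.card ↥K) ∧ K ≤ cz x ∧ x ∈ K ∧
    (∀ c ∈ cz x, ∀ u ∈ K, c * u * c⁻¹ ∈ K) ∧ (∀ c ∈ cz x, ∃ u ∈ K, Commute (u * c) z) ∧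
    Nat.card ↥(cz x) = 24 * Nat.card ↥K := by
  classical
  set S := C.set
  have hzx : z ∈ cz x := mem_cz.mpr C.xz.symm
  set zc : ↥(cz x) := ⟨z, hzx⟩ with hzc
  have hzord : orderOf zc = 2 := by rw [hzc, Subgroup.orderOf_mk, S.ord_z]
  have hiso0 : Cfsg.IsIsolatedInvolution zc := ⟨hzord, fun c hc => Subtype.ext (by
    show (c : G) * z * (c : G)⁻¹ = z
    refine C.inv_eq_z I (congrArg Subtype.val hc.eq : z * _ = _).symm
      (mem_cz.mp (mul_mem (mul_mem c.2 hzx) (inv_mem c.2))) ?_ (fun h => S.z_ne_one (conj_eq_one_iff.mp h))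
    rw [show (c : G) * z * (c : G)⁻¹ * ((c : G) * z * (c : G)⁻¹) = c * (z * z) * (c : G)⁻¹ by group,
      S.z_sq, mul_one, mul_inv_cancel])⟩
  have := Fact.mk Nat.prime_two
  obtain ⟨P2, hP2⟩ := (IsPGroup.of_card (p := 2) (n := 1)
    (by rw [Nat.card_zpowers, hzord, pow_one]) : IsPGroup 2 ↥(Subgroup.zpowers zc)).exists_le_sylow
  have hiso := (ZStar.Consequences.isolatedIn_of_involution hiso0 P2
    (hP2 (Subgroup.mem_zpowers zc))).2
  obtain ⟨N, hN, hNodd, hmem⟩ :=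
    ZStar.UniqueCase.zstar P2 zc hzord (hP2 (Subgroup.mem_zpowers zc)) hiso
  set W := N.map (cz x).subtype with hW
  have hWodd : Odd (Nat.card ↥W) := by
    rwa [hW, Subgroup.card_map_of_injective (Subgroup.subtype_injective _)]
  have hWx : W ≤ cz x := Subgroup.map_subtype_le _
  have hWn : ∀ c ∈ cz x, ∀ w ∈ W, c * w * c⁻¹ ∈ W := by
    rintro c hc _ ⟨n, hn, rfl⟩
    exact ⟨⟨c, hc⟩ * n * ⟨c, hc⟩⁻¹, hN.conj_mem n hn _, rfl⟩
  have hWmem : ∀ c ∈ cz x, z * c * z⁻¹ * c⁻¹ ∈ W := fun c hc => ⟨_, hmem ⟨c, hc⟩, rfl⟩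
  -- adjoin the central element `x`
  let K : Subgroup G :=
    { carrier := {g | ∃ w ∈ W, ∃ i : ℤ, g = w * x ^ i}
      one_mem' := ⟨1, one_mem _, 0, by simp⟩
      mul_mem' := by
        rintro _ _ ⟨w, hw, i, rfl⟩ ⟨v, hv, j, rfl⟩
        refine ⟨w * v, mul_mem hw hv, i + j, ?_⟩
        rw [zpow_add, mul_assoc w, ← mul_assoc (x ^ i), ← ((mem_cz.mp (hWx hv)).zpow_right i).eq]
        group
      inv_mem' := by
        rintro _ ⟨w, hw, i, rfl⟩
        refine ⟨w⁻¹, inv_mem hw, -i, ?_⟩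
        rw [mul_inv_rev, zpow_neg, ((mem_cz.mp (hWx hw)).zpow_right i).inv_inv.eq] }
  have hKW : W ≤ K := fun w hw => ⟨w, hw, 0, by simp⟩
  have hxK : x ∈ K := ⟨1, one_mem _, 1, by simp⟩
  have hKx : K ≤ cz x := by
    rintro _ ⟨w, hw, i, rfl⟩
    exact mul_mem (hWx hw) (zpow_mem (mem_cz.mpr (Commute.refl x)) i)
  have hKn : ∀ c ∈ cz x, ∀ u ∈ K, c * u * c⁻¹ ∈ K := by
    rintro c hc _ ⟨w, hw, i, rfl⟩
    refine ⟨c * w * c⁻¹, hWn c hc w hw, i, ?_⟩
    rw [mul_assoc (c * w) c⁻¹, ← (((mem_cz.mp hc).inv_left).zpow_right i).symm.eq]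
    group
  have hKodd : Odd (Nat.card ↥K) := by
    let f : ↥W × ↥(Subgroup.zpowers x) →* ↥K :=
      { toFun := fun a => ⟨a.1 * a.2, mul_mem (hKW a.1.2) (Subgroup.zpowers_le.mpr hxK a.2.2)⟩
        map_one' := Subtype.ext (by simp)
        map_mul' := by
          rintro ⟨⟨a, ha⟩, ⟨_, i, rfl⟩⟩ ⟨⟨b, hb⟩, ⟨_, j, rfl⟩⟩
          refine Subtype.ext ?_
          show a * b * (x ^ i * x ^ j) = a * x ^ i * (b * x ^ j)
          rw [mul_assoc a (x ^ i), ← mul_assoc (x ^ i) b, ← ((mem_cz.mp (hWx hb)).zpow_right i).eq]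
          group }
    have hf : Function.Surjective f := by
      rintro ⟨_, w, hw, i, rfl⟩
      exact ⟨(⟨w, hw⟩, ⟨x ^ i, Subgroup.zpow_mem_zpowers x i⟩), rfl⟩
    have hd := Subgroup.card_dvd_of_surjective f hf
    rw [Nat.card_prod, Nat.card_zpowers, C.ord] at hd
    exact Odd.of_dvd_nat (hWodd.mul (by decide)) hd
  have hdec : ∀ c ∈ cz x, ∃ u ∈ K, Commute (u * c) z := by
    intro c hc
    set m := z * c * z⁻¹ * c⁻¹ with hm
    have hmW := hWmem c hc
    obtain ⟨o, ho⟩ : Odd (orderOf m) := Odd.of_dvd_nat hWodd (by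
      rw [← Nat.card_zpowers]
      exact Subgroup.card_dvd_of_le (Subgroup.zpowers_le.mpr hmW))
    set k := m ^ (o + 1) with hk
    have hk2 : k * k = m := by
      rw [hk, ← pow_add, show o + 1 + (o + 1) = orderOf m + 1 by omega, pow_succ, pow_orderOf_eq_one,
        one_mul]
    have hzinv : z⁻¹ = z := S.es.zinv
    have hzm : z * m * z⁻¹ = m⁻¹ := by
      rw [hm, hzinv, show z * (z * c * z * c⁻¹) * z = (z * z) * c * z * c⁻¹ * z by group, S.z_sq,
        one_mul, show (z * c * z * c⁻¹)⁻¹ = c * z⁻¹ * c⁻¹ * z⁻¹ by group, hzinv]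
    have hzk : z * k * z⁻¹ = k⁻¹ := by rw [hk, ← conj_pow, hzm, inv_pow]
    refine ⟨k, hKW (pow_mem hmW _), ?_⟩
    have h1 : k⁻¹ * z * k = z * m := by
      rw [← hk2, ← hzk]
      group
    have h2 : c * z * c⁻¹ = z * m := by
      rw [hm, hzinv, ← mul_assoc, ← mul_assoc, ← mul_assoc, S.z_sq, one_mul]
    show k * c * z = z * (k * c)
    calc k * c * z = k * (c * z * c⁻¹) * c := by group
      _ = k * (k⁻¹ * z * k) * c := by rw [h1, h2]
      _ = z * (k * c) := by group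
  refine ⟨K, hKodd, hKx, hxK, hKn, hdec, ?_⟩
  set M := cz z ⊓ cz x with hM
  haveI : (K.subgroupOf (cz x)).Normal := ⟨fun a ha c => hKn c c.2 a ha⟩
  let π : ↥M →* ↥(cz x) ⧸ K.subgroupOf (cz x) :=
    (QuotientGroup.mk' _).comp (Subgroup.inclusion inf_le_right)
  have hπ : Function.Surjective π := by
    intro q
    obtain ⟨⟨c, hc⟩, rfl⟩ := QuotientGroup.mk'_surjective _ q
    obtain ⟨u, hu, huz⟩ := hdec c hc
    refine ⟨⟨u * c, mem_cz.mpr huz, mul_mem (hKx hu) hc⟩, ?_⟩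
    simp only [π, MonoidHom.comp_apply, QuotientGroup.mk'_apply]
    rw [QuotientGroup.eq, Subgroup.mem_subgroupOf]
    show (u * c)⁻¹ * c ∈ K
    rw [show (u * c)⁻¹ * c = c⁻¹ * u⁻¹ * c⁻¹⁻¹ by group]
    exact hKn _ (inv_mem hc) _ (inv_mem hu)
  have hker : Nat.card ↥π.ker = 11 := by
    rw [← C.ord, ← Nat.card_zpowers]
    have hmem : ∀ g : ↥M, g ∈ π.ker ↔ (g : G) ∈ K := fun g => by
      rw [MonoidHom.mem_ker]
      show QuotientGroup.mk (Subgroup.inclusion inf_le_right g) = _ ↔ _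
      rw [QuotientGroup.eq_one_iff, Subgroup.mem_subgroupOf]
      rfl
    exact Nat.card_congr ⟨fun g => ⟨g.1.1, C.odd_le I hKodd hKx hxK hKn ((hmem g.1).mp g.2)
        (mem_cz.mp g.1.2.1)⟩,
      fun a => ⟨⟨a.1, Subgroup.zpowers_le.mpr C.x_mem a.2,
        hKx (Subgroup.zpowers_le.mpr hxK a.2)⟩, (hmem _).mpr (Subgroup.zpowers_le.mpr hxK a.2)⟩,
      fun _ => rfl, fun _ => rfl⟩
  have h1 := Subgroup.card_mul_index π.ker
  rw [Subgroup.index_ker, MonoidHom.range_eq_top.mpr hπ,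
    Nat.card_congr Subgroup.topEquiv.toEquiv, hker, C.card_inter I] at h1
  have h2 := Subgroup.card_mul_index (K.subgroupOf (cz x))
  rw [Nat.card_congr (Subgroup.subgroupOfEquivOfLe hKx).toEquiv, Subgroup.index,
    show Nat.card (↥(cz x) ⧸ K.subgroupOf (cz x)) = 24 by omega] at h2
  omega

theorem exists_cent : ∃ U : Subgroup G, Cent z x U := by
  classical
  haveI : Fact (Nat.Prime 11) := ⟨by norm_num⟩
  set S := C.set
  obtain ⟨K, hodd, hKx, hxK, hKn, hdec, hcard⟩ := C.exists_odd I hG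
  have hint : ∀ u ∈ K, Commute u z → u ∈ Subgroup.zpowers x := fun u hu hc =>
    C.odd_le I hodd hKx hxK hKn hu hc
  have hzx : z ∈ cz x := mem_cz.mpr C.xz.symm
  have hd : Nat.card ↥K ∣ 11 ^ 3 := by
    have h := card_cz_eleven hG S I C.ord
    rw [hcard, show 2 ^ 3 * 3 * 11 ^ 3 = 24 * 11 ^ 3 by norm_num] at h
    exact Nat.dvd_of_mul_dvd_mul_left (by norm_num) h
  -- `121` divides the order of `C(x)`
  have h121 : 11 ^ 2 ∣ Nat.card ↥(cz x) := by
    obtain ⟨P, hP⟩ := (IsPGroup.of_card (p := 11) (n := 1)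
      (by rw [Nat.card_zpowers, C.ord, pow_one]) : IsPGroup 11 ↥(Subgroup.zpowers x)).exists_le_sylow
    have hPd : 11 ^ 3 ∣ Nat.card ↥(P : Subgroup G) :=
      P.pow_dvd_card_of_pow_dvd_card (by rw [I.order]; norm_num)
    have hP1 : (P : Subgroup G) ≠ ⊥ := fun h => by
      rw [h, Subgroup.card_bot] at hPd
      norm_num at hPd
    obtain ⟨c, hcP, hco, hPc⟩ := J4BigPrimes.exists_central P.2 hP1
    have hxP : x ∈ (P : Subgroup G) := hP (Subgroup.mem_zpowers x)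
    by_cases hcx : c ∈ Subgroup.zpowers x
    · have heq : Subgroup.zpowers c = Subgroup.zpowers x :=
        Subgroup.eq_of_le_of_card_ge (Subgroup.zpowers_le.mpr hcx)
          (by rw [Nat.card_zpowers, Nat.card_zpowers, hco, C.ord])
      have hle : (P : Subgroup G) ≤ cz x := hPc.trans (le_of_eq (J4BigPrimes.cz_eq_of_zpowers heq))
      exact (show 11 ^ 2 ∣ 11 ^ 3 by norm_num).trans (hPd.trans (Subgroup.card_dvd_of_le hle))
    · set R := Subgroup.zpowers x ⊔ Subgroup.zpowers c with hR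
      have hRP : R ≤ (P : Subgroup G) := sup_le hP (Subgroup.zpowers_le.mpr hcP)
      have hRx : R ≤ cz x := sup_le (Subgroup.zpowers_le.mpr (mem_cz.mpr (Commute.refl x)))
        (Subgroup.zpowers_le.mpr (mem_cz.mpr (mem_cz.mp (hPc hxP)).symm))
      obtain ⟨k, hk⟩ := (P.2.to_le hRP).exists_card_eq
      refine dvd_trans ?_ (Subgroup.card_dvd_of_le hRx)
      rw [hk]
      refine pow_dvd_pow 11 ?_
      by_contra hlt
      refine hcx ?_
      have heq : Subgroup.zpowers x = R := Subgroup.eq_of_le_of_card_ge le_sup_left (by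
        rw [Nat.card_zpowers, C.ord, hk]
        exact (Nat.pow_le_pow_right (by norm_num) (show k ≤ 1 by omega)).trans (by norm_num))
      rw [heq]
      exact Subgroup.mem_sup_right (Subgroup.mem_zpowers c)
  obtain ⟨f, hf, hf1, hfz⟩ : ∃ f ∈ fixQ z x, f ≠ 1 ∧ f ≠ z := by
    by_contra hcon
    push Not at hcon
    have hsub : (fixQ z x : Set G) ⊆ (↑({1, z} : Finset G) : Set G) := fun a ha => by
      rw [Finset.coe_insert, Finset.coe_singleton, Set.mem_insert_iff, Set.mem_singleton_iff]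
      exact or_iff_not_imp_left.mpr (hcon a ha)
    have h := Set.ncard_le_ncard hsub
    rw [Set.ncard_coe_finset, ← Nat.card_coe_set_eq] at h
    have h8 : Nat.card ↑(fixQ z x : Set G) = 8 := C.card_fixQ I
    have := h.trans Finset.card_le_two
    omega
  have hff : f * f = z := C.sq_fixQ I hf hf1 hfz
  have hxf : ∀ i : ℤ, f * x ^ i * f⁻¹ = x ^ i := fun i =>
    mul_inv_eq_iff_eq_mul.mpr ((mem_cz.mp hf.2).zpow_right i).eq
  have hxK' : ∀ d ∈ Subgroup.zpowers x, ∀ w ∈ K, Commute d w := by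
    rintro _ ⟨i, rfl⟩ w hw
    exact ((mem_cz.mp (hKx hw)).zpow_right i).symm
  have hinv : ∀ u ∈ K, z * u * z⁻¹ * u ∈ Subgroup.zpowers x := fun u hu =>
    inverts_mod S.z_sq hodd (Subgroup.zpowers_le.mpr hxK) (hKn z hzx) hxK'
      (fun d hd => mem_cz.mp (Subgroup.zpowers_le.mpr C.x_mem hd)) hint hu
  have hcomm : ∀ u ∈ K, ∀ v ∈ K, u * v * u⁻¹ * v⁻¹ ∈ Subgroup.zpowers x := by
    intro u hu v hv
    obtain ⟨a, ha⟩ := Subgroup.mem_zpowers_iff.mp (hinv u hu)
    obtain ⟨b, hb⟩ := Subgroup.mem_zpowers_iff.mp (hinv v hv)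
    obtain ⟨c, hc⟩ := Subgroup.mem_zpowers_iff.mp (hinv _ (mul_mem hu hv))
    have e1 : z * u * z⁻¹ = x ^ a * u⁻¹ := by rw [ha, mul_inv_cancel_right]
    have e2 : z * v * z⁻¹ = x ^ b * v⁻¹ := by rw [hb, mul_inv_cancel_right]
    have hu' : u⁻¹ * x ^ b = x ^ b * u⁻¹ := ((mem_cz.mp (hKx hu)).zpow_right b).inv_left.eq
    have e3 : x ^ c = x ^ (a + b) * (u⁻¹ * v⁻¹ * (u * v)) := by
      calc x ^ c = z * (u * v) * z⁻¹ * (u * v) := hc
        _ = (z * u * z⁻¹) * (z * v * z⁻¹) * (u * v) := by group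
        _ = x ^ a * (u⁻¹ * x ^ b) * v⁻¹ * (u * v) := by rw [e1, e2]; group
        _ = _ := by rw [hu', zpow_add]; group
    have hd : u⁻¹ * v⁻¹ * (u * v) ∈ Subgroup.zpowers x :=
      Subgroup.mem_zpowers_iff.mpr ⟨c - (a + b), by
        rw [sub_eq_neg_add, zpow_add, zpow_neg, e3, inv_mul_cancel_left]⟩
    rw [show u * v * u⁻¹ * v⁻¹ = (v * u) * (u⁻¹ * v⁻¹ * (u * v)) * (v * u)⁻¹ by group,
      ← (hxK' _ hd (v * u) (mul_mem hv hu)).eq, mul_inv_cancel_right]
    exact hd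
  have hxu : ∀ u ∈ K, ∀ i : ℤ, Commute (x ^ i) u := fun u hu i =>
    hxK' _ (Subgroup.zpow_mem_zpowers x i) u hu
  have hline : ∀ v ∈ K, ∀ m i : ℤ, f * v * f⁻¹ = v ^ m * x ^ i → v ∈ Subgroup.zpowers x := by
    intro v hv m i h
    obtain ⟨a, ha⟩ := Subgroup.mem_zpowers_iff.mp (hinv v hv)
    have h1 : z * v * z⁻¹ = v ^ (m * m) * x ^ (i * m + i) := by
      calc z * v * z⁻¹ = f * (f * v * f⁻¹) * f⁻¹ := by rw [← hff]; group
        _ = f * (v ^ m * x ^ i) * f⁻¹ := by rw [h]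
        _ = (f * v * f⁻¹) ^ m * (f * x ^ i * f⁻¹) := by
            rw [conj_zpow]; group
        _ = _ := by
            rw [h, hxf, ((hxu _ (zpow_mem hv m) i).symm).mul_zpow, ← zpow_mul, ← zpow_mul,
              mul_assoc, ← zpow_add]
    refine mem_of_zpow (k := 3) (n := m * m + 1) ?_ (not_dvd_sq_add_one m) ?_
    · obtain ⟨d, hd'⟩ := hd
      have hc := pow_card_eq_one' (x := (⟨v, hv⟩ : ↥K))
      have hc' : v ^ Nat.card ↥K = 1 := congrArg Subtype.val hc
      rw [hd', pow_mul, hc', one_pow]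
    · rw [h1, mul_assoc, (hxu v hv (i * m + i)).eq, ← mul_assoc, ← zpow_add_one] at ha
      refine Subgroup.mem_zpowers_iff.mpr ⟨a - (i * m + i), ?_⟩
      rw [zpow_sub, ha, mul_inv_cancel_right]
  have hgen : ∀ v ∈ K, v ∉ Subgroup.zpowers x → ∃ H : Subgroup G, H ≤ K ∧ v ∈ H ∧ x ∈ H ∧
      ∀ g ∈ H, ∃ m i : ℤ, g = v ^ m * x ^ i := by
    intro v hv _
    let H : Subgroup G :=
      { carrier := {g | ∃ m i : ℤ, g = v ^ m * x ^ i}
        one_mem' := ⟨0, 0, by simp⟩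
        mul_mem' := by
          rintro _ _ ⟨m, i, rfl⟩ ⟨n, j, rfl⟩
          refine ⟨m + n, i + j, ?_⟩
          rw [zpow_add, zpow_add, mul_assoc (v ^ m), ← mul_assoc (x ^ i),
            (hxu _ (zpow_mem hv n) i).eq]
          group
        inv_mem' := by
          rintro _ ⟨m, i, rfl⟩
          refine ⟨-m, -i, ?_⟩
          rw [mul_inv_rev, zpow_neg, zpow_neg, ((hxu _ (zpow_mem hv m) i).inv_inv).eq] }
    refine ⟨H, ?_, ⟨1, 0, by simp⟩, ⟨0, 1, by simp⟩, fun g hg => hg⟩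
    rintro _ ⟨m, i, rfl⟩
    exact mul_mem (zpow_mem hv m) (zpow_mem hxK i)
  have hfull : ∀ v ∈ K, v ∉ Subgroup.zpowers x → ∀ H : Subgroup G, H ≤ K → v ∈ H → x ∈ H →
      (∀ g ∈ H, ∃ m i : ℤ, g = v ^ m * x ^ i) → Nat.card ↥K ≤ Nat.card ↥H → False := by
    intro v hv hvx H hHK hvH _ hmemH hle
    have heq := Subgroup.eq_of_le_of_card_ge hHK hle
    obtain ⟨m, i, hm⟩ := hmemH (f * v * f⁻¹) (heq ▸ hKn f hf.2 v hv)
    exact hvx (hline v hv m i hm)
  have hd2 : 11 ^ 2 ∣ Nat.card ↥K := by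
    rw [hcard] at h121
    exact (Nat.Coprime.dvd_of_dvd_mul_left (by norm_num) h121)
  obtain ⟨k, hk3, hk⟩ := (Nat.dvd_prime_pow (by norm_num : Nat.Prime 11)).mp hd
  have hp11 : IsPGroup 11 ↥K := IsPGroup.of_card hk
  have hK3 : Nat.card ↥K = 11 ^ 3 := by
    have hk2 : 2 ≤ k := by
      rw [hk] at hd2
      exact (Nat.pow_dvd_pow_iff_le_right (by norm_num)).mp hd2
    rw [hk]
    by_contra hne
    have hk' : k = 2 := by
      by_contra h2
      exact hne (by rw [show k = 3 by omega])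
    subst hk'
    obtain ⟨v, hv, hvx⟩ : ∃ v ∈ K, v ∉ Subgroup.zpowers x := by
      by_contra hcon
      push Not at hcon
      have := Subgroup.card_le_of_le hcon
      rw [hk, Nat.card_zpowers, C.ord] at this
      norm_num at this
    obtain ⟨H, hHK, hvH, hxH, hmemH⟩ := hgen v hv hvx
    refine hfull v hv hvx H hHK hvH hxH hmemH ?_
    obtain ⟨j, hj⟩ := (hp11.to_le hHK).exists_card_eq
    rw [hk, hj]
    refine Nat.pow_le_pow_right (by norm_num) ?_
    by_contra hlt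
    refine hvx ?_
    rw [Subgroup.eq_of_le_of_card_ge (Subgroup.zpowers_le.mpr hxH) (by
      rw [Nat.card_zpowers, C.ord, hj]
      exact (Nat.pow_le_pow_right (by norm_num) (show j ≤ 1 by omega)).trans (by norm_num))]
    exact hvH
  have hpow : ∀ u ∈ K, u ^ 11 = 1 := by
    intro u hu
    have h11 : u ^ 11 ∈ Subgroup.zpowers x := by
      by_contra hn
      have hux : u ∉ Subgroup.zpowers x := fun h => hn (pow_mem h 11)
      obtain ⟨H, hHK, huH, hxH, hmemH⟩ := hgen u hu hux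
      refine hfull u hu hux H hHK huH hxH hmemH ?_
      obtain ⟨j, hj⟩ := (hp11.to_le hHK).exists_card_eq
      obtain ⟨i, hi3, hi⟩ := (Nat.dvd_prime_pow (by norm_num : Nat.Prime 11)).mp
        (show orderOf u ∣ 11 ^ 3 by
          rw [← hK3, ← Nat.card_zpowers]
          exact Subgroup.card_dvd_of_le (Subgroup.zpowers_le.mpr hu))
      have hui : u ^ 11 ^ i = 1 := by rw [← hi]; exact pow_orderOf_eq_one u
      have hi2 : 2 ≤ i := by
        by_contra hlt
        refine hn ?_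
        have h0 : u ^ 11 = 1 := by
          rcases (show i = 0 ∨ i = 1 by omega) with rfl | rfl
          · rw [pow_zero, pow_one] at hui; rw [hui, one_pow]
          · rwa [pow_one] at hui
        rw [h0]; exact one_mem _
      rw [hK3, hj]
      refine Nat.pow_le_pow_right (by norm_num) ?_
      by_contra hlt
      have heq : Subgroup.zpowers u = H := Subgroup.eq_of_le_of_card_ge
        (Subgroup.zpowers_le.mpr huH) (by
          rw [Nat.card_zpowers, hi, hj]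
          exact Nat.pow_le_pow_right (by norm_num) (by omega))
      have hij : i = 2 := by
        have h := congrArg (fun R : Subgroup G => Nat.card ↥R) heq
        simp only [Nat.card_zpowers] at h
        rw [hi, hj] at h
        have := Nat.pow_right_injective (show 2 ≤ 11 by norm_num) h
        omega
      subst hij
      obtain ⟨r, hr⟩ := Subgroup.mem_zpowers_iff.mp (heq.ge hxH)
      have hdvd : ((orderOf u : ℕ) : ℤ) ∣ r * 11 := by
        rw [orderOf_dvd_iff_zpow_eq_one, zpow_mul, hr]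
        exact_mod_cast C.x_pow
      rw [hi] at hdvd
      have hr11 : (11 : ℤ) ∣ r := by omega
      obtain ⟨r', rfl⟩ := hr11
      rw [zpow_mul] at hr
      have hsub : Subgroup.zpowers x ≤ Subgroup.zpowers (u ^ 11) := by
        rw [Subgroup.zpowers_le]
        exact Subgroup.mem_zpowers_iff.mpr ⟨r', by rw [← hr, ← zpow_natCast u 11]; norm_num⟩
      have h11o : orderOf (u ^ 11) ∣ 11 := orderOf_dvd_of_pow_eq_one (by
        rw [← pow_mul]
        simpa using hui)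
      refine hn ?_
      rw [Subgroup.eq_of_le_of_card_ge hsub (by
        rw [Nat.card_zpowers, Nat.card_zpowers, C.ord]
        exact Nat.le_of_dvd (by norm_num) h11o)]
      exact Subgroup.mem_zpowers _
    obtain ⟨j, hj⟩ := Subgroup.mem_zpowers_iff.mp h11
    obtain ⟨a, ha⟩ := Subgroup.mem_zpowers_iff.mp (hinv u hu)
    have e1 : z * u * z⁻¹ = x ^ a * u⁻¹ := by rw [ha, mul_inv_cancel_right]
    have hzj : z * x ^ j * z⁻¹ = x ^ j := mul_inv_eq_iff_eq_mul.mpr (C.xz.symm.zpow_right j).eq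
    have e2 : x ^ j = x ^ (-j) := by
      conv_lhs => rw [← hzj, hj, ← conj_pow, e1, ((hxu u hu a).inv_right).mul_pow, ← zpow_natCast
        (x ^ a), ← zpow_mul, inv_pow, ← hj]
      rw [mul_comm a, zpow_mul, zpow_natCast, C.x_pow, one_zpow, one_mul, zpow_neg]
    have e3 : x ^ (j + j) = 1 := by
      rw [zpow_add]
      nth_rewrite 2 [e2]
      rw [zpow_neg, mul_inv_cancel]
    have e4 : (11 : ℤ) ∣ j := by
      have := orderOf_dvd_iff_zpow_eq_one.mpr e3
      rw [C.ord] at this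
      omega
    obtain ⟨j', rfl⟩ := e4
    rw [← hj, zpow_mul]
    rw [show (11 : ℤ) = ((11 : ℕ) : ℤ) from rfl, zpow_natCast, C.x_pow, one_zpow]
  exact ⟨K, ⟨hK3, hxK, hKx, hKn, by rw [hcard, hK3], hint, hdec, hpow, hinv, hcomm⟩⟩

end Ctx

end Cfsg.Agent.Lib.J4Eleven49
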