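import Cfsg.Agent.Lib.J4BigPrimes.Main

/-!
# An element of order eleven in the centralizer of a 2-central involution

Owner: helper49.
-/

set_option autoImplicit false
set_option linter.unusedSectionVars false
set_option linter.style.haveILetI false

namespace Cfsg.Agent.Lib.J4Eleven49

open Cfsg.Agent.Lib
open Cfsg.Agent.Lib.J4Local
open Cfsg.Agent.Lib.LargeExtraspecial.Basic

variable {G : Type*} [Group G]

/-- The fixed points of an element on `O₂(C(z))`. -/
abbrev fixQ (z x : G) : Subgroup G := Q z ⊓ cz x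

/-- An element of order eleven centralising `z` and `p`. -/
structure Ctx (z p x : G) : Prop where
  set : Setting z p
  ord : orderOf x = 11
  xz : Commute x z
  xp : Commute x p

theorem mem_fixQ {z x e : G} : e ∈ fixQ z x ↔ e ∈ Q z ∧ Commute e x :=
  and_congr_right fun _ => mem_cz

/-- Partial products along an orbit. -/
def orb (x q : G) : ℕ → G
  | 0 => 1
  | n + 1 => orb x q n * (x ^ n * q * (x ^ n)⁻¹)

theorem orb_shift (x q : G) : ∀ n, q * (x * orb x q n * x⁻¹) = orb x q n * (x ^ n * q * (x ^ n)⁻¹)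
  | 0 => by simp [orb]
  | n + 1 => by
    calc q * (x * orb x q (n + 1) * x⁻¹)
        = q * (x * orb x q n * x⁻¹) * (x * (x ^ n * q * (x ^ n)⁻¹) * x⁻¹) := by
          rw [orb]; group
      _ = orb x q (n + 1) * (x ^ (n + 1) * q * (x ^ (n + 1))⁻¹) := by
          rw [orb_shift x q n, orb]; group

variable [Finite G]

theorem exists_ctx {z p : G} (S : Setting z p) : ∃ x, Ctx z p x := by
  have : Fact (Nat.Prime 11) := ⟨by norm_num⟩
  obtain ⟨⟨a, ha⟩, ho⟩ := exists_prime_orderOf_dvd_card' (G := ↥inn) 11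
    (by rw [autFacts.card_inn]; norm_num)
  rw [Subgroup.orderOf_mk] at ho
  obtain ⟨k, hk, rfl⟩ := S.exists_lift autFacts ha
  obtain ⟨hkz, hkp⟩ := mem_kSub.mp hk
  have h11 : 11 ∣ orderOf k := by
    rw [← ho]
    refine orderOf_dvd_of_pow_eq_one ?_
    rw [← S.img_pow (mem_cz.mpr hkz), pow_orderOf_eq_one, S.img_of_mem (one_mem _)]
    exact map_one _
  exact ⟨k ^ (orderOf k / 11), S, orderOf_pow_orderOf_div (orderOf_pos k).ne' h11,
    hkz.pow_left _, hkp.pow_left _⟩

variable {z p x : G}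

namespace Ctx

variable (C : Ctx z p x)
include C

theorem x_pow : x ^ 11 = 1 := by rw [← C.ord, pow_orderOf_eq_one]

theorem x_mem : x ∈ cz z := mem_cz.mpr C.xz

theorem z_mem_fixQ : z ∈ fixQ z x := mem_fixQ.mpr ⟨C.set.es.mem, C.xz.symm⟩

theorem conj_mem_Q {v : G} (hv : v ∈ Q z) : x * v * x⁻¹ ∈ Q z := isQ.normal C.xz hv

theorem conj_p_mem {e : G} (he : e ∈ fixQ z x) : p * e * p⁻¹ ∈ fixQ z x := by
  obtain ⟨h1, h2⟩ := mem_fixQ.mp he
  refine mem_fixQ.mpr ⟨isQ.normal C.set.p_z h1, ?_⟩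
  exact (C.xp.symm.mul_left h2).mul_left C.xp.inv_right.symm

theorem img_x : orderOf (C.set.img x) = 11 := J4BigPrimes.img_eleven autFacts C.set C.x_mem C.ord

theorem img_mem_zpowers {g : G} (hg : g ∈ cz z) (hgx : Commute g x) :
    C.set.img g ∈ Subgroup.zpowers (C.set.img x) := by
  have hle : Subgroup.zpowers (C.set.img x) ≤ Subgroup.centralizer ({C.set.img x} : Set AutM22) :=
    Subgroup.zpowers_le.mpr (mem_centralizer_single.mpr (Commute.refl _))
  have heq := Subgroup.eq_of_le_of_card_ge hle (by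
    rw [Nat.card_zpowers, C.img_x, J4BigPrimes.cent_eleven C.img_x])
  rw [heq]
  refine mem_centralizer_single.mpr ?_
  show _ * _ = _ * _
  rw [← C.set.img_mul hg C.x_mem, ← C.set.img_mul C.x_mem hg, hgx.eq]

variable (I : J4BigPrimes.Inputs z)
include I

theorem card_fixQ : Nat.card ↥(fixQ z x) = 8 := by
  have : Fact (Nat.Prime 11) := ⟨by norm_num⟩
  have hd := J4BigPrimes.two_part C.set autFacts I C.ord
    (C.set.isPGroup_Q.to_le inf_le_left : IsPGroup 2 ↥(fixQ z x)) inf_le_right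
  have hmod := J4Local.Five.card_fixed_modEq (K := Q z) C.x_pow fun v hv => C.conj_mem_Q hv
  change _ ≡ Nat.card ↥(fixQ z x) [MOD 11] at hmod
  obtain ⟨k, hk, hk'⟩ := (Nat.dvd_prime_pow Nat.prime_two).mp
    (show Nat.card ↥(fixQ z x) ∣ 2 ^ 3 from hd)
  rw [C.set.card_E, hk', Nat.ModEq] at hmod
  rw [hk']
  interval_cases k <;> simp_all

omit I

theorem exists_noncomm {e : G} (he : e ∈ fixQ z x) (h1 : e ≠ 1) (hz : e ≠ z) :
    ∃ P ∈ fixQ z x, ¬ Commute P e := by
  have hE := C.set.es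
  obtain ⟨heQ, hex⟩ := mem_fixQ.mp he
  obtain ⟨q, hq, hqe⟩ := hE.exists_conj_ne heQ h1 hz
  have hchi : chi e q = 1 := by
    rw [hE.chi_comm]
    unfold chi
    rw [if_neg]
    rw [hqe]
    simpa using hE.ne
  have hterm : ∀ n : ℕ, x ^ n * q * (x ^ n)⁻¹ ∈ Q z ∧ chi e (x ^ n * q * (x ^ n)⁻¹) = 1 := fun n => by
    refine ⟨isQ.normal (C.xz.pow_left n) hq, ?_⟩
    have h := chi_conj (x ^ n) e q
    rw [show x ^ n * e * (x ^ n)⁻¹ = e from
      mul_inv_eq_iff_eq_mul.mpr (hex.symm.pow_left n).eq] at h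
    rw [h, hchi]
  have hP : ∀ n : ℕ, orb x q n ∈ Q z ∧ chi e (orb x q n) = (n : ZMod 2) := by
    intro n
    induction n with
    | zero =>
      refine ⟨one_mem _, ?_⟩
      rw [Nat.cast_zero, chi_eq_zero]
      exact Commute.one_right e
    | succ m ih =>
      refine ⟨mul_mem ih.1 (hterm m).1, ?_⟩
      rw [orb, hE.chi_mul_right heQ ih.1 (hterm m).1, ih.2, (hterm m).2, Nat.cast_succ]
  set P := orb x q 11 with hPdef
  have hfix : x * P * x⁻¹ = P := by
    have hs := orb_shift x q 11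
    rw [C.x_pow, inv_one, one_mul, mul_one, ← hPdef] at hs
    have hs' : x * P * x⁻¹ = q⁻¹ * P * q := by rw [mul_assoc q⁻¹, ← hs, inv_mul_cancel_left]
    rcases hE.conj q⁻¹ (inv_mem hq) P (hP 11).1 with h | h <;> rw [inv_inv] at h
    · rw [hs', h]
    · exfalso
      rw [← hs'] at h
      have key : ∀ n : ℕ, x ^ n * P * (x ^ n)⁻¹ = P * z ^ n := by
        intro n
        induction n with
        | zero => simp
        | succ m ih =>
          calc x ^ (m + 1) * P * (x ^ (m + 1))⁻¹ = x * (x ^ m * P * (x ^ m)⁻¹) * x⁻¹ := by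
                rw [pow_succ']; group
            _ = (x * P * x⁻¹) * (x * z ^ m * x⁻¹) := by rw [ih]; group
            _ = P * z ^ (m + 1) := by
                rw [h, (C.xz.pow_right m).eq, mul_inv_cancel_right, pow_succ']; group
      have := key 11
      rw [C.x_pow, one_mul, inv_one, mul_one, left_eq_mul] at this
      refine hE.ne ?_
      rwa [pow_succ, show (10 : ℕ) = 2 * 5 from rfl, pow_mul, sq, hE.sq, one_pow, one_mul] at this
  refine ⟨P, mem_fixQ.mpr ⟨(hP 11).1, (mul_inv_eq_iff_eq_mul.mp hfix).symm⟩, fun hc => ?_⟩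
  have h0 := (hP 11).2
  rw [chi_eq_zero.mpr hc.symm] at h0
  exact absurd h0 (by decide)

theorem fixQ_mod {e : G} (he : e ∈ fixQ z x) (h1 : e ≠ 1) (hz : e ≠ z) :
    p * e * p⁻¹ ≠ 1 ∧ p * e * p⁻¹ ≠ z ∧ p * e * p⁻¹ ≠ e ∧ p * e * p⁻¹ ≠ e * z := by
  have hpz : p * z * p⁻¹ = z := mul_inv_eq_iff_eq_mul.mpr C.set.p_z.eq
  refine ⟨fun h => h1 (conj_eq_one_iff.mp h), fun h => hz ?_, fun h => ?_, fun h => ?_⟩
  · exact mul_left_cancel (mul_right_cancel (h.trans hpz.symm))
  · exact (C.set.fix_mod (mem_fixQ.mp he).1 (Or.inl h)).elim h1 hz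
  · exact (C.set.fix_mod (mem_fixQ.mp he).1 (Or.inr h)).elim h1 hz

include I

/-- `C_Q(x)` is a quaternion group: every element outside `⟨z⟩` squares to `z`. -/
theorem sq_fixQ {e : G} (he : e ∈ fixQ z x) (h1 : e ≠ 1) (hz : e ≠ z) : e * e = z := by
  have hE := C.set.es
  obtain ⟨heQ, hex⟩ := mem_fixQ.mp he
  refine (hE.sq_cases heQ).resolve_left fun hee => ?_
  set A := fixQ z x ⊓ cz e with hA
  have hidx : (A.subgroupOf (fixQ z x)).index = 2 := by
    obtain ⟨P, hP, hPe⟩ := C.exists_noncomm he h1 hz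
    rw [Subgroup.index_eq_two_iff]
    refine ⟨⟨P, hP⟩, fun b => ?_⟩
    have hbQ := (mem_fixQ.mp b.2).1
    have key : ∀ f : ↥(fixQ z x), f ∈ A.subgroupOf (fixQ z x) ↔ chi e (f : G) = 0 := fun f => by
      rw [Subgroup.mem_subgroupOf, chi_eq_zero, hA]
      exact ⟨fun h => (mem_cz.mp h.2).symm, fun h => ⟨f.2, mem_cz.mpr h.symm⟩⟩
    rw [key, key, Subgroup.coe_mul, hE.chi_mul_right heQ hbQ (mem_fixQ.mp hP).1]
    have hne : chi e P = 1 :=
      (show ∀ a : ZMod 2, a ≠ 0 → a = 1 by decide) _ fun h0 => hPe (chi_eq_zero.mp h0).symm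
    rw [hne]
    exact (show ∀ a : ZMod 2, Xor (a + 1 = 0) (a = 0) by unfold Xor; decide) _
  have hAle : A ≤ fixQ z x := inf_le_left
  have hcardA : Nat.card ↥A = 4 := by
    have h := Subgroup.card_mul_index (A.subgroupOf (fixQ z x))
    rw [hidx, C.card_fixQ I, Nat.card_congr (Subgroup.subgroupOfEquivOfLe hAle).toEquiv] at h
    omega
  have hzA : z ∈ A := ⟨C.z_mem_fixQ, mem_cz.mpr (hE.comm e heQ).symm⟩
  have heA : e ∈ A := ⟨he, mem_cz.mpr (Commute.refl e)⟩
  have hAset : ∀ a ∈ A, a = 1 ∨ a = z ∨ a = e ∨ a = e * z := by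
    classical
    have hsub : (↑({1, z, e, e * z} : Finset G) : Set G) ⊆ (A : Set G) := by
      intro a ha
      simp only [Finset.coe_insert, Finset.coe_singleton, Set.mem_insert_iff,
        Set.mem_singleton_iff] at ha
      rcases ha with rfl | rfl | rfl | rfl
      exacts [one_mem _, hzA, heA, mul_mem heA hzA]
    have hc : ({1, z, e, e * z} : Finset G).card = 4 := by
      have n1 : z ≠ 1 := hE.ne
      have n2 : e * z ≠ 1 := fun h => hz ((eq_inv_of_mul_eq_one_left h).trans hE.zinv)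
      have n3 : e * z ≠ z := fun h => h1 (mul_eq_right.mp h)
      have n4 : e * z ≠ e := fun h => n1 (mul_eq_left.mp h)
      rw [Finset.card_insert_of_notMem, Finset.card_insert_of_notMem, Finset.card_insert_of_notMem,
        Finset.card_singleton]
      · simpa using n4.symm
      · simp [Ne.symm hz, n3.symm]
      · simp [Ne.symm h1, n1.symm, n2.symm]
    have hAeq := Set.eq_of_subset_of_ncard_le hsub (by
      rw [Set.ncard_coe_finset, hc, ← Nat.card_coe_set_eq]
      exact hcardA.le)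
    intro a ha
    have ha' : a ∈ (↑({1, z, e, e * z} : Finset G) : Set G) := hAeq ▸ ha
    simpa using ha'
  set e1 := p * e * p⁻¹ with he1
  set e2 := p * e1 * p⁻¹ with he2
  have m1 := C.conj_p_mem he
  have m2 := C.conj_p_mem m1
  obtain ⟨a1, a2, a3, a4⟩ := C.fixQ_mod he h1 hz
  have nc1 : ¬ Commute e1 e := fun hc => by
    rcases hAset e1 ⟨m1, mem_cz.mpr hc⟩ with h | h | h | h
    exacts [a1 h, a2 h, a3 h, a4 h]
  have hp3 : p * e2 * p⁻¹ = e := by
    rw [he2, he1, show p * (p * (p * e * p⁻¹) * p⁻¹) * p⁻¹ = p ^ 3 * e * (p ^ 3)⁻¹ by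
      rw [pow_succ, pow_two]; group, C.set.p_cube]
    group
  have nc2 : ¬ Commute e2 e := fun hc => by
    have h := hc.map (MulAut.conj p)
    simp only [MulAut.conj_apply] at h
    rw [hp3, ← he1] at h
    exact nc1 h.symm
  have hq1 := (mem_fixQ.mp m1).1
  have hq2 := (mem_fixQ.mp m2).1
  have hchi : chi e (e1 * e2) = 0 := by
    rw [hE.chi_mul_right heQ hq1 hq2]
    have key : ∀ a : ZMod 2, a ≠ 0 → a = 1 := by decide
    rw [key _ fun h0 => nc1 (chi_eq_zero.mp h0).symm, key _ fun h0 => nc2 (chi_eq_zero.mp h0).symm]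
    decide
  have hsq12 : (e1 * e2) * (e1 * e2) = 1 := by
    rcases hAset _ ⟨mul_mem m1 m2, mem_cz.mpr (chi_eq_zero.mp hchi).symm⟩ with h | h | h | h <;>
      rw [h]
    · simp
    · exact hE.sq
    · exact hee
    · rw [← mul_assoc, mul_assoc e z e, (hE.comm e heQ).symm.eq, ← mul_assoc, hee, one_mul, hE.sq]
  have sq1 : e1 * e1 = 1 := by
    rw [he1, show p * e * p⁻¹ * (p * e * p⁻¹) = p * (e * e) * p⁻¹ by group, hee]; simp
  have i1 : e1⁻¹ = e1 := inv_eq_of_mul_eq_one_right sq1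
  have i2 : e2⁻¹ = e2 := inv_eq_of_mul_eq_one_right (by
    rw [he2, show p * e1 * p⁻¹ * (p * e1 * p⁻¹) = p * (e1 * e1) * p⁻¹ by group, sq1]; simp)
  have hc12 : Commute e1 e2 := by
    have := eq_inv_of_mul_eq_one_left hsq12
    rw [mul_inv_rev, i1, i2] at this
    exact this
  have h := hc12.map (MulAut.conj p⁻¹)
  simp only [MulAut.conj_apply, inv_inv] at h
  rw [show p⁻¹ * e1 * p = e by rw [he1]; group, show p⁻¹ * e2 * p = e1 by rw [he2]; group] at h
  exact nc1 h.symm

/-- `z` is the only involution centralising both `z` and `x`. -/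
theorem inv_eq_z {j : G} (hz : Commute j z) (hx : Commute j x) (h2 : j * j = 1) (h1 : j ≠ 1) :
    j = z := by
  have hjz := mem_cz.mpr hz
  have himg : C.set.img j = 1 := by
    have ho : orderOf (C.set.img j) ∣ 2 := orderOf_dvd_of_pow_eq_one (by
      rw [← C.set.img_pow hjz, sq, h2, C.set.img_of_mem (one_mem _)]
      exact map_one _)
    have h11 : orderOf (C.set.img j) ∣ 11 :=
      C.img_x ▸ orderOf_dvd_of_mem_zpowers (C.img_mem_zpowers hjz hx)
    exact orderOf_eq_one_iff.mp (Nat.dvd_one.mp (Nat.dvd_gcd ho h11))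
  by_contra hne
  have := C.sq_fixQ I (mem_fixQ.mpr ⟨C.set.mem_Q_of_img_one hjz himg (k := 1) (by
    rw [pow_one, sq, h2]), hx⟩) h1 hne
  exact C.set.es.ne (this.symm.trans h2)

end Ctx

section General

variable [IsSimpleGroup G] (hG : ¬ IsMulCommutative G) (S : Setting z p) (I : J4BigPrimes.Inputs z)
include hG S I

/-- No element of order five commutes with an element of order eleven. -/
theorem no_five {y f : G} (hy : orderOf y = 11) (hf : orderOf f = 5) : ¬ Commute f y := fun hc => by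
  have h := (Subgroup.card_dvd_of_le
    (Subgroup.zpowers_le.mpr (mem_cz.mpr hc.symm) : Subgroup.zpowers y ≤ cz f)).trans
    (J4BigPrimes.cent_five S autFacts I hf)
  rw [Nat.card_zpowers, hy] at h
  norm_num at h

/-- The centralizer of any element of order eleven. -/
theorem card_cz_eleven {y : G} (hy : orderOf y = 11) :
    Nat.card ↥(cz y) ∣ 2 ^ 3 * 3 * 11 ^ 3 := by
  set n := Nat.card ↥(cz y) with hn
  have hel : ∀ (q : ℕ) [Fact q.Prime], q ∣ n → ∃ w : G, orderOf w = q ∧ Commute w y := by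
    intro q _ hq
    obtain ⟨⟨w, hw⟩, hwo⟩ := exists_prime_orderOf_dvd_card' (G := ↥(cz y)) q hq
    rw [Subgroup.orderOf_mk] at hwo
    exact ⟨w, hwo, mem_cz.mp hw⟩
  have h5 : ¬ 5 ∣ n := fun h => by
    have := Fact.mk Nat.prime_five
    obtain ⟨w, hw, hc⟩ := hel 5 h
    exact no_five hG S I hy hw hc
  have h7 : ¬ 7 ∣ n := fun h => by
    have := Fact.mk (by norm_num : Nat.Prime 7)
    obtain ⟨w, hw, hc⟩ := hel 7 h
    have h' := (Subgroup.card_dvd_of_le
      (Subgroup.zpowers_le.mpr (mem_cz.mpr hc.symm) : Subgroup.zpowers y ≤ cz w)).trans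
      (J4BigPrimes.cent_seven S autFacts I hw)
    rw [Nat.card_zpowers, hy] at h'
    norm_num at h'
  have hbig : ∀ q ∈ J4BigPrimes.Arith.primes, ¬ q ∣ n := fun q hq h => by
    obtain ⟨hqp, hqq, -, hqs, -⟩ := J4BigPrimes.mem_primes hq
    have := Fact.mk hqp
    obtain ⟨w, hw, hc⟩ := hel q h
    obtain ⟨U, hU⟩ := J4BigPrimes.sylow_of_order (by rw [I.order]; exact hqq) hw
    have hcen := (J4BigPrimes.sylow_structure hG S autFacts I hq U).1
    have hyU : y ∈ Subgroup.centralizer ((U : Subgroup G) : Set G) := by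
      rw [hU, Subgroup.zpowers_eq_closure, Subgroup.centralizer_closure]
      exact mem_cz.mpr hc.symm
    rw [hcen, hU] at hyU
    have h' := orderOf_dvd_of_mem_zpowers hyU
    rw [hy, hw, Nat.dvd_prime hqp] at h'
    rcases h' with h' | h'
    · norm_num at h'
    · subst h'; norm_num at hqs
  have h16 : ¬ 2 ^ (3 + 1) ∣ n := fun h => by
    have := Fact.mk Nat.prime_two
    obtain ⟨R, hR⟩ := Sylow.exists_subgroup_card_pow_prime (G := ↥(cz y)) 2 h
    have hd := J4BigPrimes.two_part S autFacts I hy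
      ((IsPGroup.of_card hR).map (cz y).subtype) (Subgroup.map_subtype_le _)
    rw [Subgroup.card_map_of_injective (Subgroup.subtype_injective _), hR] at hd
    norm_num at hd
  have h9 : ¬ 3 ^ (1 + 1) ∣ n := fun h => by
    have := Fact.mk Nat.prime_three
    obtain ⟨R, hR⟩ := Sylow.exists_subgroup_card_pow_prime (G := ↥(cz y)) 3 h
    have hd := J4BigPrimes.three_part S autFacts I hG hy
      ((IsPGroup.of_card hR).map (cz y).subtype) (Subgroup.map_subtype_le _)
    rw [Subgroup.card_map_of_injective (Subgroup.subtype_injective _), hR] at hd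
    norm_num at hd
  have hd : n ∣ (5 * 7 * 29 * 37 * 43 * 31 * 23) * (2 ^ 21 * (3 ^ 3 * 11 ^ 3)) := by
    have h := Subgroup.card_subgroup_dvd_card (cz y)
    rw [I.order] at h
    exact h.trans (dvd_of_eq (by norm_num))
  have hcop : ∀ q : ℕ, q.Prime → ¬ q ∣ n → Nat.Coprime n q := fun q hq h =>
    (hq.coprime_iff_not_dvd.mpr h).symm
  have hd2 : n ∣ 2 ^ 21 * (3 ^ 3 * 11 ^ 3) := by
    refine Nat.Coprime.dvd_of_dvd_mul_left ?_ hd
    refine Nat.Coprime.mul_right (Nat.Coprime.mul_right (Nat.Coprime.mul_right (Nat.Coprime.mul_right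
      (Nat.Coprime.mul_right (Nat.Coprime.mul_right ?_ ?_) ?_) ?_) ?_) ?_) ?_
    · exact hcop 5 Nat.prime_five h5
    · exact hcop 7 (by norm_num) h7
    all_goals exact hcop _ (by norm_num) (hbig _ (by simp [J4BigPrimes.Arith.primes]))
  have hd3 := J4BigPrimes.dvd_drop Nat.prime_two hd2 h16
  have hd4 : n ∣ 3 ^ 3 * (2 ^ 3 * 11 ^ 3) := hd3.trans (dvd_of_eq (by norm_num))
  exact (J4BigPrimes.dvd_drop Nat.prime_three hd4 h9).trans (dvd_of_eq (by norm_num))

end General

end Cfsg.Agent.Lib.J4Eleven49
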