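import Cfsg.Agent.Lib.J4BigPrimes.Data

/-!
# The normaliser of an element of order eleven in `Aut M22`
-/

set_option autoImplicit false
set_option linter.style.haveILetI false

namespace Cfsg.Agent.Lib.J4Eleven49

open Cfsg Cfsg.Agent.Lib.Golay Cfsg.Agent.Lib.Computation
open Cfsg.Agent.Lib.J4Local
open Cfsg.Agent.Lib.J4Local.AutModel
open Cfsg.Agent.Lib.J4Local.AutLocal
open Cfsg.Agent.Lib.J4Local.AutSylow
open Cfsg.Agent.Lib.FusionAlperin.MathieuCert
open Cfsg.Agent.Lib.J4BigPrimes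

namespace Facts

/-- An element squaring the element of order eleven. -/
def bCode : ℕ := 23707891720390626168856686102789271

theorem bOk : inBig bCode = true ∧ inBig (mulP 24 5 bCode Data.aCode) = true ∧
    mulP 24 5 bCode Data.aCode = mulP 24 5 (OutTrivial.cpow Data.aCode 2) bCode := by
  decide +kernel

theorem b_conj : aut bCode * Data.aA * (aut bCode)⁻¹ = Data.aA ^ 2 := by
  obtain ⟨h1, h2, h3⟩ := bOk
  have h4 := Data.spec.2.2.2.1 2 (by norm_num)
  rw [mul_inv_eq_iff_eq_mul, ← Data.aut_cpow 2 (by norm_num) h4, Data.aA,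
    aut_mul h1 Data.spec.1 h2 rfl, aut_mul h4 h1 (h3 ▸ h2) rfl, h3]

/-- Every element of order eleven of `Aut M22` is conjugate to its square. -/
theorem exists_conj_sq {a : AutM22} (ha : orderOf a = 11) : ∃ b : AutM22, b * a * b⁻¹ = a ^ 2 := by
  haveI : Fact (Nat.Prime 11) := ⟨by norm_num⟩
  have hf : (Nat.card AutM22).factorization 11 = 1 := by
    rw [AutModel.card_autM22, show (887040 : ℕ) = 11 ^ 1 * 80640 by norm_num,
      Nat.factorization_mul (by norm_num) (by norm_num), Finsupp.add_apply,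
      Nat.Prime.factorization_pow (by norm_num : Nat.Prime 11), Finsupp.single_eq_same,
      Nat.factorization_eq_zero_of_not_dvd (by norm_num : ¬ 11 ∣ 80640)]
  let P : Sylow 11 AutM22 := Sylow.ofCard (Subgroup.zpowers a)
    (by rw [Nat.card_zpowers, ha, hf, pow_one])
  let R : Sylow 11 AutM22 := Sylow.ofCard (Subgroup.zpowers Data.aA)
    (by rw [Nat.card_zpowers, Data.order_aA, hf, pow_one])
  obtain ⟨g, hg⟩ := MulAction.exists_smul_eq AutM22 P R
  have hb : g * a * g⁻¹ ∈ Subgroup.zpowers Data.aA := by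
    have : g * a * g⁻¹ ∈ ((R : Sylow 11 AutM22) : Subgroup AutM22) := by
      rw [← hg, Sylow.coe_subgroup_smul]
      exact Subgroup.smul_mem_pointwise_smul a (MulAut.conj g) _ (Subgroup.mem_zpowers a)
    exact this
  obtain ⟨i, hi⟩ := hb
  refine ⟨g⁻¹ * aut bCode * g, ?_⟩
  have hi' : Data.aA ^ i = g * a * g⁻¹ := hi
  calc g⁻¹ * aut bCode * g * a * (g⁻¹ * aut bCode * g)⁻¹
      = g⁻¹ * (aut bCode * (g * a * g⁻¹) * (aut bCode)⁻¹) * g := by group
    _ = g⁻¹ * (Data.aA ^ i) ^ 2 * g := by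
        rw [← hi', ← conj_zpow, b_conj, ← zpow_natCast (Data.aA ^ i) 2, ← zpow_mul,
          mul_comm i, zpow_mul, zpow_natCast]
    _ = a ^ 2 := by rw [hi', conj_pow]; group

end Facts

end Cfsg.Agent.Lib.J4Eleven49
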