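import Cfsg.Agent.Lib.J4Eleven49.Lin
import Cfsg.Agent.Lib.Characters.Linear
import Cfsg.Agent.Lib.Characters.Generalized
import Cfsg.Agent.Lib.H80.ClassMult

/-!
# The characters induced from differences of the eight linear characters

Owner: helper49.
-/

set_option autoImplicit false
set_option linter.unusedSectionVars false
set_option linter.style.haveILetI false

namespace Cfsg.Agent.Lib.J4Eleven49

open Cfsg.Agent.Lib
open Cfsg.Agent.Lib.J4Local
open scoped ComplexConjugate

/-- The data extracted from the abelian case. -/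
structure CharData (G : Type*) [Group G] [Fintype G] where
  /-- the eight induced differences -/
  F : Fin 8 → G → ℂ
  gen : ∀ R, Cfsg.IsGeneralizedCharacter G (F R)
  gram : ∀ R R' : Fin 8, R ≠ 7 → R' ≠ 7 →
    Cfsg.classInner (F R) (F R') = if R = R' then (wgt R : ℂ) + 1 else 1
  one : ∀ R, F R 1 = 0
  degree : ∀ χ : Cfsg.IrrCharacter G, ∃ m : ℤ, (χ : G → ℂ) 1 =
    ∑ R : Fin 8, ((240 / wgt R : ℕ) : ℂ) * ((m : ℂ) + Cfsg.classInner (χ : G → ℂ) (F R))
  t : G
  t_ord : orderOf t = 2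
  t_zero : ∀ R, F R t = 0
  zero7 : F 7 = 0
  triv : ∀ R : Fin 8, R ≠ 7 →
    Cfsg.classInner (F R) (Characters.Basic.oneChar G : G → ℂ) = if R = 0 then 1 else 0
  struct : ∀ [Fintype (Cfsg.IrrCharacter G)], ∑ χ : Cfsg.IrrCharacter G,
    Cfsg.classInner (F 2) (χ : G → ℂ) * (χ : G → ℂ) t ^ 2 / (χ : G → ℂ) 1 = 13762560 / 32897107

universe u

variable {G : Type u} [Group G]

/-- The eight linear characters. -/
noncomputable def lamOf {U : Subgroup G} (ψ β : ↥U →* ℂˣ) (R : Fin 8) : ↥U →* ℂˣ :=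
  ψ ^ eX R * β ^ eA R

variable [Fintype G] {U : Subgroup G}

/-- The function whose induced function is studied. -/
noncomputable def fOf (ψ β : ↥U →* ℂˣ) (R : Fin 8) : ↥U → ℂ :=
  fun u => (lamOf ψ β R u : ℂ) - (lamOf ψ β 7 u : ℂ)

theorem indFun_zero_of (θ : ↥U → ℂ) {g : G}
    (h : ∀ (c : G) (hc : c⁻¹ * g * c ∈ U), θ ⟨_, hc⟩ = 0) : Cfsg.indFun U θ g = 0 := by
  classical
  rw [Induced.Basic.indFun_apply, Finset.sum_eq_zero fun c _ => ?_, mul_zero]
  split_ifs with hc
  · exact h c hc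
  · rfl

theorem classInner_hom [Fintype ↥U] [DecidableEq (↥U →* ℂˣ)] (a b : ↥U →* ℂˣ) :
    Cfsg.classInner (fun u : ↥U => (a u : ℂ)) (fun u : ↥U => (b u : ℂ)) =
      if a = b then 1 else 0 := by
  have h := Characters.Basic.classInner_irr (Characters.Linear.linChar a) (Characters.Linear.linChar b)
  by_cases hab : a = b
  · rw [if_pos hab]
    rw [if_pos (by rw [hab])] at h
    exact h
  · rw [if_neg hab]
    rw [if_neg fun e => hab (Characters.Linear.linChar_injective e)] at h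
    exact h

theorem sum_hom_zero {H : Type*} [Group H] [Fintype H] (φ : H →* ℂˣ) {a : H} (ha : φ a ≠ 1) :
    ∑ g : H, (φ g : ℂ) = 0 := by
  have h : (φ a : ℂ) * ∑ g : H, (φ g : ℂ) = ∑ g : H, (φ g : ℂ) := by
    rw [Finset.mul_sum]
    refine Fintype.sum_equiv (Equiv.mulLeft a) _ _ fun g => ?_
    simp
  have h2 : ((φ a : ℂ) - 1) * ∑ g : H, (φ g : ℂ) = 0 := by rw [sub_mul, h, one_mul, sub_self]
  rcases mul_eq_zero.mp h2 with h3 | h3
  · exact absurd (Units.ext (sub_eq_zero.mp h3)) ha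
  · exact h3

theorem gram_arith (w : Fin 8 → ℕ) (R R' : Fin 8) :
    (11 : ℂ)⁻¹ * ((((if R' = R then 11 * w R' else 0 : ℕ) : ℂ) - ((if 7 = R then 11 * w 7 else 0 : ℕ) : ℂ))
      - (((if R' = 7 then 11 * w R' else 0 : ℕ) : ℂ) - ((if (7 : Fin 8) = 7 then 11 * w 7 else 0 : ℕ) : ℂ))) =
    (if R = R' then (w R : ℂ) else 0) - (if 7 = R' then (w 7 : ℂ) else 0)
      - (if R = 7 then (w R : ℂ) else 0) + (w 7 : ℂ) := by
  rcases eq_or_ne R R' with rfl | h1
  · rcases eq_or_ne R 7 with rfl | h2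
    · simp
    · simp [h2, h2.symm]; ring
  · rcases eq_or_ne R 7 with rfl | h2
    · simp [h1, h1.symm]
    · rcases eq_or_ne R' 7 with rfl | h3
      · simp [h1, h1.symm]
      · simp [h1, h1.symm, h2, h2.symm, h3, h3.symm]

variable {z p x : G}

namespace Ctx

variable (C : Ctx z p x) (I : J4BigPrimes.Inputs z) (hU : Cent z x U)
variable (hab : ∀ a ∈ U, ∀ b ∈ U, Commute a b)
variable [IsSimpleGroup G] (hG : ¬ IsMulCommutative G)
variable (L : LinData z x U hab (dSub_conj hU))
include C I hU hab hG L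

theorem sum_nz {φ : G → ℂ} (hφ : ∀ v ∈ U, ∀ g ∈ J4BigPrimes.nz x, φ (v * g) = φ g)
    [Fintype ↥(J4BigPrimes.nz x)] [Fintype ↥(dSub z x)] :
    (11 : ℂ) * ∑ g : ↥(J4BigPrimes.nz x), φ g = 1331 * ∑ d : ↥(dSub z x), φ d := by
  classical
  have := Fintype.ofFinite ↥U
  have := Fintype.ofFinite ↥(Subgroup.zpowers x)
  have hUn : U ≤ J4BigPrimes.nz x := fun v hv => J4BigPrimes.cz_le_nz x (hU.le_cz hv)
  let f : ↥U × ↥(dSub z x) → ↥(J4BigPrimes.nz x) := fun q => ⟨q.1 * q.2, mul_mem (hUn q.1.2) q.2.2.1⟩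
  have hfib : ∀ g, (Finset.univ.filter fun q => f q = g).card = 11 := by
    intro g
    obtain ⟨v, hv, hvd⟩ := C.exists_mem_cz_conj I hU g.2
    rw [← C.ord, ← Nat.card_zpowers, Nat.card_eq_fintype_card, ← Finset.card_univ]
    symm
    refine Finset.card_bij (fun k _ => (⟨v⁻¹ * (k : G)⁻¹, mul_mem (inv_mem hv) (inv_mem
        (Subgroup.zpowers_le.mpr hU.x_mem k.2))⟩, ⟨(k : G) * (v * g), ?_⟩)) ?_ ?_ ?_
    · exact mul_mem ⟨J4BigPrimes.cz_le_nz x (hU.le_cz (Subgroup.zpowers_le.mpr hU.x_mem k.2)),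
        Subgroup.zpowers_le.mpr C.x_mem k.2⟩ hvd
    · intro k _
      refine Finset.mem_filter.mpr ⟨Finset.mem_univ _, Subtype.ext ?_⟩
      show v⁻¹ * (k : G)⁻¹ * ((k : G) * (v * g)) = g
      group
    · intro k _ k' _ h
      exact Subtype.ext (mul_right_cancel (congrArg (fun q : ↥U × ↥(dSub z x) => (q.2 : G)) h))
    · rintro ⟨u, d⟩ hq
      have hug : (u : G) * d = g := congrArg Subtype.val (Finset.mem_filter.mp hq).2
      have hk : (d : G) * (v * g)⁻¹ ∈ Subgroup.zpowers x := by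
        refine hU.inter _ ?_ (mem_cz.mp (mul_mem d.2.2 (inv_mem hvd.2)))
        rw [← hug, show (d : G) * (v * (u * d))⁻¹ = (u : G)⁻¹ * v⁻¹ by group]
        exact mul_mem (inv_mem u.2) (inv_mem hv)
      refine ⟨⟨_, hk⟩, Finset.mem_univ _, Prod.ext (Subtype.ext ?_) (Subtype.ext ?_)⟩
      · show v⁻¹ * ((d : G) * (v * g)⁻¹)⁻¹ = u
        rw [← hug]; group
      · show (d : G) * (v * g)⁻¹ * (v * g) = d
        group
  have h1 : ∑ q : ↥U × ↥(dSub z x), φ (f q) = (11 : ℂ) * ∑ g : ↥(J4BigPrimes.nz x), φ g := by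
    rw [← Finset.sum_fiberwise Finset.univ f, Finset.mul_sum]
    refine Finset.sum_congr rfl fun g _ => ?_
    rw [Finset.sum_congr rfl fun q hq => by rw [(Finset.mem_filter.mp hq).2], Finset.sum_const, hfib g,
      nsmul_eq_mul]
    norm_num
  rw [← h1, Fintype.sum_prod_type, Finset.sum_congr rfl fun (u : ↥U) _ =>
    Finset.sum_congr rfl fun (d : ↥(dSub z x)) _ => hφ u u.2 d d.2.1, Finset.sum_const,
    Finset.card_univ, ← Nat.card_eq_fintype_card, hU.card, nsmul_eq_mul]
  norm_num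

omit L in
theorem conj_mem_of_comm {g : G} {u : G} (hu : u ∈ U) (hu1 : u ≠ 1) (hg : g⁻¹ * u * g ∈ U) :
    g ∈ J4BigPrimes.nz x := by
  have h := C.fusion I hU hab hG hu hu1 (g := g⁻¹) (by rwa [inv_inv])
  simpa using inv_mem h

/-- The conjugate of a linear character. -/
theorem cj_hom (d : ↥(dSub z x)) (R : Fin 8) (u : ↥U) :
    ((lamOf L.psi L.beta R).comp (cjU U d (dSub_conj hU d d.2)) u : ℂ) =
      (lamOf L.psi L.beta R ⟨(d : G) * u * (d : G)⁻¹, dSub_conj hU d d.2 u u.2⟩ : ℂ) := rfl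

omit C I hG in
theorem count' (R R' : Fin 8) :
    Nat.card {d : ↥(dSub z x) // lamOf L.psi L.beta R' =
      (lamOf L.psi L.beta R).comp (cjU U d (dSub_conj hU d d.2))} =
        if R = R' then 11 * wgt R else 0 := by
  rw [← L.count R R']
  exact Nat.card_congr (Equiv.subtypeEquivRight fun d => eq_comm)

theorem inner_ind (R R' : Fin 8) :
    Cfsg.classInner (Cfsg.indFun U (fOf L.psi L.beta R)) (Cfsg.indFun U (fOf L.psi L.beta R')) =
      (if R = R' then (wgt R : ℂ) else 0) - (if 7 = R' then (wgt 7 : ℂ) else 0)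
        - (if R = 7 then (wgt R : ℂ) else 0) + (wgt 7 : ℂ) := by
  classical
  have := Fintype.ofFinite ↥U
  have := Fintype.ofFinite ↥(J4BigPrimes.nz x)
  have := Fintype.ofFinite ↥(dSub z x)
  set lam := lamOf L.psi L.beta
  set f := fOf L.psi L.beta
  rw [Induced.Basic.frobenius_reciprocity U (f R) (Induced.Basic.isClassFunction_indFun U _)]
  have hres : ∀ u : ↥U, f R u * conj (Cfsg.indFun U (f R') u) = f R u * conj ((11 : ℂ)⁻¹ *
      ∑ d : ↥(dSub z x), f R' (cjU U d (dSub_conj hU d d.2) u)) := by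
    intro u
    by_cases hu1 : (u : G) = 1
    · rw [show u = 1 from Subtype.ext hu1]
      simp [f, fOf]
    congr 2
    let φ : G → ℂ := fun g => Cfsg.extendByZero U (f R') (g⁻¹ * u * g)
    have hφ : ∀ v ∈ U, ∀ g ∈ J4BigPrimes.nz x, φ (v * g) = φ g := fun v hv g _ => by
      show Cfsg.extendByZero U (f R') ((v * g)⁻¹ * u * (v * g)) = _
      rw [show (v * g)⁻¹ * (u : G) * (v * g) = g⁻¹ * (v⁻¹ * u * v⁻¹⁻¹) * g by group,
        mul_inv_eq_iff_eq_mul.mpr (hab _ (inv_mem hv) u u.2).eq]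
    have hzero : ∀ g : G, g ∉ J4BigPrimes.nz x → φ g = 0 := fun g hg =>
      Induced.Basic.extendByZero_of_not_mem U _ fun h =>
        hg (C.conj_mem_of_comm I hU hab hG u.2 hu1 h)
    have h1 : ∑ g : G, φ g = ∑ g : ↥(J4BigPrimes.nz x), φ g := by
      symm
      refine Finset.sum_of_injOn (fun g => (g : G)) Subtype.val_injective.injOn
        (fun _ _ => Finset.mem_univ _) (fun g _ hg => hzero g fun h =>
          hg ⟨⟨g, h⟩, Finset.mem_univ _, rfl⟩) (fun _ _ => rfl)
    have h2 : ∑ d : ↥(dSub z x), φ d =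
        ∑ d : ↥(dSub z x), f R' (cjU U d (dSub_conj hU d d.2) u) := by
      refine Fintype.sum_equiv (Equiv.inv _) _ _ fun d => ?_
      have hmem : (d : G)⁻¹ * u * d ∈ U := by
        have := dSub_conj hU _ (inv_mem d.2) u u.2
        rwa [inv_inv] at this
      show Cfsg.extendByZero U (f R') ((d : G)⁻¹ * u * d) = _
      rw [Induced.Basic.extendByZero_of_mem U _ hmem]
      refine congrArg (f R') (Subtype.ext ?_)
      rw [coe_cjU]
      simp
    have h3 := C.sum_nz I hU hab hG L hφ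
    rw [h2] at h3
    show (Nat.card ↥U : ℂ)⁻¹ * ∑ g : G, φ g = _
    rw [h1, hU.card]
    push_cast
    field_simp
    linear_combination h3
  have hstep : Cfsg.classInner (f R) (fun u : ↥U => Cfsg.indFun U (f R') u) =
      (11 : ℂ)⁻¹ * ∑ d : ↥(dSub z x),
        Cfsg.classInner (f R) (fun u : ↥U => f R' (cjU U d (dSub_conj hU d d.2) u)) := by
    simp only [Cfsg.classInner]
    rw [Finset.sum_congr rfl fun u _ => hres u]
    simp only [map_mul, map_sum, map_inv₀, map_ofNat, Finset.mul_sum]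
    rw [Finset.sum_comm]
    refine Finset.sum_congr rfl fun d _ => Finset.sum_congr rfl fun u _ => ?_
    ring
  rw [hstep]
  have hd : ∀ d : ↥(dSub z x),
      Cfsg.classInner (f R) (fun u : ↥U => f R' (cjU U d (dSub_conj hU d d.2) u)) =
        (if lam R = (lam R').comp (cjU U d (dSub_conj hU d d.2)) then (1 : ℂ) else 0)
        - (if lam R = (lam 7).comp (cjU U d (dSub_conj hU d d.2)) then 1 else 0)
        - ((if lam 7 = (lam R').comp (cjU U d (dSub_conj hU d d.2)) then 1 else 0)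
        - (if lam 7 = (lam 7).comp (cjU U d (dSub_conj hU d d.2)) then 1 else 0)) := by
    intro d
    rw [← classInner_hom, ← classInner_hom, ← classInner_hom, ← classInner_hom,
      ← Induced.Basic.classInner_sub_right, ← Induced.Basic.classInner_sub_right,
      ← Induced.Basic.classInner_sub_left]
    rfl
  rw [Finset.sum_congr rfl fun d _ => hd d]
  simp only [Finset.sum_sub_distrib, Finset.sum_boole, ← Fintype.card_subtype,
    ← Nat.card_eq_fintype_card]
  rw [count' hU hab L, count' hU hab L, count' hU hab L, count' hU hab L]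
  exact gram_arith wgt R R'

omit L in
theorem cjU_comp (d e : ↥(dSub z x)) :
    (cjU U d (dSub_conj hU d d.2)).comp (cjU U e (dSub_conj hU e e.2)) =
      cjU U ((d * e : ↥(dSub z x)) : G) (dSub_conj hU _ (d * e).2) := by
  refine MonoidHom.ext fun u => Subtype.ext ?_
  show (d : G) * ((e : G) * u * (e : G)⁻¹) * (d : G)⁻¹ = _
  rw [coe_cjU, Subgroup.coe_mul]
  group

theorem degree_eq (χ : Cfsg.IrrCharacter G) : ∃ m : ℤ, (χ : G → ℂ) 1 =
    ∑ R : Fin 8, ((240 / wgt R : ℕ) : ℂ) *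
      ((m : ℂ) + Cfsg.classInner (χ : G → ℂ) (Cfsg.indFun U (fOf L.psi L.beta R))) := by
  classical
  have := Fintype.ofFinite ↥U
  have := Fintype.ofFinite ↥(dSub z x)
  have hcomm : ∀ a b : ↥U, a * b = b * a := fun a b => Subtype.ext (hab a a.2 b b.2).eq
  letI : CommGroup ↥U := { (inferInstance : Group ↥U) with mul_comm := hcomm }
  set lam := lamOf L.psi L.beta
  set r : ↥U → ℂ := fun u => (χ : G → ℂ) u with hr
  have hrc : Cfsg.IsCharacter ↥U r :=
    Characters.Basic.isCharacter_comp U.subtype (Characters.Basic.isCharacter_irr χ)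
  set m : (↥U →* ℂˣ) → ℂ := fun μ => Cfsg.classInner r (fun u => (μ u : ℂ)) with hm
  have hlin : ∀ μ : ↥U →* ℂˣ, Cfsg.IsCharacter ↥U (fun u => (μ u : ℂ)) := fun μ =>
    Characters.Basic.isCharacter_irr (Characters.Linear.linChar μ)
  obtain ⟨k, hk⟩ := Characters.Basic.exists_classInner_nat hrc (hlin (lam 7))
  haveI : Finite (↥U →* ℂˣ) := Nat.finite_of_card_ne_zero (by
    rw [CommGroup.card_monoidHom_of_hasEnoughRootsOfUnity ↥U ℂ, hU.card]; norm_num)
  have := Fintype.ofFinite (↥U →* ℂˣ)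
  have hinv : ∀ (μ : ↥U →* ℂˣ) (d : ↥(dSub z x)),
      m (μ.comp (cjU U d (dSub_conj hU d d.2))) = m μ := by
    intro μ d
    simp only [hm, Cfsg.classInner]
    congr 1
    have hbij : Function.Bijective (cjU U d (dSub_conj hU d d.2)) := by
      refine Function.Injective.bijective_of_finite fun a b h => Subtype.ext ?_
      exact mul_left_cancel (mul_right_cancel (congrArg Subtype.val h))
    refine Fintype.sum_equiv (Equiv.ofBijective _ hbij) _ _ fun u => ?_
    have hχ : (χ : G → ℂ) ((d : G) * u * (d : G)⁻¹) = (χ : G → ℂ) u :=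
      Characters.Basic.isClassFunction_irr χ (u : G) (d : G)
    show r u * _ = r (cjU U d (dSub_conj hU d d.2) u) * _
    rw [hr]
    simp only [coe_cjU, hχ]
    rfl
  -- the orbits
  let act : Fin 8 → ↥(dSub z x) → (↥U →* ℂˣ) := fun R d =>
    (lam R).comp (cjU U d (dSub_conj hU d d.2))
  let O : Fin 8 → Finset (↥U →* ℂˣ) := fun R => Finset.univ.image (act R)
  have hact : ∀ (R R' : Fin 8) (d e : ↥(dSub z x)), act R d = act R' e →
      lam R' = act R (d * e⁻¹) := by
    intro R R' d e h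
    have e1 : act R (d * e⁻¹) = (act R d).comp (cjU U (e⁻¹ : ↥(dSub z x)) (dSub_conj hU _ (e⁻¹).2)) := by
      simp only [act, MonoidHom.comp_assoc, C.cjU_comp I hU hab hG]
    rw [e1, h]
    refine MonoidHom.ext fun u => congrArg (lam R') (Subtype.ext ?_)
    show (u : G) = (e : G) * ((e⁻¹ : ↥(dSub z x)) * u * ((e⁻¹ : ↥(dSub z x)) : G)⁻¹) * (e : G)⁻¹
    rw [InvMemClass.coe_inv]
    group
  have hdisj : ∀ R R' : Fin 8, R ≠ R' → Disjoint (O R) (O R') := by
    intro R R' hne
    rw [Finset.disjoint_left]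
    intro μ h1 h2
    obtain ⟨d, -, rfl⟩ := Finset.mem_image.mp h1
    obtain ⟨e, -, he⟩ := Finset.mem_image.mp h2
    have hz := count' hU hab L R R'
    rw [if_neg hne] at hz
    haveI : IsEmpty {d : ↥(dSub z x) // lam R' = (lam R).comp (cjU U d (dSub_conj hU d d.2))} :=
      (Nat.card_eq_zero.mp hz).resolve_right fun h => h.not_finite inferInstance
    exact isEmptyElim (⟨d * e⁻¹, hact R R' d e he.symm⟩ :
      {d : ↥(dSub z x) // lam R' = (lam R).comp (cjU U d (dSub_conj hU d d.2))})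
  have hcard : ∀ R, (O R).card = 240 / wgt R := by
    intro R
    have hfib : ∀ μ ∈ O R, (Finset.univ.filter fun d => act R d = μ).card = 11 * wgt R := by
      intro μ hμ
      obtain ⟨d0, -, rfl⟩ := Finset.mem_image.mp hμ
      have hc := count' hU hab L R R
      rw [if_pos rfl] at hc
      rw [← hc, ← Fintype.card_subtype, ← Nat.card_eq_fintype_card]
      refine Nat.card_congr ⟨fun d => ⟨d.1 * d0⁻¹, hact R R d.1 d0 d.2⟩,
        fun d => ⟨d.1 * d0, ?_⟩, fun d => Subtype.ext (inv_mul_cancel_right _ _),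
        fun d => Subtype.ext (mul_inv_cancel_right _ _)⟩
      show act R (d.1 * d0) = act R d0
      simp only [act]
      rw [← C.cjU_comp I hU hab hG, ← MonoidHom.comp_assoc, ← d.2]
    have h := Finset.card_eq_sum_card_image (act R) (Finset.univ : Finset ↥(dSub z x))
    change _ = ∑ μ ∈ O R, _ at h
    rw [Finset.sum_congr rfl hfib, Finset.sum_const, smul_eq_mul, Finset.card_univ,
      ← Nat.card_eq_fintype_card, C.card_dSub I hU] at h
    have hw : ∀ T : Fin 8, wgt T ∣ 240 ∧ wgt T ≠ 0 := by decide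
    obtain ⟨q, hq⟩ := (hw R).1
    rw [hq, Nat.mul_div_cancel_left _ (Nat.pos_of_ne_zero (hw R).2)]
    have : wgt R * (O R).card = wgt R * q := by rw [← hq]; nlinarith
    exact Nat.eq_of_mul_eq_mul_left (Nat.pos_of_ne_zero (hw R).2) this
  have hcover : Finset.univ.biUnion O = (Finset.univ : Finset (↥U →* ℂˣ)) := by
    refine Finset.eq_univ_of_card _ ?_
    rw [Finset.card_biUnion fun R _ R' _ h => hdisj R R' h, Finset.sum_congr rfl fun R _ => hcard R,
      ← Nat.card_eq_fintype_card, CommGroup.card_monoidHom_of_hasEnoughRootsOfUnity ↥U ℂ, hU.card]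
    decide
  have h1 : (χ : G → ℂ) 1 = ∑ μ : ↥U →* ℂˣ, m μ := by
    have := Fintype.ofFinite (Cfsg.IrrCharacter ↥U)
    have h := congrFun (Characters.Basic.character_eq_finsum hrc) 1
    rw [finsum_eq_sum_of_fintype, Finset.sum_apply] at h
    show r 1 = _
    rw [h]
    symm
    refine Fintype.sum_bijective Characters.Linear.linChar ⟨Characters.Linear.linChar_injective,
      fun θ => ⟨(Characters.Linear.linEquiv ↥U).symm
        ⟨θ, Characters.Linear.degree_eq_one_of_comm hcomm θ⟩,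
        congrArg Subtype.val ((Characters.Linear.linEquiv ↥U).apply_symm_apply
          ⟨θ, Characters.Linear.degree_eq_one_of_comm hcomm θ⟩)⟩⟩ _ _ fun μ => ?_
    show m μ = Cfsg.classInner r _ • (Characters.Linear.linChar μ : ↥U → ℂ) 1
    rw [Characters.Linear.linChar_apply]
    simp [hm]
    rfl
  refine ⟨k, ?_⟩
  rw [h1, ← hcover, Finset.sum_biUnion fun R _ R' _ h => hdisj R R' h]
  refine Finset.sum_congr rfl fun R _ => ?_
  rw [Finset.sum_congr rfl (g := fun _ => m (lam R)) fun μ hμ => by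
    obtain ⟨d, -, rfl⟩ := Finset.mem_image.mp hμ
    exact hinv _ d, Finset.sum_const, hcard, nsmul_eq_mul,
    Induced.Basic.frobenius_reciprocity' U _ (Characters.Basic.isClassFunction_irr χ)]
  congr 1
  show m (lam R) = _ + Cfsg.classInner r
    ((fun u => (lam R u : ℂ)) - fun u => (lam 7 u : ℂ))
  rw [Induced.Basic.classInner_sub_right, hk]
  push_cast
  simp [hm]

omit L in
theorem pair_iff {t : G} (htJ : t ∈ invSet x) (ht : ∀ j ∈ invSet x, IsConj t j) {u : G}
    (hsub : invSet u ⊆ invSet x) (hu : orderOf u = 11) (i : G) :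
    (IsConj t i ∧ IsConj t (i * u)) ↔ i ∈ invSet u := by
  have ho : ∀ {g}, IsConj t g → orderOf g = 2 := fun {g} hg => by
    obtain ⟨c, hc⟩ := isConj_iff.mp hg
    rw [← hc, orderOf_conj']
    exact htJ.1
  constructor
  · rintro ⟨hi, hiu⟩
    obtain ⟨h2, -, hii⟩ := orderOf_two (ho hi)
    obtain ⟨h2', -, -⟩ := orderOf_two (ho hiu)
    refine ⟨ho hi, ?_⟩
    rw [hii, eq_comm]
    refine inv_eq_of_mul_eq_one_left ?_
    rw [← h2']
    group
  · intro hi
    obtain ⟨hio, hiu⟩ := hi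
    obtain ⟨h2, -, hii⟩ := orderOf_two hio
    refine ⟨ht i (hsub ⟨hio, hiu⟩), ht _ (hsub ⟨orderOf_eq_two ?_ fun h => ?_, ?_⟩)⟩
    · calc i * u * (i * u) = (i * u * i⁻¹) * (i * i) * u := by group
        _ = 1 := by rw [hiu, h2]; group
    · rw [eq_inv_of_mul_eq_one_left h, orderOf_inv, hu] at hio
      norm_num at hio
    · rw [show i * u * u * (i * u)⁻¹ = i * u * i⁻¹ by group, hiu]

theorem struct_sum {t : G} (htJ : t ∈ invSet x) [Fintype (Cfsg.IrrCharacter G)] :
    ∑ χ : Cfsg.IrrCharacter G,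
      Cfsg.classInner (Cfsg.indFun U (fOf L.psi L.beta 2)) (χ : G → ℂ) * (χ : G → ℂ) t ^ 2 /
        (χ : G → ℂ) 1 = 13762560 / 32897107 := by
  classical
  have := Fintype.ofFinite ↥U
  have htc : ∀ j ∈ invSet x, IsConj t j := by
    intro j hj
    obtain ⟨v, -, hdo, hdD, hdx⟩ := C.inv_to_dSub I hU hab hG htJ
    exact (isConj_iff.mpr ⟨v, rfl⟩).trans (C.invSet_conj I hU hab hG hdo hdD hdx hj)
  have hto : orderOf t = 2 := htJ.1
  set F := Cfsg.indFun U (fOf L.psi L.beta 2) with hF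
  have hFc : Cfsg.IsClassFunction G F := Induced.Basic.isClassFunction_indFun U _
  set K := (Finset.univ : Finset G).filter (fun i => IsConj t i) with hK
  set N : G → ℂ := fun g => ((K.filter fun i => i * g ∈ K).card : ℂ) with hN
  have hKmem : ∀ {i}, i ∈ K ↔ IsConj t i := fun {i} => by simp [hK]
  have hKconj : ∀ {i c : G}, i ∈ K → c * i * c⁻¹ ∈ K := fun {i c} h =>
    hKmem.mpr ((hKmem.mp h).trans (isConj_iff.mpr ⟨c, rfl⟩))
  have hNc : Cfsg.IsClassFunction G N := by
    intro g c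
    simp only [hN]
    congr 1
    refine Finset.card_bij (fun i _ => c⁻¹ * i * c⁻¹⁻¹) ?_ ?_ ?_
    · intro i hi
      obtain ⟨h1, h2⟩ := Finset.mem_filter.mp hi
      refine Finset.mem_filter.mpr ⟨hKconj h1, ?_⟩
      have := hKconj (c := c⁻¹) h2
      rwa [show c⁻¹ * (i * (c * g * c⁻¹)) * c⁻¹⁻¹ = c⁻¹ * i * c⁻¹⁻¹ * g by group] at this
    · intro i _ j _ h
      exact mul_left_cancel (mul_right_cancel h)
    · intro i hi
      obtain ⟨h1, h2⟩ := Finset.mem_filter.mp hi
      refine ⟨c * i * c⁻¹, Finset.mem_filter.mpr ⟨hKconj h1, ?_⟩, by group⟩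
      have := hKconj (c := c) h2
      rwa [show c * (i * g) * c⁻¹ = c * i * c⁻¹ * (c * g * c⁻¹) by group] at this
  set Ct : ℂ := (Nat.card ↥(cz t) : ℂ) with hCt
  have hconj : ∀ φ : G → ℂ, ∑ q : G, φ (q * t * q⁻¹) = Ct * ∑ i ∈ K, φ i := by
    intro φ
    rw [← Finset.sum_fiberwise_of_maps_to (t := K) (g := fun q => q * t * q⁻¹)
      (fun q _ => hKmem.mpr (isConj_iff.mpr ⟨q, rfl⟩)), Finset.mul_sum]
    refine Finset.sum_congr rfl fun i hi => ?_
    rw [Finset.sum_congr rfl (g := fun _ => φ i) fun q hq => by rw [(Finset.mem_filter.mp hq).2],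
      Finset.sum_const, nsmul_eq_mul, hCt]
    congr 2
    obtain ⟨c, rfl⟩ := isConj_iff.mp (hKmem.mp hi)
    rw [Nat.card_eq_fintype_card, ← Finset.card_univ]
    symm
    refine Finset.card_bij (fun k _ => c * (k : G)) ?_ ?_ ?_
    · intro k _
      refine Finset.mem_filter.mpr ⟨Finset.mem_univ _, ?_⟩
      rw [show c * (k : G) * t * (c * k)⁻¹ = c * (k * t * (k : G)⁻¹) * c⁻¹ by group,
        mul_inv_eq_iff_eq_mul.mpr (mem_cz.mp k.2).eq]
    · intro k _ k' _ h
      exact Subtype.ext (mul_left_cancel h)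
    · intro q hq
      have hq' := (Finset.mem_filter.mp hq).2
      refine ⟨⟨c⁻¹ * q, mem_cz.mpr (mul_inv_eq_iff_eq_mul.mp ?_)⟩, Finset.mem_univ _, by group⟩
      rw [show c⁻¹ * q * t * (c⁻¹ * q)⁻¹ = c⁻¹ * (q * t * q⁻¹) * c by group, hq']
      group
  set T : ℂ := ∑ a : G, ∑ b : G, F (a * t * a⁻¹ * (b * t * b⁻¹)) with hT
  -- by characters
  have hT1 : T = (Nat.card G : ℂ) ^ 2 * ∑ χ : Cfsg.IrrCharacter G,
      Cfsg.classInner F (χ : G → ℂ) * (χ : G → ℂ) t ^ 2 / (χ : G → ℂ) 1 := by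
    have hexp : ∀ g, F g = ∑ χ : Cfsg.IrrCharacter G, Cfsg.classInner F (χ : G → ℂ) * (χ : G → ℂ) g := by
      intro g
      have h := congrFun (Characters.Complete.classFunction_eq_sum hFc) g
      simpa [Finset.sum_apply, Pi.smul_apply, smul_eq_mul] using h
    simp only [hT, hexp]
    rw [Finset.sum_congr rfl fun a _ => Finset.sum_comm, Finset.sum_comm, Finset.mul_sum]
    refine Finset.sum_congr rfl fun χ _ => ?_
    have hcl : ∀ a : G, (χ : G → ℂ) (a * t * a⁻¹) = (χ : G → ℂ) t := fun a =>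
      Characters.Basic.isClassFunction_irr χ t a
    simp only [← Finset.mul_sum, H80.ClassMult.sum_apply_mul_conj, hcl, Finset.sum_const,
      Finset.card_univ, nsmul_eq_mul, ← Nat.card_eq_fintype_card]
    ring
  -- by counting
  have hT2 : T = Ct ^ 2 * ∑ g : G, F g * N g := by
    have e1 : ∀ a : G, ∑ b : G, F (a * t * a⁻¹ * (b * t * b⁻¹)) =
        Ct * ∑ j ∈ K, F (a * t * a⁻¹ * j) := fun a => hconj fun j => F (a * t * a⁻¹ * j)
    have e2 : ∀ i ∈ K, ∑ j ∈ K, F (i * j) = ∑ g : G, if i * g ∈ K then F g else 0 := by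
      intro i hi
      obtain ⟨c, hc⟩ := isConj_iff.mp (hKmem.mp hi)
      have hii : i * i = 1 := (orderOf_two (hc ▸ (orderOf_conj' c t).trans hto)).1
      rw [← Finset.sum_filter]
      refine Finset.sum_nbij' (fun j => i * j) (fun g => i * g) ?_ ?_ ?_ ?_ ?_
      · intro j hj
        exact Finset.mem_filter.mpr ⟨Finset.mem_univ _, by rwa [← mul_assoc, hii, one_mul]⟩
      · intro g hg
        exact (Finset.mem_filter.mp hg).2
      · intro j _
        show i * (i * j) = j
        rw [← mul_assoc, hii, one_mul]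
      · intro g _
        show i * (i * g) = g
        rw [← mul_assoc, hii, one_mul]
      · intro j _
        rfl
    rw [hT, Finset.sum_congr rfl fun a _ => e1 a, ← Finset.mul_sum,
      hconj (fun i => ∑ j ∈ K, F (i * j)), Finset.sum_congr rfl e2, Finset.sum_comm, ← mul_assoc,
      ← pow_two]
    congr 1
    refine Finset.sum_congr rfl fun g _ => ?_
    rw [← Finset.sum_filter, Finset.sum_const, nsmul_eq_mul, mul_comm]
  rw [hF, Induced.Basic.sum_indFun_mul U _ hNc] at hT2
  -- the sum over `U`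
  have hU2 : ∑ u : ↥U, fOf L.psi L.beta 2 u * N u = 11 * 1331 := by
    have := Fintype.ofFinite ↥(Subgroup.zpowers x)
    have := Fintype.ofFinite ↥(aSub z U hab)
    have hkU : ∀ k : ↥(Subgroup.zpowers x), (k : G) ∈ U := fun k =>
      Subgroup.zpowers_le.mpr hU.x_mem k.2
    let ι : ↥(Subgroup.zpowers x) →* ↥U := Subgroup.inclusion (Subgroup.zpowers_le.mpr hU.x_mem)
    let κ : ↥(aSub z U hab) →* ↥U := Subgroup.inclusion fun a ha => ha.1
    let e : ↥(Subgroup.zpowers x) × ↥(aSub z U hab) → ↥U := fun q => ι q.1 * κ q.2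
    have he : Function.Bijective e := by
      constructor
      · rintro ⟨⟨_, i, rfl⟩, a⟩ ⟨⟨_, j, rfl⟩, b⟩ h
        obtain ⟨h1, h2⟩ := C.decompose_unique hU hab a.2 b.2 (congrArg Subtype.val h)
        exact Prod.ext (Subtype.ext h1) (Subtype.ext h2)
      · rintro ⟨u, hu⟩
        obtain ⟨i, a, ha, rfl⟩ := C.decompose hU hab hu
        exact ⟨(⟨x ^ i, Subgroup.zpow_mem_zpowers x i⟩, ⟨a, ha⟩), rfl⟩
    set α : ↥(aSub z U hab) →* ℂˣ := L.beta.comp κ with hα
    set φ : ↥(Subgroup.zpowers x) →* ℂˣ := (L.psi ^ 5).comp ι with hφ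
    have hf : ∀ q, fOf L.psi L.beta 2 (e q) = (α q.2 : ℂ) * (1 - (φ q.1 : ℂ)) := by
      rintro ⟨k, a⟩
      have hβk : L.beta (ι k) = 1 := L.beta_x _ k.2
      have hψa : L.psi (κ a) = 1 := L.psi_A _ a.2
      simp only [fOf, lamOf, e, MonoidHom.mul_apply, MonoidHom.pow_apply, map_mul, hβk, hψa, hα, hφ,
        MonoidHom.comp_apply, show eX 2 = 0 from rfl, show eA 2 = 1 from rfl,
        show eX 7 = 5 from rfl, show eA 7 = 1 from rfl]
      simp only [mul_one, one_mul, pow_zero, pow_one, Units.val_mul, Units.val_pow_eq_pow_val, one_pow]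
      ring
    have hval : ∀ q, fOf L.psi L.beta 2 (e q) * N (e q) = (1 - (φ q.1 : ℂ)) *
        (121 * (α q.2 : ℂ) + if q.2 = 1 then 1331 else 0) := by
      rintro ⟨k, a⟩
      rw [hf]
      by_cases hk : k = 1
      · subst hk
        simp
      obtain ⟨i, hi⟩ := Subgroup.mem_zpowers_iff.mp k.2
      have hi1 : x ^ i ≠ 1 := fun h => hk (Subtype.ext (hi ▸ h))
      have heq : (e (k, a) : G) = x ^ i * a := by rw [hi]; rfl
      have hmix := C.invSet_mixed I hU hab hG hi1 a.2
      have hu1 : (e (k, a) : G) ≠ 1 := fun h => by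
        rw [heq] at h
        exact hi1 ((C.decompose_unique hU hab (i := i) (j := 0) a.2 (one_mem _) (by simpa using h)).1.trans
          (zpow_zero x))
      haveI : Fact (Nat.Prime 11) := ⟨by norm_num⟩
      have hset : (K.filter fun j => j * (e (k, a) : G) ∈ K).card = (invSet (x ^ i * (a : G))).ncard := by
        rw [← heq, Set.ncard_eq_toFinset_card']
        congr 1
        ext j
        rw [Finset.mem_filter, hKmem, hKmem, Set.mem_toFinset,
          C.pair_iff I hU hab hG htJ htc (fun b hb => ((hmix b).mp (heq ▸ hb)).1)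
            (orderOf_eq_prime (hU.pow _ (e (k, a)).2) hu1) j]
      simp only [hN, hset]
      by_cases ha : a = 1
      · subst ha
        rw [OneMemClass.coe_one, mul_one, C.invSet_zpow I hU hab hG hi1,
          (C.card_invSet I hU hab hG).1, if_pos rfl, map_one]
        push_cast
        ring
      · rw [if_neg ha, C.card_invSet_mixed I hU hab hG hi1 a.2 (fun h => ha (Subtype.ext h))]
        push_cast
        ring
    rw [← Fintype.sum_bijective e he _ _ (fun q => (hval q).symm), Fintype.sum_prod_type]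
    have hsa : ∑ a : ↥(aSub z U hab), (α a : ℂ) = 0 := by
      obtain ⟨u, hu, hne⟩ := L.beta_A
      exact sum_hom_zero α (a := ⟨u, hu⟩) hne
    have hsk : ∑ k : ↥(Subgroup.zpowers x), (φ k : ℂ) = 0 := by
      refine sum_hom_zero φ (a := ⟨x, Subgroup.mem_zpowers x⟩) fun h => ?_
      refine L.psi_x hU.x_mem ?_
      have h5 : L.psi ⟨x, hU.x_mem⟩ ^ 5 = 1 := h
      have h11 : L.psi ⟨x, hU.x_mem⟩ ^ 11 = 1 := by
        rw [← map_pow, show (⟨x, hU.x_mem⟩ : ↥U) ^ 11 = 1 from Subtype.ext C.x_pow, map_one]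
      rw [show 11 = 5 + 5 + 1 from rfl, pow_add, pow_add, h5, one_mul, one_mul, pow_one] at h11
      exact h11
    simp only [← Finset.mul_sum, Finset.sum_add_distrib, hsa, Finset.sum_ite_eq', Finset.mem_univ,
      if_true, mul_zero, zero_add, ← Finset.sum_mul, Finset.sum_sub_distrib, hsk, sub_zero,
      Finset.sum_const, Finset.card_univ, ← Nat.card_eq_fintype_card, Nat.card_zpowers, C.ord,
      nsmul_eq_mul]
    norm_num
  rw [hU2] at hT2
  have hidx : (U.index : ℂ) * 1331 = 86775571046077562880 := by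
    have h := U.index_mul_card
    rw [hU.card, I.order] at h
    exact_mod_cast h
  have hCt' : Ct = 1816657920 := by
    rw [hCt, J4BigPrimes.card_cent_second autFacts I hto (C.invSet_ne_z I hU hab hG htJ)]
    norm_num
  rw [hT1, I.order, hCt'] at hT2
  push_cast at hT2
  linear_combination (1 / 86775571046077562880 ^ 2 : ℂ) * hT2 +
    (1816657920 ^ 2 * 11 / 86775571046077562880 ^ 2 : ℂ) * hidx

omit C I hG in
theorem lamOf_eq_one_iff (R : Fin 8) : lamOf L.psi L.beta R = 1 ↔ R = 0 := by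
  classical
  have hl0 : lamOf L.psi L.beta 0 = 1 := by
    refine MonoidHom.ext fun u => ?_
    simp [lamOf, eX, eA]
  refine ⟨fun h => ?_, fun h => by subst h; exact hl0⟩
  by_contra hne
  have hz := count' hU hab L R 0
  rw [if_neg hne] at hz
  haveI : IsEmpty {d : ↥(dSub z x) //
      lamOf L.psi L.beta 0 = (lamOf L.psi L.beta R).comp (cjU U d (dSub_conj hU d d.2))} :=
    (Nat.card_eq_zero.mp hz).resolve_right fun h => h.not_finite inferInstance
  refine isEmptyElim (⟨1, ?_⟩ : {d : ↥(dSub z x) //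
      lamOf L.psi L.beta 0 = (lamOf L.psi L.beta R).comp (cjU U d (dSub_conj hU d d.2))})
  rw [h, hl0]
  rfl

theorem inner_triv (R : Fin 8) :
    Cfsg.classInner (Cfsg.indFun U (fOf L.psi L.beta R)) (Characters.Basic.oneChar G : G → ℂ) =
      if R = 0 then 1 else 0 := by
  classical
  have := Fintype.ofFinite ↥U
  rw [Induced.Basic.frobenius_reciprocity U _ (Characters.Basic.isClassFunction_irr _),
    show (fun u : ↥U => (Characters.Basic.oneChar G : G → ℂ) u) =
      fun u : ↥U => ((1 : ↥U →* ℂˣ) u : ℂ) by funext u; simp [Characters.Basic.oneChar_apply],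
    show fOf L.psi L.beta R = (fun u : ↥U => (lamOf L.psi L.beta R u : ℂ)) -
      fun u : ↥U => (lamOf L.psi L.beta 7 u : ℂ) from rfl,
    Induced.Basic.classInner_sub_left, classInner_hom, classInner_hom]
  simp only [lamOf_eq_one_iff hU hab L]
  rw [if_neg (by decide : ¬ (7 : Fin 8) = 0), sub_zero]

theorem exists_charData : Nonempty (CharData G) := by
  classical
  have := Fintype.ofFinite ↥U
  obtain ⟨a, ha, ha1⟩ : ∃ a ∈ aSub z U hab, a ≠ 1 := by
    obtain ⟨u, hu, hne⟩ := L.beta_A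
    exact ⟨u, hu, fun h => hne (by rw [show u = 1 from Subtype.ext h, map_one])⟩
  obtain ⟨t, ht, -, htx, -⟩ := C.exists_refl I hU hab hG ha ha1
  have hf1 : ∀ R, fOf L.psi L.beta R 1 = 0 := fun R => by simp [fOf]
  refine ⟨⟨fun R => Cfsg.indFun U (fOf L.psi L.beta R), fun R => ?_, fun R R' h h' => ?_,
    fun R => ?_, fun χ => C.degree_eq I hU hab hG L χ, t, ht, fun R => ?_, ?_,
    fun R _ => C.inner_triv I hU hab hG L R, ?_⟩⟩
  · refine Induced.Character.isGeneralizedCharacter_indFun U ?_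
    exact Characters.Generalized.sub
      (Characters.Generalized.of_isCharacter (Characters.Basic.isCharacter_irr
        (Characters.Linear.linChar (lamOf L.psi L.beta R))))
      (Characters.Generalized.of_isCharacter (Characters.Basic.isCharacter_irr
        (Characters.Linear.linChar (lamOf L.psi L.beta 7))))
  · rw [C.inner_ind I hU hab hG L, if_neg (Ne.symm h'), if_neg h, show wgt 7 = 1 from rfl,
      Nat.cast_one]
    by_cases hR : R = R'
    · rw [if_pos hR, if_pos hR]; ring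
    · rw [if_neg hR, if_neg hR]; ring
  · refine indFun_zero_of _ fun c hc => ?_
    rw [show (⟨c⁻¹ * 1 * c, hc⟩ : ↥U) = 1 from Subtype.ext (by simp)]
    exact hf1 R
  · refine indFun_zero_of _ fun c hc => ?_
    exfalso
    have h := orderOf_dvd_of_pow_eq_one (hU.pow _ hc)
    have h2 : orderOf (c⁻¹ * t * c) = 2 := by
      have := orderOf_conj' c⁻¹ t
      rw [inv_inv] at this
      exact this.trans ht
    rw [h2] at h
    norm_num at h
  · funext g
    exact indFun_zero_of _ fun c hc => by simp [fOf]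
  · intro _
    exact C.struct_sum I hU hab hG L ⟨ht, htx⟩

end Ctx

end Cfsg.Agent.Lib.J4Eleven49
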