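import Cfsg.Agent.Lib.J4Eleven49.Refl
import Mathlib.GroupTheory.FiniteAbelian.Duality
import Mathlib.RingTheory.RootsOfUnity.AlgebraicallyClosed

/-!
# Linear characters of an abelian Sylow 11-subgroup and their stabilisers

Owner: helper49.
-/

set_option autoImplicit false
set_option linter.unusedSectionVars false
set_option linter.style.haveILetI false

namespace Cfsg.Agent.Lib.J4Eleven49

open Cfsg.Agent.Lib
open Cfsg.Agent.Lib.J4Local
open Cfsg.Agent.Lib.LargeExtraspecial.Basic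

theorem exists_hom_killing {H : Type*} [Group H] [Finite H] (hcomm : ∀ a b : H, a * b = b * a)
    (K : Subgroup H) {a : H} (ha : a ∉ K) :
    ∃ φ : H →* ℂˣ, (∀ k ∈ K, φ k = 1) ∧ φ a ≠ 1 := by
  letI : CommGroup H := { ‹Group H› with mul_comm := hcomm }
  by_contra hcon
  push Not at hcon
  exact ha ((CommGroup.forall_monoidHom_apply_eq_one_iff (M := ℂ) K a).mp fun φ hφ => hcon φ hφ)

variable {G : Type*} [Group G]

/-- Conjugation by an element normalising a subgroup. -/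
def cjU (U : Subgroup G) (d : G) (hd : ∀ u ∈ U, d * u * d⁻¹ ∈ U) : ↥U →* ↥U where
  toFun u := ⟨d * u * d⁻¹, hd u u.2⟩
  map_one' := Subtype.ext (by simp)
  map_mul' a b := Subtype.ext (by simp)

theorem coe_cjU (U : Subgroup G) (d : G) (hd : ∀ u ∈ U, d * u * d⁻¹ ∈ U) (u : ↥U) :
    (cjU U d hd u : G) = d * u * d⁻¹ := rfl

/-- The exponents on `⟨x⟩` of the eight representatives. -/
def eX : Fin 8 → ℕ := ![0, 1, 0, 1, 2, 3, 4, 5]

/-- The exponents on `A` of the eight representatives. -/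
def eA : Fin 8 → ℕ := ![0, 0, 1, 1, 1, 1, 1, 1]

/-- The stabiliser sizes of the eight representatives. -/
def wgt : Fin 8 → ℕ := ![240, 24, 2, 1, 1, 1, 1, 1]

/-- Eight linear characters with known stabilisers. -/
structure LinData [Finite G] (z x : G) (U : Subgroup G) (hab : ∀ a ∈ U, ∀ b ∈ U, Commute a b)
    (hn : ∀ d ∈ dSub z x, ∀ u ∈ U, d * u * d⁻¹ ∈ U) where
  psi : ↥U →* ℂˣ
  beta : ↥U →* ℂˣ
  psi_x : ∀ h : x ∈ U, psi ⟨x, h⟩ ≠ 1
  psi_A : ∀ u : ↥U, (u : G) ∈ aSub z U hab → psi u = 1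
  beta_x : ∀ u : ↥U, (u : G) ∈ Subgroup.zpowers x → beta u = 1
  beta_A : ∃ u : ↥U, (u : G) ∈ aSub z U hab ∧ beta u ≠ 1
  count : ∀ R R' : Fin 8,
    Nat.card {d : ↥(dSub z x) // (psi ^ eX R * beta ^ eA R).comp (cjU U d (hn d d.2)) =
      psi ^ eX R' * beta ^ eA R'} = if R = R' then 11 * wgt R else 0

variable [Finite G] {z p x : G} {U : Subgroup G}

theorem dSub_conj (hU : Cent z x U) : ∀ d ∈ dSub z x, ∀ u ∈ U, d * u * d⁻¹ ∈ U :=
  fun _ hd _ hu => hU.mem_nz_conj hd.1 hu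

theorem eleven_zpow_cases {M : Type*} [Group M] {m : M} (h11 : m ^ 11 = 1) (h1 : m ≠ 1) {a b : ℤ}
    (h : m ^ a = m ^ b) : (a : ZMod 11) = b := by
  haveI : Fact (Nat.Prime 11) := ⟨by norm_num⟩
  rw [zpow_eq_zpow_iff_modEq, orderOf_eq_prime h11 h1] at h
  exact (ZMod.intCast_eq_intCast_iff _ _ _).mpr h

namespace Ctx

variable (C : Ctx z p x) (I : J4BigPrimes.Inputs z) (hU : Cent z x U)
variable (hab : ∀ a ∈ U, ∀ b ∈ U, Commute a b)
variable [IsSimpleGroup G] (hG : ¬ IsMulCommutative G)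
include C I hU hab hG

theorem exists_linData : Nonempty (LinData z x U hab (dSub_conj hU)) := by
  classical
  have hcomm : ∀ a b : ↥U, a * b = b * a := fun a b => Subtype.ext (hab a a.2 b b.2).eq
  have hxU := hU.x_mem
  -- a reflection
  obtain ⟨a1, ha1, ha1'⟩ : ∃ a ∈ aSub z U hab, a ≠ 1 := by
    by_contra hcon
    push Not at hcon
    have h := Subgroup.card_le_of_le (show aSub z U hab ≤ ⊥ from fun a ha => hcon a ha)
    rw [C.card_aSub I hU hab hG, Subgroup.card_bot] at h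
    omega
  obtain ⟨s, hs, hsD, hsx, hsa⟩ := C.exists_refl I hU hab hG ha1 ha1'
  obtain ⟨hs2, -, hsi⟩ := orderOf_two hs
  have hxW : (⟨x, hxU⟩ : ↥U) ∉ (aSub z U hab).subgroupOf U := fun h => by
    have hx1 : x = 1 := C.inter_aSub hU hab (Subgroup.mem_subgroupOf.mp h) (Subgroup.mem_zpowers x)
    have := C.ord
    rw [hx1, orderOf_one] at this
    norm_num at this
  obtain ⟨ψ, hψA, hψx⟩ := exists_hom_killing hcomm _ hxW
  have haW : (⟨a1, ha1.1⟩ : ↥U) ∉ (aSub s U hab).subgroupOf U := fun h => by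
    have h' := (Subgroup.mem_subgroupOf.mp h).2
    rw [mul_inv_eq_iff_eq_mul.mpr hsa.eq] at h'
    have h2 : a1 ^ 2 = 1 := by rw [pow_two]; exact eq_inv_iff_mul_eq_one.mp h'
    have h11 := hU.pow a1 ha1.1
    rw [pow_succ, show (10 : ℕ) = 2 * 5 from rfl, pow_mul, h2, one_pow, one_mul] at h11
    exact ha1' h11
  obtain ⟨β, hβW, hβa⟩ := exists_hom_killing hcomm _ haW
  have hψA' : ∀ u : ↥U, (u : G) ∈ aSub z U hab → ψ u = 1 := fun u hu =>
    hψA u (Subgroup.mem_subgroupOf.mpr hu)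
  have hβx : ∀ u : ↥U, (u : G) ∈ Subgroup.zpowers x → β u = 1 := fun u hu => by
    refine hβW u (Subgroup.mem_subgroupOf.mpr ⟨u.2, ?_⟩)
    obtain ⟨i, hi⟩ := Subgroup.mem_zpowers_iff.mp hu
    rw [← hi, ← conj_zpow, hsx, inv_zpow]
  set ζ := ψ ⟨x, hxU⟩ with hζ
  have hζ11 : ζ ^ 11 = 1 := by
    rw [hζ, ← map_pow, show (⟨x, hxU⟩ : ↥U) ^ 11 = 1 from Subtype.ext C.x_pow, map_one]
  -- values
  set lam : Fin 8 → (↥U →* ℂˣ) := fun R => ψ ^ eX R * β ^ eA R with hlam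
  have hlamx : ∀ (R : Fin 8) (i : ℤ), lam R ⟨x ^ i, zpow_mem hxU i⟩ = ζ ^ (i * eX R) := fun R i => by
    rw [hlam]
    simp only [MonoidHom.mul_apply, MonoidHom.pow_apply,
      hβx ⟨x ^ i, zpow_mem hxU i⟩ (Subgroup.zpow_mem_zpowers x i), one_pow, mul_one]
    rw [show (⟨x ^ i, zpow_mem hxU i⟩ : ↥U) = ⟨x, hxU⟩ ^ i from Subtype.ext (by simp), map_zpow,
      ← hζ, zpow_mul, zpow_natCast]
  have hlamA : ∀ (R : Fin 8) (u : ↥U), (u : G) ∈ aSub z U hab → lam R u = β u ^ eA R := fun R u hu => by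
    rw [hlam]
    simp only [MonoidHom.mul_apply, MonoidHom.pow_apply, hψA' u hu, one_pow, one_mul]
  let act : ↥(dSub z x) → (↥U →* ↥U) := fun d => cjU U d (dSub_conj hU d d.2)
  have hactA : ∀ (d : ↥(dSub z x)) (u : ↥U), (u : G) ∈ aSub z U hab →
      (act d u : G) ∈ aSub z U hab := fun d u hu => C.aSub_conj hU hab d.2.1 (mem_cz.mp d.2.2) hu
  -- the condition
  have key : ∀ (R R' : Fin 8) (d : ↥(dSub z x)),
      (lam R).comp (act d) = lam R' ↔
        (∀ c : ℤ, (d : G) * x * (d : G)⁻¹ = x ^ c → (c : ZMod 11) * eX R = eX R') ∧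
        (∀ u : ↥U, (u : G) ∈ aSub z U hab → β (act d u) ^ eA R = β u ^ eA R') := by
    intro R R' d
    constructor
    · intro h
      refine ⟨fun c hc => ?_, fun u hu => ?_⟩
      · have h1 := DFunLike.congr_fun h ⟨x ^ (1 : ℤ), zpow_mem hxU 1⟩
        have e : act d ⟨x ^ (1 : ℤ), zpow_mem hxU 1⟩ = ⟨x ^ c, zpow_mem hxU c⟩ := Subtype.ext (by
          show (d : G) * x ^ (1 : ℤ) * (d : G)⁻¹ = x ^ c
          rw [zpow_one, hc])
        rw [MonoidHom.comp_apply, e, hlamx, hlamx] at h1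
        have h2 := eleven_zpow_cases hζ11 hψx h1
        push_cast at h2
        simpa using h2
      · have h1 := DFunLike.congr_fun h u
        rwa [MonoidHom.comp_apply, hlamA _ _ (hactA d u hu), hlamA _ _ hu] at h1
    · rintro ⟨hx', hA'⟩
      refine MonoidHom.ext fun ⟨u, hu⟩ => ?_
      obtain ⟨i, a, ha, rfl⟩ := C.decompose hU hab hu
      have e : (⟨x ^ i * a, hu⟩ : ↥U) = ⟨x ^ i, zpow_mem hxU i⟩ * ⟨a, ha.1⟩ := rfl
      obtain ⟨c, hc⟩ := conj_x_of_nz d.2.1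
      have e2 : act d ⟨x ^ i, zpow_mem hxU i⟩ = ⟨x ^ (c * i), zpow_mem hxU _⟩ := Subtype.ext (by
        show (d : G) * x ^ i * (d : G)⁻¹ = x ^ (c * i)
        rw [← conj_zpow, hc, zpow_mul])
      rw [MonoidHom.comp_apply, e, map_mul, map_mul, map_mul, hlamA _ _ (hactA d ⟨a, ha.1⟩ ha),
        hA' ⟨a, ha.1⟩ ha, ← hlamA R' ⟨a, ha.1⟩ ha, e2, hlamx, hlamx]
      congr 1
      haveI : Fact (Nat.Prime 11) := ⟨by norm_num⟩
      rw [zpow_eq_zpow_iff_modEq, orderOf_eq_prime hζ11 hψx]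
      refine (ZMod.intCast_eq_intCast_iff _ _ _).mp ?_
      push_cast
      rw [← hx' c hc]
      ring
  -- the stabiliser of `β` on `A`
  have hβstab : ∀ d : ↥(dSub z x), (∀ u : ↥U, (u : G) ∈ aSub z U hab → β (act d u) = β u) →
      (d : G) ∈ Subgroup.zpowers x ∨ (d : G) * x * (d : G)⁻¹ = x⁻¹ := by
    intro d hd
    obtain ⟨b, hb, hb1, hbd⟩ : ∃ b ∈ aSub z U hab, b ≠ 1 ∧ Commute (d : G) b := by
      by_contra hcon
      push Not at hcon
      let f : ↥(aSub z U hab) → ↥(aSub z U hab) := fun a =>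
        ⟨(d : G) * a * (d : G)⁻¹ * (a : G)⁻¹,
          mul_mem (C.aSub_conj hU hab d.2.1 (mem_cz.mp d.2.2) a.2) (inv_mem a.2)⟩
      have hf : Function.Injective f := by
        intro a b h
        have h' : (d : G) * a * (d : G)⁻¹ * (a : G)⁻¹ = (d : G) * b * (d : G)⁻¹ * (b : G)⁻¹ :=
          congrArg Subtype.val h
        by_contra hne
        refine hcon ((b : G)⁻¹ * a) (mul_mem (inv_mem b.2) a.2) (fun h1 => hne
          (Subtype.ext (inv_mul_eq_one.mp h1).symm)) (mul_inv_eq_iff_eq_mul.mp ?_)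
        have hba : Commute ((b : G)⁻¹) a := (hab _ b.2.1 _ a.2.1).inv_left
        calc (d : G) * ((b : G)⁻¹ * a) * (d : G)⁻¹
            = ((d : G) * b * (d : G)⁻¹)⁻¹ * (((d : G) * a * (d : G)⁻¹ * (a : G)⁻¹) * a) := by group
          _ = ((d : G) * b * (d : G)⁻¹)⁻¹ * ((d : G) * b * (d : G)⁻¹) * ((b : G)⁻¹ * a) := by
              rw [h']; group
          _ = _ := by rw [inv_mul_cancel, one_mul]
      obtain ⟨a, ha⟩ := (Finite.injective_iff_surjective.mp hf) ⟨a1, ha1⟩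
      refine hβa ?_
      have e : (⟨a1, ha1.1⟩ : ↥U) = act d ⟨a, a.2.1⟩ * (⟨a, a.2.1⟩ : ↥U)⁻¹ :=
        Subtype.ext (congrArg Subtype.val ha).symm
      rw [e, map_mul, hd _ a.2, map_inv, mul_inv_cancel]
    exact C.fix_cases I hU hab hG hb hb1 d.2 hbd
  have hxD : ∀ k ∈ Subgroup.zpowers x, k ∈ dSub z x := fun k hk =>
    ⟨J4BigPrimes.cz_le_nz x (hU.le_cz (Subgroup.zpowers_le.mpr hxU hk)),
      Subgroup.zpowers_le.mpr C.x_mem hk⟩
  have hxfix : ∀ d : ↥(dSub z x), (d : G) ∈ Subgroup.zpowers x → ∀ u : ↥U, act d u = u :=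
    fun d hd u => Subtype.ext
      (mul_inv_eq_iff_eq_mul.mpr (hab _ (Subgroup.zpowers_le.mpr hxU hd) u u.2).eq)
  have hsfix : ∀ u : ↥U, β (act ⟨s, hsD⟩ u) = β u := by
    intro u
    refine mul_inv_eq_one.mp ?_
    rw [← map_inv, ← map_mul]
    refine hβW _ (Subgroup.mem_subgroupOf.mpr ⟨Subtype.coe_prop _, ?_⟩)
    show s * (s * u * s⁻¹ * (u : G)⁻¹) * s⁻¹ = (s * u * s⁻¹ * (u : G)⁻¹)⁻¹
    rw [show s * (s * u * s⁻¹ * (u : G)⁻¹) * s⁻¹ =
      (s * s) * u * (s * s)⁻¹ * (s * (u : G)⁻¹ * s⁻¹) by group, hs2]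
    group
  -- sizes
  have hsplit : ∀ d : ↥(dSub z x), (d : G) ∈ Subgroup.zpowers x →
      ∀ c : ℤ, (d : G) * x * (d : G)⁻¹ = x ^ c → (c : ZMod 11) = 1 := by
    intro d hd c hc
    rw [mul_inv_eq_iff_eq_mul.mpr (mem_cz.mp (hU.le_cz (Subgroup.zpowers_le.mpr hxU hd))).eq] at hc
    have := eleven_zpow_cases C.x_pow (fun h => by have := C.ord; rw [h, orderOf_one] at this; norm_num at this)
      ((zpow_one x).trans hc)
    simpa using this.symm
  have hX11 : Nat.card {d : ↥(dSub z x) // (d : G) ∈ Subgroup.zpowers x} = 11 := by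
    rw [← C.ord, ← Nat.card_zpowers]
    exact Nat.card_congr ⟨fun d => ⟨d.1.1, d.2⟩, fun k => ⟨⟨k, hxD k k.2⟩, k.2⟩,
      fun _ => rfl, fun _ => rfl⟩
  have hstab22 : Nat.card {d : ↥(dSub z x) //
      ∀ u : ↥U, (u : G) ∈ aSub z U hab → β (act d u) = β u} = 22 := by
    let f : {d : ↥(dSub z x) // (d : G) ∈ Subgroup.zpowers x} × Bool →
        {d : ↥(dSub z x) // ∀ u : ↥U, (u : G) ∈ aSub z U hab → β (act d u) = β u} := fun q =>
      if q.2 then ⟨q.1.1 * ⟨s, hsD⟩, fun u hu => by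
          rw [show act (q.1.1 * ⟨s, hsD⟩) u = act q.1.1 (act ⟨s, hsD⟩ u) from Subtype.ext (by
            show ((q.1.1 : G) * s) * u * ((q.1.1 : G) * s)⁻¹ =
              (q.1.1 : G) * (s * u * s⁻¹) * (q.1.1 : G)⁻¹
            group), hxfix _ q.1.2, hsfix u]⟩
      else ⟨q.1.1, fun u _ => by rw [hxfix _ q.1.2]⟩
    have hsnot : s ∉ Subgroup.zpowers x := fun h => by
      have := orderOf_dvd_of_mem_zpowers h
      rw [hs, C.ord] at this
      norm_num at this
    have hinj : Function.Injective f := by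
      rintro ⟨⟨d, hd⟩, b⟩ ⟨⟨e, he⟩, b'⟩ h
      have h' := congrArg (fun d : {d : ↥(dSub z x) //
        ∀ u : ↥U, (u : G) ∈ aSub z U hab → β (act d u) = β u} => (d.1 : G)) h
      cases b <;> cases b' <;> simp only [f, Bool.false_eq_true, ↓reduceIte, Subgroup.coe_mul] at h'
      · obtain rfl : d = e := Subtype.ext h'
        rfl
      · exact absurd ((Subgroup.mul_mem_cancel_left _ he).mp (h' ▸ hd)) hsnot
      · exact absurd ((Subgroup.mul_mem_cancel_left _ hd).mp (h'.symm ▸ he)) hsnot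
      · obtain rfl : d = e := Subtype.ext (mul_right_cancel h')
        rfl
    have hsurj : Function.Surjective f := by
      rintro ⟨d, hd⟩
      rcases hβstab d hd with h | h
      · exact ⟨(⟨d, h⟩, false), Subtype.ext rfl⟩
      · have hds : (d : G) * s ∈ Subgroup.zpowers x := by
          refine (hβstab (d * ⟨s, hsD⟩) fun u hu => ?_).resolve_right fun h' => ?_
          · rw [show act (d * ⟨s, hsD⟩) u = act d (act ⟨s, hsD⟩ u) from Subtype.ext (by
              show ((d : G) * s) * u * ((d : G) * s)⁻¹ = (d : G) * (s * u * s⁻¹) * (d : G)⁻¹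
              group), hd _ (hactA _ u hu), hsfix u]
          · rw [Subgroup.coe_mul, show (d : G) * s * x * ((d : G) * s)⁻¹ =
              d * (s * x * s⁻¹) * (d : G)⁻¹ by group, hsx,
              show (d : G) * x⁻¹ * (d : G)⁻¹ = (d * x * (d : G)⁻¹)⁻¹ by group, h, inv_inv] at h'
            have := zpow_self_inv C.ord (i := 1) (by rw [zpow_one, zpow_neg_one]; exact h')
            rw [zpow_one] at this
            have := this ▸ C.ord
            simp at this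
        refine ⟨(⟨d * ⟨s, hsD⟩, hds⟩, true), Subtype.ext (Subtype.ext ?_)⟩
        show (d : G) * s * s = d
        rw [mul_assoc, hs2, mul_one]
    rw [← Nat.card_eq_of_bijective f ⟨hinj, hsurj⟩, Nat.card_prod, hX11,
      Nat.card_eq_fintype_card, Fintype.card_bool]
  have hM : Nat.card {d : ↥(dSub z x) //
      ∀ c : ℤ, (d : G) * x * (d : G)⁻¹ = x ^ c → (c : ZMod 11) = 1} = 264 := by
    rw [← C.card_inter I]
    exact Nat.card_congr
      ⟨fun d => ⟨d.1.1, d.1.2.2, mem_cz.mpr (mul_inv_eq_iff_eq_mul.mp (by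
          obtain ⟨c, hc⟩ := conj_x_of_nz d.1.2.1
          rw [hc, zpow_eq_of_cast C.ord (b := 1) (by rw [d.2 c hc]; norm_num), zpow_one]))⟩,
        fun v => ⟨⟨v.1, J4BigPrimes.cz_le_nz x v.2.2, v.2.1⟩, fun c hc => by
          rw [mul_inv_eq_iff_eq_mul.mpr (mem_cz.mp v.2.2).eq] at hc
          have := eleven_zpow_cases C.x_pow (fun h => by
            have := C.ord; rw [h, orderOf_one] at this; norm_num at this) ((zpow_one x).trans hc)
          simpa using this.symm⟩,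
        fun _ => rfl, fun _ => rfl⟩
  refine ⟨⟨ψ, β, fun _ => hψx, hψA', hβx, ⟨⟨a1, ha1.1⟩, ha1, hβa⟩, fun R R' => ?_⟩⟩
  show Nat.card {d : ↥(dSub z x) // (lam R).comp (act d) = lam R'} = _
  rw [Nat.card_congr (Equiv.subtypeEquivRight (key R R'))]
  have hA1 : ∀ d : ↥(dSub z x), ¬ (∀ u : ↥U, (u : G) ∈ aSub z U hab →
      β (act d u) ^ 0 = β u ^ 1) := fun d h => hβa (by
    have := h ⟨a1, ha1.1⟩ ha1
    simpa using this.symm)
  have hA0 : ∀ d : ↥(dSub z x), ¬ (∀ u : ↥U, (u : G) ∈ aSub z U hab →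
      β (act d u) ^ 1 = β u ^ 0) := fun d h => by
    refine hβa ?_
    let u1 : ↥U := ⟨(d : G)⁻¹ * a1 * (d : G), by
      have h := (C.aSub_conj hU hab (inv_mem d.2.1) (mem_cz.mp d.2.2).inv_left ha1).1
      rwa [inv_inv] at h⟩
    have h1 := h u1 (by
      have h := C.aSub_conj hU hab (inv_mem d.2.1) (mem_cz.mp d.2.2).inv_left ha1
      rwa [inv_inv] at h)
    rw [show act d u1 = ⟨a1, ha1.1⟩ from Subtype.ext (by
      show (d : G) * ((d : G)⁻¹ * a1 * (d : G)) * (d : G)⁻¹ = a1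
      group)] at h1
    simpa using h1
  have hX0 : ∀ (d : ↥(dSub z x)) (a b : ℕ), (b : ZMod 11) ≠ 0 → (a : ZMod 11) = 0 →
      ¬ (∀ c : ℤ, (d : G) * x * (d : G)⁻¹ = x ^ c → (c : ZMod 11) * a = b) := fun d a b hb ha h => by
    obtain ⟨c, hc⟩ := conj_x_of_nz d.2.1
    have := h c hc
    rw [ha, mul_zero] at this
    exact hb this.symm
  have hX1 : ∀ (d : ↥(dSub z x)) (a b : ℕ), (a : ZMod 11) ≠ 0 → (b : ZMod 11) = 0 →
      ¬ (∀ c : ℤ, (d : G) * x * (d : G)⁻¹ = x ^ c → (c : ZMod 11) * a = b) := fun d a b ha hb h => by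
    haveI : Fact (Nat.Prime 11) := ⟨by norm_num⟩
    obtain ⟨c, hc⟩ := conj_x_of_nz d.2.1
    have h1 := h c hc
    rw [hb] at h1
    have hc0 := (mul_eq_zero.mp h1).resolve_right ha
    rw [zpow_eq_of_cast C.ord (b := 0) (by rw [hc0]; norm_num), zpow_zero, conj_eq_one_iff] at hc
    have := C.ord
    rw [hc, orderOf_one] at this
    norm_num at this
  have hcases : (eA R = 0 ∨ eA R = 1) ∧ (eA R' = 0 ∨ eA R' = 1) :=
    ⟨(show ∀ T : Fin 8, eA T = 0 ∨ eA T = 1 by decide) R,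
      (show ∀ T : Fin 8, eA T = 0 ∨ eA T = 1 by decide) R'⟩
  by_cases hRR : R = R'
  · subst hRR
    rw [if_pos rfl]
    have hR : R = 0 ∨ R = 1 ∨ R = 2 ∨ (eA R = 1 ∧ (eX R : ZMod 11) ≠ 0 ∧ wgt R = 1) :=
      (show ∀ T : Fin 8, T = 0 ∨ T = 1 ∨ T = 2 ∨ (eA T = 1 ∧ (eX T : ZMod 11) ≠ 0 ∧ wgt T = 1) by
        decide) R
    rcases hR with rfl | rfl | rfl | ⟨hA, hX, hw⟩
    · rw [Nat.card_congr (Equiv.subtypeUnivEquiv fun d =>
        ⟨fun c _ => by simp [eX], fun u _ => by simp [eA]⟩), C.card_dSub I hU]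
      rfl
    · rw [Nat.card_congr (Equiv.subtypeEquivRight (q := fun d : ↥(dSub z x) =>
          ∀ c : ℤ, (d : G) * x * (d : G)⁻¹ = x ^ c → (c : ZMod 11) = 1) fun d =>
        ⟨fun h c hc => by simpa [eX] using h.1 c hc,
          fun h => ⟨fun c hc => by simpa [eX] using h c hc, fun u _ => by simp [eA]⟩⟩), hM]
      rfl
    · rw [Nat.card_congr (Equiv.subtypeEquivRight (q := fun d : ↥(dSub z x) =>
          ∀ u : ↥U, (u : G) ∈ aSub z U hab → β (act d u) = β u) fun d =>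
        ⟨fun h u hu => by simpa [eA] using h.2 u hu,
          fun h => ⟨fun c hc => by simp [eX], fun u hu => by simpa [eA] using h u hu⟩⟩), hstab22]
      rfl
    · rw [hw, mul_one, Nat.card_congr (Equiv.subtypeEquivRight (q := fun d : ↥(dSub z x) =>
        (d : G) ∈ Subgroup.zpowers x) fun d => ⟨fun h => ?_, fun h => ⟨fun c hc => by
          rw [hsplit d h c hc, one_mul], fun u _ => by rw [hxfix d h]⟩⟩), hX11]
      refine (hβstab d fun u hu => ?_).resolve_right fun hinv => ?_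
      · simpa [hA] using h.2 u hu
      · have h1 := h.1 (-1) (by rw [hinv, zpow_neg_one])
        push_cast at h1
        exact hX ((show ∀ a : ZMod 11, -1 * a = a → a = 0 by decide) _ h1)
  · rw [if_neg hRR]
    have : IsEmpty {d : ↥(dSub z x) //
        (∀ c : ℤ, (d : G) * x * (d : G)⁻¹ = x ^ c → (c : ZMod 11) * eX R = eX R') ∧
        (∀ u : ↥U, (u : G) ∈ aSub z U hab → β (act d u) ^ eA R = β u ^ eA R')} := ⟨fun ⟨d, h1, h2⟩ => by
      rcases hcases with ⟨hR | hR, hR' | hR'⟩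
      · exact (show ∀ T T' : Fin 8, eA T = 0 → eA T' = 0 → T ≠ T' →
          ((eX T : ZMod 11) = 0 ∧ (eX T' : ZMod 11) ≠ 0) ∨
            ((eX T : ZMod 11) ≠ 0 ∧ (eX T' : ZMod 11) = 0) by decide) R R' hR hR' hRR |>.elim
          (fun h => hX0 d _ _ h.2 h.1 h1) (fun h => hX1 d _ _ h.1 h.2 h1)
      · rw [hR, hR'] at h2; exact hA1 d h2
      · rw [hR, hR'] at h2; exact hA0 d h2
      · rw [hR, hR'] at h2
        have hst := hβstab d fun u hu => by simpa using h2 u hu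
        have hne : (eX R : ZMod 11) ≠ eX R' ∧ -(eX R : ZMod 11) ≠ eX R' :=
          (show ∀ T T' : Fin 8, eA T = 1 → eA T' = 1 → T ≠ T' →
            (eX T : ZMod 11) ≠ eX T' ∧ -(eX T : ZMod 11) ≠ eX T' by decide) R R' hR hR' hRR
        rcases hst with h | h
        · obtain ⟨c, hc⟩ := conj_x_of_nz d.2.1
          have := h1 c hc
          rw [hsplit d h c hc, one_mul] at this
          exact hne.1 this
        · have h1' := h1 (-1) (by rw [h, zpow_neg_one])
          push_cast at h1'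
          exact hne.2 (by rw [← h1']; ring)⟩
    exact Nat.card_of_isEmpty

end Ctx

end Cfsg.Agent.Lib.J4Eleven49
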