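import Cfsg.Agent.Lib.J4Eleven49.Cent
import Cfsg.Agent.Lib.J4Eleven49.Facts

/-!
# The normaliser of an element of order eleven and of the Sylow 11-subgroup

Owner: helper49.
-/

set_option autoImplicit false
set_option linter.unusedSectionVars false
set_option linter.style.haveILetI false

namespace Cfsg.Agent.Lib.J4Eleven49

open Cfsg.Agent.Lib
open Cfsg.Agent.Lib.J4Local
open Cfsg.Agent.Lib.LargeExtraspecial.Basic

/-- The only index compatible with the Sylow count and the free action on the lines. -/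
theorem index_cases : ((List.range 1332).all fun s =>
    !(271649045348352 % s == 0 && s % 11 == 1 && s % 4 == 1) || s == 1) = true := by decide +kernel

theorem index_eq_one {s : ℕ} (h1 : s ∣ 271649045348352) (h2 : s % 11 = 1) (h3 : s % 4 = 1)
    (h4 : s ≤ 1331) : s = 1 := by
  have h := List.all_eq_true.mp index_cases s (List.mem_range.mpr (by omega))
  simpa [Nat.mod_eq_zero_of_dvd h1, h2, h3] using h

/-- A group of order 8 with a fixed point all of whose other stabilisers are small. -/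
theorem card_mod_four {H X : Type*} [Group H] [Finite H] [MulAction H X] [Finite X]
    (h8 : Nat.card H = 8) (x0 : X) (hfix : ∀ h : H, h • x0 = x0)
    (hsmall : ∀ x : X, x ≠ x0 → Nat.card ↥(MulAction.stabilizer H x) ∣ 2) :
    Nat.card X % 4 = 1 := by
  classical
  have := Fintype.ofFinite (Quotient (MulAction.orbitRel H X))
  have hX : Nat.card X = ∑ ω : Quotient (MulAction.orbitRel H X),
      (MulAction.stabilizer H ω.out).index := by
    rw [Nat.card_congr (MulAction.selfEquivSigmaOrbitsQuotientStabilizer H X), Nat.card_sigma]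
    rfl
  have hval : ∀ ω : Quotient (MulAction.orbitRel H X),
      (((MulAction.stabilizer H ω.out).index : ℕ) : ZMod 4) =
        if ω = Quotient.mk'' x0 then 1 else 0 := by
    intro ω
    by_cases hω : ω = Quotient.mk'' x0
    · rw [if_pos hω]
      have hrel : MulAction.orbitRel H X ω.out x0 := by
        apply Quotient.exact'
        rw [Quotient.out_eq', hω]
      obtain ⟨g, hg⟩ := hrel
      have hout : ω.out = x0 := hg.symm.trans (hfix g)
      rw [hout, show MulAction.stabilizer H x0 = ⊤ from eq_top_iff.mpr fun g _ => hfix g,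
        Subgroup.index_top, Nat.cast_one]
    · rw [if_neg hω]
      have hne : ω.out ≠ x0 := fun h => hω (by rw [← h, Quotient.out_eq'])
      obtain ⟨k, hk⟩ := hsmall _ hne
      have h := Subgroup.card_mul_index (MulAction.stabilizer H ω.out)
      rw [h8] at h
      have h4 : 4 ∣ (MulAction.stabilizer H ω.out).index := by
        rcases (Nat.dvd_prime Nat.prime_two).mp ⟨k, hk⟩ with h' | h' <;> rw [h'] at h <;> omega
      exact (ZMod.natCast_eq_zero_iff _ _).mpr h4
  have hc : ((Nat.card X : ℕ) : ZMod 4) = ((1 : ℕ) : ZMod 4) := by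
    rw [hX, Nat.cast_sum]
    simp [hval]
  exact (ZMod.natCast_eq_natCast_iff _ _ _).mp hc

variable {G : Type*} [Group G] [Finite G] {z p x : G} {U : Subgroup G}

namespace Cent

variable (hU : Cent z x U)
include hU

theorem isPGroup : IsPGroup 11 ↥U := IsPGroup.of_card hU.card

theorem mem_of_pow {c : G} (hc : c ∈ cz x) {k : ℕ} (hk : c ^ 11 ^ k = 1) : c ∈ U := by
  haveI : (U.subgroupOf (cz x)).Normal := ⟨fun a ha d => hU.normal d d.2 a ha⟩
  set q : ↥(cz x) ⧸ U.subgroupOf (cz x) := QuotientGroup.mk' _ ⟨c, hc⟩ with hq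
  have h24 : Nat.card (↥(cz x) ⧸ U.subgroupOf (cz x)) = 24 := by
    have h := Subgroup.card_mul_index (U.subgroupOf (cz x))
    rw [Nat.card_congr (Subgroup.subgroupOfEquivOfLe hU.le_cz).toEquiv, hU.card, hU.card_cz,
      Subgroup.index] at h
    omega
  have h1 : orderOf q ∣ 24 := h24 ▸ orderOf_dvd_natCard q
  have h2 : orderOf q ∣ 11 ^ k := orderOf_dvd_of_pow_eq_one (by
    rw [hq, ← map_pow, show (⟨c, hc⟩ : ↥(cz x)) ^ 11 ^ k = 1 from Subtype.ext hk, map_one])
  have hq1 : q = 1 := orderOf_eq_one_iff.mp (Nat.dvd_one.mp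
    ((Nat.Coprime.pow_right k (by norm_num : Nat.Coprime 24 11)) ▸ Nat.dvd_gcd h1 h2))
  exact Subgroup.mem_subgroupOf.mp ((QuotientGroup.eq_one_iff _).mp hq1)

theorem mem_nz_conj {g : G} (hg : g ∈ J4BigPrimes.nz x) {u : G} (hu : u ∈ U) :
    g * u * g⁻¹ ∈ U := by
  refine hU.mem_of_pow (k := 1) (mem_cz.mpr ?_) (by rw [pow_one, conj_pow, hU.pow u hu]; group)
  obtain ⟨i, hi⟩ := (Subgroup.mem_normalizer_iff.mp (inv_mem hg) x).mp (Subgroup.mem_zpowers x)
  have h : Commute u (g⁻¹ * x * g⁻¹⁻¹) := by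
    rw [← (show x ^ i = g⁻¹ * x * g⁻¹⁻¹ from hi)]
    exact (mem_cz.mp (hU.le_cz hu)).zpow_right i
  have h' := h.map (MulAut.conj g)
  simp only [MulAut.conj_apply] at h'
  rwa [show g * (g⁻¹ * x * g⁻¹⁻¹) * g⁻¹ = x by group] at h'

theorem nz_le : J4BigPrimes.nz x ≤ Subgroup.normalizer (U : Set G) := fun g hg =>
  Subgroup.mem_normalizer_iff.mpr fun u => ⟨fun hu => hU.mem_nz_conj hg hu, fun hu => by
    have h := hU.mem_nz_conj (inv_mem hg) hu
    rwa [show g⁻¹ * (g * u * g⁻¹) * g⁻¹⁻¹ = u by group] at h⟩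

end Cent

namespace Ctx

variable (C : Ctx z p x) (I : J4BigPrimes.Inputs z)
include C I

omit I in
theorem exists_sq : ∃ b, Commute b z ∧ b * x * b⁻¹ = x ^ 2 := by
  haveI : Fact (Nat.Prime 11) := ⟨by norm_num⟩
  set S := C.set
  obtain ⟨β, hβ⟩ := Facts.exists_conj_sq C.img_x
  obtain ⟨⟨b0, hb0⟩, rfl⟩ := S.phi_surjective β
  set a := S.phi ⟨x, C.x_mem⟩ with ha
  rw [S.img_of_mem C.x_mem, ← ha] at hβ
  have hao : orderOf a = 11 := by rw [ha, ← S.img_of_mem C.x_mem]; exact C.img_x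
  set H : Subgroup ↥(cz z) := (Subgroup.zpowers a).comap S.phi with hH
  have hxH : (⟨x, C.x_mem⟩ : ↥(cz z)) ∈ H := Subgroup.mem_zpowers a
  have hyH : (⟨b0, hb0⟩ * ⟨x, C.x_mem⟩ * ⟨b0, hb0⟩⁻¹ : ↥(cz z)) ∈ H := by
    rw [hH, Subgroup.mem_comap, map_mul, map_mul, map_inv, ← ha, hβ]
    exact pow_mem (Subgroup.mem_zpowers a) 2
  have hcH : Nat.card ↥H = 11 * (3 * 2 ^ 13) := by
    let m : ↥H →* AutM22 := S.phi.comp H.subtype
    have hr : m.range = Subgroup.zpowers a := by
      refine le_antisymm (by rintro _ ⟨g, rfl⟩; exact g.2) ?_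
      exact Subgroup.zpowers_le.mpr ⟨⟨_, hxH⟩, rfl⟩
    have hk : Nat.card ↥m.ker = 3 * 2 ^ 13 := by
      rw [← S.card_ker]
      exact Nat.card_congr ⟨fun g => ⟨g.1.1, g.2⟩,
        fun g => ⟨⟨g.1, by
          show S.phi g.1 ∈ Subgroup.zpowers a
          rw [g.2]; exact one_mem _⟩, g.2⟩, fun _ => rfl, fun _ => rfl⟩
    have h := Subgroup.card_mul_index m.ker
    rw [Subgroup.index_ker, hr, Nat.card_zpowers, hao, hk] at h
    rw [← h, mul_comm]
  have hxo : orderOf (⟨x, C.x_mem⟩ : ↥(cz z)) = 11 := by rw [Subgroup.orderOf_mk, C.ord]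
  obtain ⟨h, hh⟩ := J4BigPrimes.conj_of_cyclic (q := 11) (W := ↥H) (by rw [hcH]; norm_num)
    (a := ⟨_, hyH⟩) (b := ⟨_, hxH⟩)
    (by rw [Subgroup.orderOf_mk]; exact (MulEquiv.orderOf_eq (MulAut.conj _) _).trans hxo)
    (by rw [Subgroup.orderOf_mk, hxo])
  obtain ⟨i, hi⟩ := hh.le (Subgroup.mem_zpowers _)
  have hi1 : (⟨x, C.x_mem⟩ : ↥(cz z)) ^ i = (h : ↥(cz z)) *
      (⟨b0, hb0⟩ * ⟨x, C.x_mem⟩ * ⟨b0, hb0⟩⁻¹) * (h : ↥(cz z))⁻¹ := congrArg Subtype.val hi
  have hai : a ^ i = a ^ (2 : ℤ) := by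
    obtain ⟨j, hj⟩ := h.2
    have h2 := congrArg S.phi hi1
    rw [map_zpow, ← ha, map_mul, map_mul, map_mul S.phi (_ * _), map_mul, map_inv, map_inv, ← ha,
      hβ] at h2
    rw [h2, ← (show a ^ j = S.phi h from hj),
      (((Commute.refl a).zpow_left j).pow_right 2).eq, mul_inv_cancel_right]
    rfl
  have hxi : x ^ i = x ^ (2 : ℤ) := by
    rw [zpow_eq_zpow_iff_modEq, hao] at hai
    rw [zpow_eq_zpow_iff_modEq, C.ord]
    exact hai
  refine ⟨((h : ↥(cz z)) : G) * b0, mem_cz.mp (mul_mem (h : ↥(cz z)).2 hb0), ?_⟩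
  have hi2 : x ^ i = ((h : ↥(cz z)) : G) * (b0 * x * b0⁻¹) * ((h : ↥(cz z)) : G)⁻¹ :=
    congrArg Subtype.val hi1
  rw [show ((h : ↥(cz z)) : G) * b0 * x * (((h : ↥(cz z)) : G) * b0)⁻¹ =
    ((h : ↥(cz z)) : G) * (b0 * x * b0⁻¹) * ((h : ↥(cz z)) : G)⁻¹ by group, ← hi2, hxi]
  exact zpow_natCast x 2

omit I in
theorem idx_eq : J4BigPrimes.idxOf x = 10 := by
  haveI : Fact (Nat.Prime 11) := ⟨by norm_num⟩
  obtain ⟨b, -, hb⟩ := C.exists_sq
  have hbn : b ∈ J4BigPrimes.nz x := J4Local.mem_normalizer_of_le (by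
    rintro _ ⟨k, rfl⟩
    rw [← conj_zpow, hb]
    exact zpow_mem (pow_mem (Subgroup.mem_zpowers x) 2) k)
  set n := J4BigPrimes.idxOf x with hn
  have h1 : J4BigPrimes.act x (⟨b, hbn⟩ ^ n) = 1 := by
    have := pow_card_eq_one' (x := (⟨J4BigPrimes.act x ⟨b, hbn⟩, ⟨_, rfl⟩⟩ :
      ↥(J4BigPrimes.act x).range))
    rw [map_pow]
    exact congrArg Subtype.val this
  have hc := mem_cz.mp ((J4BigPrimes.act_eq_one x _).mp h1)
  have key : ∀ k : ℕ, b ^ k * x * (b ^ k)⁻¹ = x ^ 2 ^ k := by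
    intro k
    induction k with
    | zero => simp
    | succ m ih =>
      calc b ^ (m + 1) * x * (b ^ (m + 1))⁻¹ = b * (b ^ m * x * (b ^ m)⁻¹) * b⁻¹ := by
            rw [pow_succ']; group
        _ = x ^ 2 ^ (m + 1) := by rw [ih, ← conj_pow, hb, ← pow_mul, pow_succ']
  have hx : x ^ 2 ^ n = x ^ 1 := by
    rw [← key n, pow_one, mul_inv_eq_iff_eq_mul]
    exact hc.eq
  rw [pow_eq_pow_iff_modEq, C.ord] at hx
  have hd : n ∣ 10 := J4BigPrimes.idx_dvd (by norm_num : Nat.Prime 11) C.ord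
  have hn11 : n < 11 := Nat.lt_succ_of_le (Nat.le_of_dvd (by norm_num) hd)
  exact (show ∀ m : ℕ, m < 11 → m ∣ 10 → 2 ^ m % 11 = 1 % 11 → m = 10 by decide) n hn11 hd hx

theorem card_nz {U : Subgroup G} (hU : Cent z x U) : Nat.card ↥(J4BigPrimes.nz x) = 319440 := by
  rw [J4BigPrimes.card_nz, hU.card_cz, C.idx_eq]
  norm_num

theorem no_fix {U : Subgroup G} (hU : Cent z x U) {f v : G} (hf : f ∈ fixQ z x) (hf1 : f ≠ 1)
    (hfz : f ≠ z) (hv : v ∈ U) (h : f * v * f⁻¹ ∈ Subgroup.zpowers v) :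
    v ∈ Subgroup.zpowers x := by
  obtain ⟨m, hm⟩ := Subgroup.mem_zpowers_iff.mp h
  have h1 : z * v * z⁻¹ = v ^ (m * m) := by
    calc z * v * z⁻¹ = f * (f * v * f⁻¹) * f⁻¹ := by rw [← C.sq_fixQ I hf hf1 hfz]; group
      _ = f * v ^ m * f⁻¹ := by rw [hm]
      _ = (f * v * f⁻¹) ^ m := by rw [conj_zpow]
      _ = _ := by rw [← hm, ← zpow_mul]
  refine mem_of_zpow (k := 1) (n := m * m + 1) (by rw [pow_one]; exact hU.pow v hv)
    (not_dvd_sq_add_one m) ?_
  rw [zpow_add_one, ← h1]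
  exact hU.inv_mod v hv

variable [IsSimpleGroup G] (hG : ¬ IsMulCommutative G)
include hG

/-- The normaliser of the Sylow 11-subgroup is that of the distinguished line. -/
theorem normalizer_eq {U : Subgroup G} (hU : Cent z x U) :
    Subgroup.normalizer (U : Set G) = J4BigPrimes.nz x := by
  classical
  haveI : Fact (Nat.Prime 11) := ⟨by norm_num⟩
  set N := Subgroup.normalizer (U : Set G) with hN
  set N' := (J4BigPrimes.nz x).subgroupOf N with hN'
  set L := fixQ z x with hL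
  have hLN : L ≤ J4BigPrimes.nz x := fun f hf => J4BigPrimes.cz_le_nz x hf.2
  let ι : ↥L →* ↥N := Subgroup.inclusion (hLN.trans hU.nz_le)
  letI : MulAction ↥L (↥N ⧸ N') := MulAction.compHom _ ι
  have hmod : Nat.card (↥N ⧸ N') % 4 = 1 := by
    refine card_mod_four (H := ↥L) (C.card_fixQ I) ((1 : ↥N) : ↥N ⧸ N') (fun f => ?_) fun q hq => ?_
    · show ι f • ((1 : ↥N) : ↥N ⧸ N') = _
      rw [MulAction.Quotient.smul_coe, QuotientGroup.eq, Subgroup.mem_subgroupOf]
      simpa [ι] using inv_mem (hLN f.2)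
    · obtain ⟨n, rfl⟩ := QuotientGroup.mk_surjective q
      have hn : (n : G) ∉ J4BigPrimes.nz x := fun h => hq (by
        rw [QuotientGroup.eq, Subgroup.mem_subgroupOf]
        simpa using inv_mem h)
      set v := (n : G) * x * (n : G)⁻¹ with hv
      have hvU : v ∈ U := (Subgroup.mem_normalizer_iff.mp n.2 x).mp hU.x_mem
      have hvx : v ∉ Subgroup.zpowers x := fun h => hn (J4Local.mem_normalizer_of_le (by
        rintro _ ⟨k, rfl⟩
        rw [← conj_zpow]
        exact zpow_mem h k))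
      have hle : MulAction.stabilizer ↥L ((n : ↥N) : ↥N ⧸ N') ≤
          (Subgroup.zpowers z).subgroupOf L := by
        intro f hf
        rw [Subgroup.mem_subgroupOf]
        by_contra hne
        have hf1 : (f : G) ≠ 1 := fun h => hne (by rw [h]; exact one_mem _)
        have hfz : (f : G) ≠ z := fun h => hne (by rw [h]; exact Subgroup.mem_zpowers z)
        have hf' : ι f • ((n : ↥N) : ↥N ⧸ N') = n := hf
        rw [MulAction.Quotient.smul_coe, QuotientGroup.eq, Subgroup.mem_subgroupOf] at hf'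
        have hm : (n : G)⁻¹ * (f : G) * n ∈ J4BigPrimes.nz x := by
          have := inv_mem hf'
          simpa [ι, mul_assoc] using this
        obtain ⟨i, hi⟩ := (Subgroup.mem_normalizer_iff.mp hm x).mp (Subgroup.mem_zpowers x)
        refine hvx (C.no_fix I hU f.2 hf1 hfz hvU ⟨i, ?_⟩)
        show v ^ i = _
        rw [hv, conj_zpow, show x ^ i = _ from hi]
        group
      refine (Subgroup.card_dvd_of_le hle).trans ?_
      rw [Nat.card_congr (Subgroup.subgroupOfEquivOfLe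
        (Subgroup.zpowers_le.mpr C.z_mem_fixQ : Subgroup.zpowers z ≤ L)).toEquiv,
        Nat.card_zpowers, C.set.ord_z]
  have hle : Nat.card (↥N ⧸ N') ≤ 1331 := by
    let f : ↥N ⧸ N' → Set ↥U := Quotient.lift
      (fun n : ↥N => {u : ↥U | (u : G) ∈ Subgroup.zpowers ((n : G) * x * (n : G)⁻¹)})
      (fun a b hab => by
        replace hab : (a⁻¹ * b : ↥N) ∈ N' := QuotientGroup.leftRel_apply.mp hab
        rw [Subgroup.mem_subgroupOf] at hab
        have hmap : ∀ c : G, Subgroup.zpowers (c * x * c⁻¹) =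
            (Subgroup.zpowers x).map (MulAut.conj c).toMonoidHom := fun c => by
          rw [MonoidHom.map_zpowers]; rfl
        have heq : Subgroup.zpowers ((b : G) * x * (b : G)⁻¹) =
            Subgroup.zpowers ((a : G) * x * (a : G)⁻¹) := by
          ext u
          rw [hmap, hmap, Subgroup.mem_map_equiv, Subgroup.mem_map_equiv, MulAut.conj_symm_apply,
            MulAut.conj_symm_apply]
          have h := Subgroup.mem_normalizer_iff.mp hab ((b : G)⁻¹ * u * b)
          simp only [Subgroup.coe_mul, InvMemClass.coe_inv] at h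
          rw [show (a : G)⁻¹ * b * ((b : G)⁻¹ * u * b) * ((a : G)⁻¹ * b)⁻¹ = (a : G)⁻¹ * u * a by
            group] at h
          exact h
        simp only [heq])
    have key : ∀ q, ∃ u : ↥U, u ∈ f q ∧ (u : G) ≠ 1 := by
      intro q
      obtain ⟨n, rfl⟩ := QuotientGroup.mk_surjective q
      refine ⟨⟨(n : G) * x * (n : G)⁻¹, (Subgroup.mem_normalizer_iff.mp n.2 x).mp hU.x_mem⟩,
        Subgroup.mem_zpowers _, fun h => ?_⟩
      have hx1 := conj_eq_one_iff.mp h
      have := C.ord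
      rw [hx1, orderOf_one] at this
      norm_num at this
    choose u hu hu1 using key
    refine (Nat.card_le_card_of_injective u fun q r hqr => ?_).trans (by rw [hU.card]; norm_num)
    obtain ⟨a, rfl⟩ := QuotientGroup.mk_surjective q
    obtain ⟨b, rfl⟩ := QuotientGroup.mk_surjective r
    set w := u ((a : ↥N) : ↥N ⧸ N') with hw
    have e1 : (w : G) ∈ Subgroup.zpowers ((a : G) * x * (a : G)⁻¹) := hu (QuotientGroup.mk a)
    have e2 : (w : G) ∈ Subgroup.zpowers ((b : G) * x * (b : G)⁻¹) := by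
      rw [hqr]
      exact hu (QuotientGroup.mk b)
    have ho : ∀ c : G, orderOf (c * x * c⁻¹) = 11 := fun c =>
      (MulEquiv.orderOf_eq (MulAut.conj c) x).trans C.ord
    have hwo : orderOf (w : G) = 11 :=
      orderOf_eq_prime (hU.pow _ w.2) (hu1 _)
    have hs : ∀ c : G, (w : G) ∈ Subgroup.zpowers (c * x * c⁻¹) →
        Subgroup.zpowers (w : G) = Subgroup.zpowers (c * x * c⁻¹) := fun c hc =>
      Subgroup.eq_of_le_of_card_ge (Subgroup.zpowers_le.mpr hc) (by
        rw [Nat.card_zpowers, Nat.card_zpowers, hwo, ho])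
    rw [QuotientGroup.eq, Subgroup.mem_subgroupOf]
    have heq := (hs a e1).symm.trans (hs b e2)
    refine J4Local.mem_normalizer_of_le ?_
    rintro _ ⟨k, rfl⟩
    rw [← conj_zpow]
    refine zpow_mem ?_ k
    obtain ⟨i, hi⟩ := heq.ge (Subgroup.mem_zpowers ((b : G) * x * (b : G)⁻¹))
    refine ⟨i, ?_⟩
    have hi' : (a : G) * x ^ i * (a : G)⁻¹ = (b : G) * x * (b : G)⁻¹ := by rw [← conj_zpow]; exact hi
    show x ^ i = _
    simp only [Subgroup.coe_mul, InvMemClass.coe_inv]
    rw [show (a : G)⁻¹ * b * x * ((a : G)⁻¹ * b)⁻¹ = (a : G)⁻¹ * ((b : G) * x * (b : G)⁻¹) * a by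
      group, ← hi']
    group
  have hindex := Subgroup.card_mul_index N'
  rw [Nat.card_congr (Subgroup.subgroupOfEquivOfLe hU.nz_le).toEquiv, C.card_nz I hU,
    Subgroup.index] at hindex
  set s := Nat.card (↥N ⧸ N')
  have hd : s ∣ 271649045348352 := by
    have h := Subgroup.card_subgroup_dvd_card N
    rw [I.order, ← hindex, show (86775571046077562880 : ℕ) = 319440 * 271649045348352 by norm_num] at h
    exact Nat.dvd_of_mul_dvd_mul_left (by norm_num) h
  have h11 : s % 11 = 1 := by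
    obtain ⟨P, hP⟩ := hU.isPGroup.exists_le_sylow
    have hPc : Nat.card ↥(P : Subgroup G) ≤ 11 ^ 3 := by
      obtain ⟨k, hk⟩ := P.2.exists_card_eq
      rw [hk]
      refine Nat.pow_le_pow_right (by norm_num) ?_
      by_contra hlt
      have h := (pow_dvd_pow 11 (show 4 ≤ k by omega)).trans
        (hk ▸ Subgroup.card_subgroup_dvd_card _)
      rw [I.order] at h
      norm_num at h
    have hPU : (P : Subgroup G) = U :=
      (Subgroup.eq_of_le_of_card_ge hP (hPc.trans hU.card.ge)).symm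
    have h := card_sylow_modEq_one 11 G
    rw [P.card_eq_index_normalizer, show Subgroup.normalizer (P : Set G) = N by
      show Subgroup.normalizer ((P : Subgroup G) : Set G) = _
      rw [hPU]] at h
    have hi := Subgroup.index_mul_card N
    rw [I.order, ← hindex] at hi
    have hi' : N.index * s = 271649045348352 := by
      refine Nat.eq_of_mul_eq_mul_left (show 0 < 319440 by norm_num) ?_
      linarith
    have h2 : N.index * s ≡ 1 * s [MOD 11] := Nat.ModEq.mul_right s h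
    rw [hi', one_mul, Nat.ModEq] at h2
    omega
  have hs := index_eq_one hd h11 hmod hle
  refine (Subgroup.eq_of_le_of_card_ge hU.nz_le ?_).symm
  rw [C.card_nz I hU, ← hindex, hs, mul_one]

end Ctx

end Cfsg.Agent.Lib.J4Eleven49
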