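import Cfsg.Agent.Lib.J4Eleven49.Nrm

/-!
# The action of `N(⟨x⟩) ∩ C(z)` on the Sylow 11-subgroup modulo `⟨x⟩`

Owner: helper49.
-/

set_option autoImplicit false
set_option linter.unusedSectionVars false
set_option linter.style.haveILetI false

namespace Cfsg.Agent.Lib.J4Eleven49

open Cfsg.Agent.Lib
open Cfsg.Agent.Lib.J4Local
open Cfsg.Agent.Lib.LargeExtraspecial.Basic

theorem two_pow_surj : ∀ i : ZMod 11, i ≠ 0 → ∃ k : Fin 10, (2 : ZMod 11) ^ (k : ℕ) = i := by decide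

theorem solve_affine : ∀ a c : ZMod 11, c ≠ 1 → ∃ t : Fin 11, a + c * (t : ℕ) = (t : ℕ) := by decide

variable {G : Type*} [Group G] [Finite G] {z p x : G} {U : Subgroup G}

/-- The part of `N(⟨x⟩)` centralising `z`. -/
abbrev dSub (z x : G) : Subgroup G := J4BigPrimes.nz x ⊓ cz z

theorem conj_x_of_nz {g : G} (hg : g ∈ J4BigPrimes.nz x) : ∃ i : ℤ, g * x * g⁻¹ = x ^ i := by
  obtain ⟨i, hi⟩ := (Subgroup.mem_normalizer_iff.mp hg x).mp (Subgroup.mem_zpowers x)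
  exact ⟨i, hi.symm⟩

theorem zpow_eq_of_cast {x : G} (hx : orderOf x = 11) {a b : ℤ}
    (h : (a : ZMod 11) = (b : ZMod 11)) : x ^ a = x ^ b := by
  rw [zpow_eq_zpow_iff_modEq, hx]
  exact (ZMod.intCast_eq_intCast_iff _ _ _).mp h

theorem pow_eleven_zpow {x : G} (hx : orderOf x = 11) {k : ℕ} : (x ^ k) ^ 11 = 1 := by
  rw [← pow_mul, mul_comm, pow_mul, ← hx, pow_orderOf_eq_one, one_pow]

namespace Cent

variable (hU : Cent z x U)
include hU

theorem exists_sylow (I : J4BigPrimes.Inputs z) : ∃ P : Sylow 11 G, (P : Subgroup G) = U := by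
  haveI : Fact (Nat.Prime 11) := ⟨by norm_num⟩
  obtain ⟨P, hP⟩ := hU.isPGroup.exists_le_sylow
  refine ⟨P, (Subgroup.eq_of_le_of_card_ge hP ?_).symm⟩
  obtain ⟨k, hk⟩ := P.2.exists_card_eq
  rw [hk, hU.card]
  refine Nat.pow_le_pow_right (by norm_num) ?_
  by_contra hlt
  have h := (pow_dvd_pow 11 (show 4 ≤ k by omega)).trans
    (hk ▸ Subgroup.card_subgroup_dvd_card _)
  rw [I.order] at h
  norm_num at h

/-- Every element of order eleven is conjugate into `U`. -/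
theorem exists_conj_mem (I : J4BigPrimes.Inputs z) {y : G} (hy : y ^ 11 = 1) :
    ∃ g, g * y * g⁻¹ ∈ U := by
  haveI : Fact (Nat.Prime 11) := ⟨by norm_num⟩
  obtain ⟨P, hP⟩ := hU.exists_sylow I
  obtain ⟨R, hR⟩ := (show IsPGroup 11 ↥(Subgroup.zpowers y) from fun a => ⟨1, by
    obtain ⟨_, i, rfl⟩ := a
    refine Subtype.ext ?_
    show (y ^ i) ^ 11 ^ 1 = 1
    rw [pow_one, ← zpow_natCast, ← zpow_mul, mul_comm, zpow_mul, zpow_natCast, hy,
      one_zpow]⟩).exists_le_sylow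
  obtain ⟨g, hg⟩ := MulAction.exists_smul_eq G R P
  refine ⟨g, ?_⟩
  rw [← hP, ← hg, Sylow.coe_subgroup_smul]
  exact Subgroup.smul_mem_pointwise_smul y (MulAut.conj g) _ (hR (Subgroup.mem_zpowers y))

end Cent

namespace Ctx

variable (C : Ctx z p x) (I : J4BigPrimes.Inputs z) (hU : Cent z x U)
include C I hU

theorem exists_mem_cz_conj {g : G} (hg : g ∈ J4BigPrimes.nz x) :
    ∃ u ∈ U, u * g ∈ dSub z x := by
  obtain ⟨b, hbz, hb⟩ := C.exists_sq
  obtain ⟨i, hi⟩ := conj_x_of_nz hg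
  have hi0 : (i : ZMod 11) ≠ 0 := fun h0 => by
    have h1 : x ^ i = x ^ (0 : ℤ) := zpow_eq_of_cast C.ord (by rw [h0]; norm_num)
    rw [zpow_zero, ← hi, conj_eq_one_iff] at h1
    have := C.ord
    rw [h1, orderOf_one] at this
    norm_num at this
  obtain ⟨k, hk⟩ := two_pow_surj _ hi0
  have hbn : b ∈ J4BigPrimes.nz x := J4Local.mem_normalizer_of_le (by
    rintro _ ⟨j, rfl⟩
    rw [← conj_zpow, hb]
    exact zpow_mem (pow_mem (Subgroup.mem_zpowers x) 2) j)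
  have key : ∀ j : ℕ, b ^ j * x * (b ^ j)⁻¹ = x ^ 2 ^ j := by
    intro j
    induction j with
    | zero => simp
    | succ m ih =>
      calc b ^ (m + 1) * x * (b ^ (m + 1))⁻¹ = b * (b ^ m * x * (b ^ m)⁻¹) * b⁻¹ := by
            rw [pow_succ']; group
        _ = x ^ 2 ^ (m + 1) := by rw [ih, ← conj_pow, hb, ← pow_mul, pow_succ']
  have hgb : (b ^ (k : ℕ))⁻¹ * g ∈ cz x := by
    refine mem_cz.mpr (mul_inv_eq_iff_eq_mul.mp ?_)
    have e : b ^ (k : ℕ) * x * (b ^ (k : ℕ))⁻¹ = g * x * g⁻¹ := by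
      rw [key, hi, ← zpow_natCast]
      refine zpow_eq_of_cast C.ord ?_
      rw [← hk]
      push_cast
      rfl
    rw [show (b ^ (k : ℕ))⁻¹ * g * x * ((b ^ (k : ℕ))⁻¹ * g)⁻¹ =
      (b ^ (k : ℕ))⁻¹ * (g * x * g⁻¹) * b ^ (k : ℕ) by group, ← e]
    group
  obtain ⟨u, hu, huz⟩ := hU.decomp _ hgb
  have hu' := hU.mem_nz_conj (pow_mem hbn (k : ℕ)) hu
  refine ⟨_, hu', mul_mem (J4BigPrimes.cz_le_nz x (hU.le_cz hu')) hg, mem_cz.mpr ?_⟩
  have h := (hbz.pow_left (k : ℕ)).mul_left huz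
  rwa [show b ^ (k : ℕ) * (u * ((b ^ (k : ℕ))⁻¹ * g)) =
    b ^ (k : ℕ) * u * (b ^ (k : ℕ))⁻¹ * g by group] at h

/-- The involutions of `C(x)` are conjugates of `z`. -/
theorem involution_conj {j : G} (hjx : Commute j x) (hj : orderOf j = 2) : IsConj z j := by
  have := Fact.mk Nat.prime_two
  have hle : fixQ z x ≤ cz x := inf_le_right
  let P : Sylow 2 ↥(cz x) := Sylow.ofCard ((fixQ z x).subgroupOf (cz x)) (by
    rw [Nat.card_congr (Subgroup.subgroupOfEquivOfLe hle).toEquiv, C.card_fixQ I, hU.card_cz,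
      show (24 * 11 ^ 3 : ℕ) = 2 ^ 3 * (3 * 11 ^ 3) by norm_num,
      Nat.factorization_mul (by norm_num) (by norm_num), Finsupp.add_apply,
      Nat.prime_two.factorization_pow, Finsupp.single_eq_same,
      Nat.factorization_eq_zero_of_not_dvd (by norm_num : ¬ 2 ∣ 3 * 11 ^ 3)]
    norm_num)
  set j' : ↥(cz x) := ⟨j, mem_cz.mpr hjx⟩
  obtain ⟨R, hR⟩ := (IsPGroup.of_card (p := 2) (n := 1)
    (by rw [Nat.card_zpowers, Subgroup.orderOf_mk, hj, pow_one]) :
      IsPGroup 2 ↥(Subgroup.zpowers j')).exists_le_sylow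
  obtain ⟨g, hg⟩ := MulAction.exists_smul_eq ↥(cz x) R P
  have hm : g * j' * g⁻¹ ∈ (P : Subgroup ↥(cz x)) := by
    rw [← hg, Sylow.coe_subgroup_smul]
    exact Subgroup.smul_mem_pointwise_smul j' (MulAut.conj g) _ (hR (Subgroup.mem_zpowers j'))
  have hm' : (g : G) * j * (g : G)⁻¹ ∈ fixQ z x := hm
  have hj2 : j * j = 1 := by rw [← pow_two, ← hj, pow_orderOf_eq_one]
  have hne : j ≠ 1 := fun h => by rw [h, orderOf_one] at hj; norm_num at hj
  have heq := C.inv_eq_z I (mem_cz.mp (Q_le_cz z hm'.1)) (mem_cz.mp hm'.2) (by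
      rw [show (g : G) * j * (g : G)⁻¹ * ((g : G) * j * (g : G)⁻¹) = g * (j * j) * (g : G)⁻¹ by
        group, hj2]
      group) (fun h => hne (conj_eq_one_iff.mp h))
  exact (isConj_iff.mpr ⟨(g : G), heq⟩).symm

theorem commute_z_free {u : G} (hu : u ∈ U) (hux : u ∉ Subgroup.zpowers x) : ¬ Commute u z :=
  fun h => hux (hU.inter u hu h)

variable [IsSimpleGroup G] (hG : ¬ IsMulCommutative G)
include hG

theorem three_free {r u : G} (hr : orderOf r = 3) (hrz : Commute r z) (hrx : Commute r x)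
    (hu : u ∈ U) (hru : Commute u r) : u ∈ Subgroup.zpowers x := by
  have := Fact.mk Nat.prime_three
  set S := C.set
  set M := cz z ⊓ cz x with hM
  have hMc := C.card_inter I
  have hf : (Nat.card ↥M).factorization 3 = 1 := by
    rw [hMc, show (264 : ℕ) = 3 ^ 1 * 88 by norm_num,
      Nat.factorization_mul (by norm_num) (by norm_num), Finsupp.add_apply,
      Nat.prime_three.factorization_pow, Finsupp.single_eq_same,
      Nat.factorization_eq_zero_of_not_dvd (by norm_num : ¬ 3 ∣ 88)]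
  have hpM : p ∈ M := ⟨S.p_mem_cz, mem_cz.mpr C.xp.symm⟩
  have hrM : r ∈ M := ⟨mem_cz.mpr hrz, mem_cz.mpr hrx⟩
  obtain ⟨⟨g, hgM⟩, hg⟩ := J4BigPrimes.conj_of_cyclic (q := 3) (W := ↥M) (by rw [hMc]; norm_num)
    (a := ⟨r, hrM⟩) (b := ⟨p, hpM⟩) (by rw [Subgroup.orderOf_mk, hr])
    (by rw [Subgroup.orderOf_mk, S.ord_p])
  obtain ⟨i, hi⟩ := hg.ge (Subgroup.mem_zpowers _)
  have hi' : (g * r * g⁻¹) ^ i = p := congrArg Subtype.val hi
  refine hU.inter u hu ?_
  have h1 := (hru.zpow_right i).map (MulAut.conj g)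
  simp only [MulAut.conj_apply, ← conj_zpow] at h1
  rw [hi'] at h1
  have h2 := (S.centralizer_p_le hG autFacts h1).map (MulAut.conj g⁻¹)
  simp only [MulAut.conj_apply, inv_inv] at h2
  rwa [show g⁻¹ * (g * u * g⁻¹) * g = u by group,
    show g⁻¹ * z * g = z by rw [mul_assoc, ← (mem_cz.mp hgM.1).eq, inv_mul_cancel_left]] at h2

/-- `C(x) ∩ C(z)` acts freely on the cosets of `⟨x⟩` in `U` outside it, modulo `⟨x⟩`. -/
theorem free {g u : G} (hgz : Commute g z) (hgx : Commute g x) (hu : u ∈ U)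
    (hux : u ∉ Subgroup.zpowers x) (hfix : g * u * g⁻¹ * u⁻¹ ∈ Subgroup.zpowers x) :
    g ∈ Subgroup.zpowers x := by
  obtain ⟨i, hi⟩ := Subgroup.mem_zpowers_iff.mp hfix
  have hgu : g * u * g⁻¹ = x ^ i * u := by rw [hi, inv_mul_cancel_right]
  have key : ∀ n : ℕ, g ^ n * u * (g ^ n)⁻¹ = x ^ (i * n) * u := by
    intro n
    induction n with
    | zero => simp
    | succ m ih =>
      calc g ^ (m + 1) * u * (g ^ (m + 1))⁻¹ = g * (g ^ m * u * (g ^ m)⁻¹) * g⁻¹ := by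
            rw [pow_succ']; group
        _ = (g * x ^ (i * m) * g⁻¹) * (g * u * g⁻¹) := by rw [ih]; group
        _ = x ^ (i * m) * (x ^ i * u) := by
            rw [hgu, mul_inv_eq_iff_eq_mul.mpr (hgx.zpow_right _).eq]
        _ = _ := by rw [← mul_assoc, ← zpow_add, Nat.cast_succ, mul_add, mul_one]
  set h := g ^ 11 with hh
  have hhu : Commute h u := by
    refine mul_inv_eq_iff_eq_mul.mp ?_
    rw [key 11, mul_comm, zpow_mul, zpow_natCast, C.x_pow, one_zpow, one_mul]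
  have hhM : h ∈ cz z ⊓ cz x :=
    ⟨pow_mem (mem_cz.mpr hgz) 11, pow_mem (mem_cz.mpr hgx) 11⟩
  have h24 : orderOf h ∣ 24 := by
    refine orderOf_dvd_of_pow_eq_one ?_
    have := pow_card_eq_one' (x := (⟨g, mem_cz.mpr hgz, mem_cz.mpr hgx⟩ : ↥(cz z ⊓ cz x)))
    rw [C.card_inter I] at this
    rw [hh, ← pow_mul]
    exact congrArg Subtype.val this
  have hh1 : h = 1 := by
    by_contra hne
    obtain ⟨q, hq, hqd⟩ := Nat.exists_prime_and_dvd (fun h1 => hne (orderOf_eq_one_iff.mp h1))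
    set r := h ^ (orderOf h / q) with hr
    have hro : orderOf r = q := orderOf_pow_orderOf_div (orderOf_pos h).ne' hqd
    have hrz : Commute r z := (mem_cz.mp hhM.1).pow_left _
    have hrx : Commute r x := (mem_cz.mp hhM.2).pow_left _
    have hru : Commute r u := hhu.pow_left _
    have hq23 : q = 2 ∨ q = 3 := by
      have h' : q ∣ 2 ^ 3 * 3 := (hqd.trans h24)
      rcases hq.dvd_mul.mp h' with h' | h'
      · exact Or.inl ((Nat.prime_dvd_prime_iff_eq hq Nat.prime_two).mp (hq.dvd_of_dvd_pow h'))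
      · exact Or.inr ((Nat.prime_dvd_prime_iff_eq hq Nat.prime_three).mp h')
    rcases hq23 with rfl | rfl
    · have hrz' := C.inv_eq_z I hrz hrx (by rw [← pow_two, ← hro, pow_orderOf_eq_one])
        (fun h1 => by rw [h1, orderOf_one] at hro; norm_num at hro)
      exact C.commute_z_free I hU hu hux (hrz' ▸ hru).symm
    · exact hux (C.three_free I hU hG hro hrz hrx hu hru.symm)
  exact hU.inter g (hU.mem_of_pow (mem_cz.mpr hgx) (k := 1) (by rw [pow_one]; exact hh1)) hgz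

/-- An element of `N(⟨x⟩) ∩ C(z)` fixing a coset centralises or inverts `x`. -/
theorem fix_acts {g u : G} (hg : g ∈ dSub z x) (hu : u ∈ U) (hux : u ∉ Subgroup.zpowers x)
    (hfix : g * u * g⁻¹ * u⁻¹ ∈ Subgroup.zpowers x) : Commute (g * g) x := by
  by_contra hnc
  obtain ⟨hgn, -⟩ := hg
  set h := g * g with hh
  have hhn : h ∈ J4BigPrimes.nz x := mul_mem hgn hgn
  set σ := J4BigPrimes.act x ⟨h, hhn⟩ with hσ
  have hσ5 : σ ^ 5 = 1 := by
    have h1 := pow_card_eq_one' (x := (⟨J4BigPrimes.act x ⟨g, hgn⟩, ⟨_, rfl⟩⟩ :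
      ↥(J4BigPrimes.act x).range))
    rw [show Nat.card ↥(J4BigPrimes.act x).range = 10 from C.idx_eq] at h1
    have h2 : J4BigPrimes.act x ⟨g, hgn⟩ ^ 10 = 1 := congrArg Subtype.val h1
    rw [hσ, show (⟨h, hhn⟩ : ↥(J4BigPrimes.nz x)) = ⟨g, hgn⟩ ^ 2 from Subtype.ext (pow_two g).symm,
      map_pow, ← pow_mul]
    exact h2
  have hσ1 : σ ≠ 1 := fun h1 => hnc (mem_cz.mp ((J4BigPrimes.act_eq_one x _).mp h1))
  have h5 : 5 ∣ orderOf h := by
    have := Fact.mk Nat.prime_five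
    rw [← orderOf_eq_prime hσ5 hσ1, ← Subgroup.orderOf_mk h hhn]
    exact orderOf_map_dvd _ _
  set f := h ^ (orderOf h / 5) with hf
  have hfo : orderOf f = 5 := orderOf_pow_orderOf_div (orderOf_pos h).ne' h5
  have hfn : f ∈ J4BigPrimes.nz x := pow_mem hhn _
  -- the elements fixing the coset
  let T : Subgroup G :=
    { carrier := {a | a ∈ J4BigPrimes.nz x ∧ a * u * a⁻¹ * u⁻¹ ∈ Subgroup.zpowers x}
      one_mem' := ⟨one_mem _, by simp⟩
      mul_mem' := by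
        rintro a b ⟨ha, ha'⟩ ⟨hb, hb'⟩
        refine ⟨mul_mem ha hb, ?_⟩
        rw [show a * b * u * (a * b)⁻¹ * u⁻¹ =
          a * (b * u * b⁻¹ * u⁻¹) * a⁻¹ * (a * u * a⁻¹ * u⁻¹) by group]
        exact mul_mem ((Subgroup.mem_normalizer_iff.mp ha _).mp hb') ha'
      inv_mem' := by
        rintro a ⟨ha, ha'⟩
        refine ⟨inv_mem ha, ?_⟩
        rw [show a⁻¹ * u * a⁻¹⁻¹ * u⁻¹ = a⁻¹ * (a * u * a⁻¹ * u⁻¹)⁻¹ * a⁻¹⁻¹ by group]
        exact (Subgroup.mem_normalizer_iff.mp (inv_mem ha) _).mp (inv_mem ha') }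
  have hgT : g ∈ T := ⟨hgn, hfix⟩
  obtain ⟨-, hfT⟩ : f ∈ T := pow_mem (mul_mem hgT hgT) _
  obtain ⟨c, hc⟩ := conj_x_of_nz hfn
  obtain ⟨a, ha⟩ := Subgroup.mem_zpowers_iff.mp hfT
  have hc1 : (c : ZMod 11) ≠ 1 := fun h1 => by
    have hxc : x ^ c = x := by
      rw [zpow_eq_of_cast C.ord (b := 1) (by rw [h1]; norm_num), zpow_one]
    rw [hxc] at hc
    exact no_five hG C.set I C.ord hfo (mul_inv_eq_iff_eq_mul.mp hc)
  obtain ⟨t, ht⟩ := solve_affine (a : ZMod 11) _ hc1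
  set u' := x ^ (t : ℕ) * u with hu'
  have hu'U : u' ∈ U := mul_mem (pow_mem hU.x_mem _) hu
  have hcomm : Commute f u' := by
    refine mul_inv_eq_iff_eq_mul.mp ?_
    have e : f * u' * f⁻¹ = (f * x * f⁻¹) ^ (t : ℕ) * (f * u * f⁻¹) := by
      rw [hu', conj_pow]; group
    have e2 : f * u * f⁻¹ = x ^ a * u := by rw [ha, inv_mul_cancel_right]
    rw [e, e2, hc, ← zpow_natCast, ← zpow_mul, ← mul_assoc, ← zpow_add, hu', ← zpow_natCast]
    congr 1
    refine zpow_eq_of_cast C.ord ?_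
    push_cast
    rw [add_comm]
    exact ht
  have hu'1 : u' ≠ 1 := fun h1 => hux (by
    rw [show u = (x ^ (t : ℕ))⁻¹ from eq_inv_of_mul_eq_one_right h1]
    exact inv_mem (pow_mem (Subgroup.mem_zpowers x) _))
  haveI : Fact (Nat.Prime 11) := ⟨by norm_num⟩
  exact no_five hG C.set I (orderOf_eq_prime (hU.pow _ hu'U) hu'1) hfo hcomm

omit hG in
theorem card_dSub : Nat.card ↥(dSub z x) = 2640 := by
  let m : ↥(dSub z x) →* MulAut ↥(Subgroup.zpowers x) :=
    (J4BigPrimes.act x).comp (Subgroup.inclusion inf_le_left)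
  have hr : m.range = (J4BigPrimes.act x).range := by
    refine le_antisymm (by rintro _ ⟨d, rfl⟩; exact ⟨_, rfl⟩) ?_
    rintro _ ⟨⟨g, hg⟩, rfl⟩
    obtain ⟨u, hu, hug⟩ := C.exists_mem_cz_conj I hU hg
    refine ⟨⟨u * g, hug⟩, ?_⟩
    show J4BigPrimes.act x (⟨u, J4BigPrimes.cz_le_nz x (hU.le_cz hu)⟩ * ⟨g, hg⟩) = _
    rw [map_mul, (J4BigPrimes.act_eq_one x _).mpr (hU.le_cz hu), one_mul]
  have hk : Nat.card ↥m.ker = 264 := by
    rw [← C.card_inter I]
    exact Nat.card_congr ⟨fun d => ⟨d.1.1, d.1.2.2, (J4BigPrimes.act_eq_one x _).mp d.2⟩,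
      fun v => ⟨⟨v.1, J4BigPrimes.cz_le_nz x v.2.2, v.2.1⟩, (J4BigPrimes.act_eq_one x _).mpr v.2.2⟩,
      fun _ => rfl, fun _ => rfl⟩
  have h := Subgroup.card_mul_index m.ker
  rw [Subgroup.index_ker, hr, hk, show Nat.card ↥(J4BigPrimes.act x).range = 10 from C.idx_eq] at h
  exact h.symm

theorem transitive {u v : G} (hu : u ∈ U) (hux : u ∉ Subgroup.zpowers x) (hv : v ∈ U)
    (hvx : v ∉ Subgroup.zpowers x) :
    ∃ d ∈ dSub z x, d * u * d⁻¹ * v⁻¹ ∈ Subgroup.zpowers x := by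
  classical
  have hxle : Subgroup.zpowers x ≤ U := Subgroup.zpowers_le.mpr hU.x_mem
  set X := (Subgroup.zpowers x).subgroupOf U with hX
  set D := dSub z x with hD
  let St : Subgroup ↥D :=
    { carrier := {d | (d : G) * u * (d : G)⁻¹ * u⁻¹ ∈ Subgroup.zpowers x}
      one_mem' := by simp
      mul_mem' := by
        intro a b ha hb
        show (a : G) * b * u * ((a : G) * b)⁻¹ * u⁻¹ ∈ Subgroup.zpowers x
        rw [show (a : G) * b * u * ((a : G) * b)⁻¹ * u⁻¹ =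
          a * (b * u * (b : G)⁻¹ * u⁻¹) * (a : G)⁻¹ * (a * u * (a : G)⁻¹ * u⁻¹) by group]
        exact mul_mem ((Subgroup.mem_normalizer_iff.mp a.2.1 _).mp hb) ha
      inv_mem' := by
        intro a ha
        show (a : G)⁻¹ * u * (a : G)⁻¹⁻¹ * u⁻¹ ∈ Subgroup.zpowers x
        rw [show (a : G)⁻¹ * u * (a : G)⁻¹⁻¹ * u⁻¹ =
          (a : G)⁻¹ * (a * u * (a : G)⁻¹ * u⁻¹)⁻¹ * (a : G)⁻¹⁻¹ by group]
        exact (Subgroup.mem_normalizer_iff.mp (inv_mem a.2.1) _).mp (inv_mem ha) }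
  have hSt : Nat.card ↥St ≤ 22 := by
    let m : ↥St →* MulAut ↥(Subgroup.zpowers x) :=
      ((J4BigPrimes.act x).comp (Subgroup.inclusion inf_le_left)).comp St.subtype
    have hker : Nat.card ↥m.ker ≤ 11 := by
      rw [← C.ord, ← Nat.card_zpowers]
      refine Nat.card_le_card_of_injective (fun d => ⟨((d.1 : ↥D) : G), C.free I hU hG
        (mem_cz.mp d.1.1.2.2) (mem_cz.mp ((J4BigPrimes.act_eq_one x _).mp d.2)) hu hux d.1.2⟩)
        fun a b h => Subtype.ext (Subtype.ext (Subtype.ext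
          (congrArg (fun y : ↥(Subgroup.zpowers x) => (y : G)) h)))
    have hran : Nat.card ↥m.range ≤ 2 := by
      haveI : IsCyclic ↥(J4BigPrimes.act x).range := by
        haveI : Fact (Nat.Prime (Nat.card ↥(Subgroup.zpowers x))) :=
          ⟨by rw [Nat.card_zpowers, C.ord]; norm_num⟩
        haveI : IsCyclic (MulAut ↥(Subgroup.zpowers x)) :=
          isCyclic_of_surjective (IsCyclic.mulAutMulEquiv ↥(Subgroup.zpowers x)).symm.toMonoidHom
            (IsCyclic.mulAutMulEquiv ↥(Subgroup.zpowers x)).symm.surjective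
        infer_instance
      have hle : m.range ≤ (J4BigPrimes.act x).range := by
        rintro _ ⟨d, rfl⟩; exact ⟨_, rfl⟩
      let e := Subgroup.subgroupOfEquivOfLe hle
      rw [← Nat.card_congr e.toEquiv]
      have h2 : ∀ a : ↥(m.range.subgroupOf (J4BigPrimes.act x).range), (a : ↥(J4BigPrimes.act x).range) ^ 2 = 1 := by
        rintro ⟨⟨a, ha⟩, hm⟩
        obtain ⟨d, hd⟩ := Subgroup.mem_subgroupOf.mp hm
        refine Subtype.ext ?_
        show a ^ 2 = 1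
        have hd' : m d = a := hd
        rw [← hd', ← map_pow]
        refine (J4BigPrimes.act_eq_one x _).mpr ?_
        show ((d : ↥D) : G) ^ 2 ∈ cz x
        rw [pow_two]
        exact mem_cz.mpr (C.fix_acts I hU hG d.1.2 hu hux d.2)
      refine (Nat.card_le_card_of_injective
        (fun a : ↥(m.range.subgroupOf (J4BigPrimes.act x).range) =>
          (⟨(a : ↥(J4BigPrimes.act x).range), h2 a⟩ :
        {a : ↥(J4BigPrimes.act x).range // a ^ 2 = 1})) fun a b h => Subtype.ext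
          (congrArg (fun y : {a : ↥(J4BigPrimes.act x).range // a ^ 2 = 1} => y.1) h :)).trans ?_
      have := Fintype.ofFinite ↥(J4BigPrimes.act x).range
      rw [Nat.card_eq_fintype_card, Fintype.card_subtype]
      exact IsCyclic.card_pow_eq_one_le (by norm_num)
    have h := Subgroup.card_mul_index m.ker
    rw [Subgroup.index_ker] at h
    rw [← h]
    exact (Nat.mul_le_mul hker hran).trans (by norm_num)
  let w : ↥D → ↥U ⧸ X := fun d =>
    QuotientGroup.mk ⟨(d : G) * u * (d : G)⁻¹, hU.mem_nz_conj d.2.1 hu⟩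
  have hwd : ∀ a b : ↥D, w a = w b ↔ a⁻¹ * b ∈ St := by
    intro a b
    simp only [w, QuotientGroup.eq, hX, Subgroup.mem_subgroupOf, Subgroup.coe_mul,
      InvMemClass.coe_inv]
    have hun : u⁻¹ ∈ J4BigPrimes.nz x := J4BigPrimes.cz_le_nz x (inv_mem (hU.le_cz hu))
    rw [show ((a : G) * u * (a : G)⁻¹)⁻¹ * ((b : G) * u * (b : G)⁻¹) =
      (a : G) * (u⁻¹ * (((a : G)⁻¹ * b) * u * ((a : G)⁻¹ * b)⁻¹ * u⁻¹) * u⁻¹⁻¹) * (a : G)⁻¹ by
        group,
      ← Subgroup.mem_normalizer_iff.mp a.2.1, ← Subgroup.mem_normalizer_iff.mp hun]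
    rfl
  haveI hXn : X.Normal := ⟨fun k hk c => by
    rw [hX, Subgroup.mem_subgroupOf] at hk ⊢
    obtain ⟨i, hi⟩ := Subgroup.mem_zpowers_iff.mp hk
    show (c : G) * k * (c : G)⁻¹ ∈ _
    rw [← hi, mul_inv_eq_iff_eq_mul.mpr ((mem_cz.mp (hU.le_cz c.2)).zpow_right i).eq]
    exact Subgroup.zpow_mem_zpowers x i⟩
  have hne : ∀ d : ↥D, w d ≠ 1 := fun d h => hux (by
    have h' : (d : G) * u * (d : G)⁻¹ ∈ Subgroup.zpowers x :=
      Subgroup.mem_subgroupOf.mp ((QuotientGroup.eq_one_iff _).mp h)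
    exact (Subgroup.mem_normalizer_iff.mp d.2.1 u).mpr h')
  let f : ↥D ⧸ St → {q : ↥U ⧸ X // q ≠ 1} := Quotient.lift (fun d => ⟨w d, hne d⟩)
    fun a b hab => Subtype.ext ((hwd a b).mpr (QuotientGroup.leftRel_apply.mp hab))
  have hfinj : Function.Injective f := by
    intro a b h
    obtain ⟨a, rfl⟩ := QuotientGroup.mk_surjective a
    obtain ⟨b, rfl⟩ := QuotientGroup.mk_surjective b
    exact QuotientGroup.eq.mpr ((hwd a b).mp (congrArg Subtype.val h))
  have hcard : Nat.card {q : ↥U ⧸ X // q ≠ 1} ≤ Nat.card (↥D ⧸ St) := by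
    have h := Subgroup.card_mul_index X
    rw [hX, Nat.card_congr (Subgroup.subgroupOfEquivOfLe hxle).toEquiv, Nat.card_zpowers, C.ord,
      hU.card, Subgroup.index, ← hX] at h
    have h2 := Subgroup.card_mul_index St
    rw [Subgroup.index, show Nat.card ↥D = 2640 from C.card_dSub I hU] at h2
    have h3 : Nat.card {q : ↥U ⧸ X // q ≠ 1} + 1 = Nat.card (↥U ⧸ X) := by
      have := Fintype.ofFinite (↥U ⧸ X)
      rw [Nat.card_eq_fintype_card, Nat.card_eq_fintype_card, Fintype.card_subtype_compl,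
        Fintype.card_subtype_eq, Nat.sub_add_cancel Fintype.card_pos]
    have h4 := Nat.mul_le_mul_right (Nat.card (↥D ⧸ St)) hSt
    rw [h2] at h4
    omega
  obtain ⟨q, hq⟩ := (hfinj.bijective_of_nat_card_le hcard).2
    ⟨QuotientGroup.mk ⟨v, hv⟩, fun h => hvx
      (Subgroup.mem_subgroupOf.mp ((QuotientGroup.eq_one_iff _).mp h))⟩
  obtain ⟨d, rfl⟩ := QuotientGroup.mk_surjective q
  refine ⟨d, d.2, ?_⟩
  have h : w d = QuotientGroup.mk ⟨v, hv⟩ := congrArg Subtype.val hq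
  rw [QuotientGroup.eq_iff_div_mem, hX, Subgroup.mem_subgroupOf, div_eq_mul_inv] at h
  exact h

end Ctx

end Cfsg.Agent.Lib.J4Eleven49
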