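import Cfsg.Agent.Lib.J4Eleven49.Abel

/-!
# The involutions inverting the element of order eleven, abelian case

Owner: helper49.
-/

set_option autoImplicit false
set_option linter.unusedSectionVars false
set_option linter.style.haveILetI false

namespace Cfsg.Agent.Lib.J4Eleven49

open Cfsg.Agent.Lib
open Cfsg.Agent.Lib.J4Local
open Cfsg.Agent.Lib.LargeExtraspecial.Basic

variable {G : Type*} [Group G] [Finite G] {z p x : G} {U : Subgroup G}

theorem orderOf_conj' (g j : G) : orderOf (g * j * g⁻¹) = orderOf j :=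
  (congrArg orderOf (MulAut.conj_apply g j).symm).trans (MulEquiv.orderOf_eq _ j)

namespace Ctx

variable (C : Ctx z p x) (I : J4BigPrimes.Inputs z) (hU : Cent z x U)
variable (hab : ∀ a ∈ U, ∀ b ∈ U, Commute a b)
variable [IsSimpleGroup G] (hG : ¬ IsMulCommutative G)
include C I hU hab hG

theorem card_stab {a : G} (ha : a ∈ aSub z U hab) (ha1 : a ≠ 1) :
    Nat.card ↥(dSub z x ⊓ cz a) = 22 := by
  classical
  set St := dSub z x ⊓ cz a with hSt
  set W := (cz a).subgroupOf (dSub z x) with hW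
  have hWc : Nat.card ↥W = Nat.card ↥St := by
    rw [hW, ← Subgroup.inf_subgroupOf_left]
    exact Nat.card_congr (Subgroup.subgroupOfEquivOfLe inf_le_left).toEquiv
  have hidx : W.index ≤ 120 := by
    let f : ↥(dSub z x) ⧸ W → {b : ↥(aSub z U hab) // b ≠ 1} := Quotient.lift
      (fun d => ⟨⟨(d : G) * a * (d : G)⁻¹, C.aSub_conj hU hab d.2.1 (mem_cz.mp d.2.2) ha⟩,
        fun h => ha1 (conj_eq_one_iff.mp (congrArg Subtype.val h))⟩)
      (fun d e hde => by
        refine Subtype.ext (Subtype.ext ?_)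
        have hc : Commute ((d : G)⁻¹ * e) a :=
          mem_cz.mp (Subgroup.mem_subgroupOf.mp (QuotientGroup.leftRel_apply.mp hde))
        calc (d : G) * a * (d : G)⁻¹
            = d * (((d : G)⁻¹ * e) * a * ((d : G)⁻¹ * e)⁻¹) * (d : G)⁻¹ := by
              rw [mul_inv_eq_iff_eq_mul.mpr hc.eq]
          _ = _ := by group)
    have hf : Function.Injective f := by
      intro q r h
      obtain ⟨d, rfl⟩ := QuotientGroup.mk_surjective q
      obtain ⟨e, rfl⟩ := QuotientGroup.mk_surjective r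
      rw [QuotientGroup.eq, hW, Subgroup.mem_subgroupOf]
      have h' : (d : G) * a * (d : G)⁻¹ = (e : G) * a * (e : G)⁻¹ :=
        congrArg (fun b : {b : ↥(aSub z U hab) // b ≠ 1} => ((b.1 : ↥(aSub z U hab)) : G)) h
      refine mem_cz.mpr (mul_inv_eq_iff_eq_mul.mp ?_)
      show (d : G)⁻¹ * e * a * ((d : G)⁻¹ * e)⁻¹ = a
      rw [show (d : G)⁻¹ * e * a * ((d : G)⁻¹ * e)⁻¹ = (d : G)⁻¹ * (e * a * (e : G)⁻¹) * d by group,
        ← h']
      group
    refine (Nat.card_le_card_of_injective f hf).trans (le_of_eq ?_)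
    have := Fintype.ofFinite ↥(aSub z U hab)
    rw [Nat.card_eq_fintype_card, Fintype.card_subtype_compl, Fintype.card_subtype_eq,
      ← Nat.card_eq_fintype_card, C.card_aSub I hU hab hG]
  have hlo : 22 ≤ Nat.card ↥St := by
    have h := Subgroup.card_mul_index W
    rw [hWc, C.card_dSub I hU] at h
    nlinarith
  set X := (Subgroup.zpowers x).subgroupOf St with hX
  have hxle : Subgroup.zpowers x ≤ St := Subgroup.zpowers_le.mpr
    ⟨⟨J4BigPrimes.cz_le_nz x (mem_cz.mpr (Commute.refl x)), C.x_mem⟩,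
      mem_cz.mpr (mem_cz.mp (hU.le_cz ha.1)).symm⟩
  obtain ⟨d0, hd0, hd0x⟩ : ∃ d ∈ St, d ∉ Subgroup.zpowers x := by
    by_contra hcon
    push Not at hcon
    have h := Subgroup.card_le_of_le hcon
    rw [Nat.card_zpowers, C.ord] at h
    omega
  have hact : ∀ d ∈ St, d ∉ Subgroup.zpowers x → d * x * d⁻¹ = x⁻¹ := fun d hd hdx =>
    (C.fix_cases I hU hab hG ha ha1 hd.1 (mem_cz.mp hd.2)).resolve_left hdx
  have hXi : X.index = 2 := by
    rw [Subgroup.index_eq_two_iff]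
    refine ⟨⟨d0, hd0⟩, fun b => ?_⟩
    rw [hX, Subgroup.mem_subgroupOf, Subgroup.mem_subgroupOf, Subgroup.coe_mul]
    by_cases hb : (b : G) ∈ Subgroup.zpowers x
    · exact Or.inr ⟨hb, fun h => hd0x ((Subgroup.mul_mem_cancel_left _ hb).mp h)⟩
    · refine Or.inl ⟨?_, hb⟩
      have hbd : (b : G) * d0 ∈ St := mul_mem b.2 hd0
      refine (C.fix_cases I hU hab hG ha ha1 hbd.1 (mem_cz.mp hbd.2)).resolve_right fun h => ?_
      rw [show (b : G) * d0 * x * ((b : G) * d0)⁻¹ = b * (d0 * x * d0⁻¹) * (b : G)⁻¹ by group,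
        hact d0 hd0 hd0x, show (b : G) * x⁻¹ * (b : G)⁻¹ = (b * x * (b : G)⁻¹)⁻¹ by group,
        hact b b.2 hb, inv_inv] at h
      have := zpow_self_inv C.ord (i := 1) (by rw [zpow_one, zpow_neg_one]; exact h)
      rw [zpow_one] at this
      have := this ▸ C.ord
      simp at this
  have h := Subgroup.card_mul_index X
  rw [hXi, hX, Nat.card_congr (Subgroup.subgroupOfEquivOfLe hxle).toEquiv, Nat.card_zpowers,
    C.ord] at h
  exact h.symm

theorem exists_refl {a : G} (ha : a ∈ aSub z U hab) (ha1 : a ≠ 1) :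
    ∃ s, orderOf s = 2 ∧ s ∈ dSub z x ∧ s * x * s⁻¹ = x⁻¹ ∧ Commute s a := by
  haveI := Fact.mk Nat.prime_two
  obtain ⟨⟨s, hs⟩, hso⟩ := exists_prime_orderOf_dvd_card' (G := ↥(dSub z x ⊓ cz a)) 2
    (by rw [C.card_stab I hU hab hG ha ha1]; norm_num)
  rw [Subgroup.orderOf_mk] at hso
  refine ⟨s, hso, hs.1, (C.fix_cases I hU hab hG ha ha1 hs.1 (mem_cz.mp hs.2)).resolve_left
    fun h => ?_, mem_cz.mp hs.2⟩
  have := orderOf_dvd_of_mem_zpowers h
  rw [hso, C.ord] at this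
  norm_num at this

variable {d : G} (hd : orderOf d = 2) (hdD : d ∈ dSub z x) (hdx : d * x * d⁻¹ = x⁻¹)

include hd hdD hdx in
theorem refl_mul_z : orderOf (d * z) = 2 ∧ d * z ∈ dSub z x ∧ (d * z) * x * (d * z)⁻¹ = x⁻¹ := by
  have hdz : Commute d z := mem_cz.mp hdD.2
  obtain ⟨h2, -, hdi⟩ := orderOf_two hd
  refine ⟨orderOf_eq_two ?_ fun h => ?_, mul_mem hdD ⟨J4BigPrimes.cz_le_nz x
    (mem_cz.mpr C.xz.symm), mem_cz.mpr (Commute.refl z)⟩, ?_⟩
  · calc d * z * (d * z) = d * (z * d) * z := by group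
      _ = (d * d) * (z * z) := by rw [← hdz.eq]; group
      _ = 1 := by rw [h2, C.set.z_sq, one_mul]
  · rw [eq_inv_of_mul_eq_one_left h, C.set.es.zinv] at hdx
    rw [mul_inv_eq_iff_eq_mul.mpr C.xz.symm.eq] at hdx
    have := zpow_self_inv C.ord (i := 1) (by rw [zpow_one, zpow_neg_one]; exact hdx)
    rw [zpow_one] at this
    have := this ▸ C.ord
    simp at this
  · rw [show d * z * x * (d * z)⁻¹ = d * (z * x * z⁻¹) * d⁻¹ by group,
      mul_inv_eq_iff_eq_mul.mpr C.xz.symm.eq, hdx]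

omit hG in
include hd hdD in
theorem commute_mul_z {a : G} (ha : a ∈ aSub z U hab) :
    Commute (d * z) a ↔ d * a * d⁻¹ = a⁻¹ := by
  have h1 : d * z * a * (d * z)⁻¹ = (d * a * d⁻¹)⁻¹ := by
    rw [show d * z * a * (d * z)⁻¹ = d * (z * a * z⁻¹) * d⁻¹ by group, ha.2]
    group
  constructor
  · intro h
    rw [mul_inv_eq_iff_eq_mul.mpr h.eq] at h1
    exact inv_eq_iff_eq_inv.mp h1.symm
  · intro h
    refine mul_inv_eq_iff_eq_mul.mp ?_
    rw [h1, h, inv_inv]

include hd hdD hdx in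
theorem refl_fix : ∃ a ∈ aSub z U hab, a ≠ 1 ∧ Commute d a := by
  by_contra hcon
  push Not at hcon
  obtain ⟨h2, -, hdi⟩ := orderOf_two hd
  refine C.no_121 I hU hab hG (C.refl_mul_z I hU hab hG hd hdD hdx).1 fun a ha => mem_cz.mpr ?_
  set w := d * a * d⁻¹ * a with hw
  have hwA : w ∈ aSub z U hab := mul_mem (C.aSub_conj hU hab hdD.1 (mem_cz.mp hdD.2) ha) ha
  have hwd : Commute d w := by
    refine mul_inv_eq_iff_eq_mul.mp ?_
    calc d * w * d⁻¹ = (d * d) * a * (d * d)⁻¹ * (d * a * d⁻¹) := by rw [hw]; group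
      _ = a * (d * a * d⁻¹) := by rw [h2]; group
      _ = w := (hab a ha.1 _ (C.aSub_conj hU hab hdD.1 (mem_cz.mp hdD.2) ha).1).eq
  have h1 : w = 1 := by
    by_contra hne
    exact hcon w hwA hne hwd
  exact ((C.commute_mul_z I hU hab hd hdD ha).mpr (eq_inv_of_mul_eq_one_left h1)).symm

include hd hdD hdx in
theorem refl_ne_z : ¬ IsConj z d := fun h => by
  obtain ⟨a, ha, ha1, hc⟩ := C.refl_fix I hU hab hG hd hdD hdx
  exact C.no_z I hU hab hG ha.1 (C.not_mem_zpowers hU hab ha ha1) h hc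

include hd hdD hdx in
theorem card_fix : Nat.card ↥(aSub z U hab ⊓ cz d) = 11 := by
  have hdvd : Nat.card ↥(aSub z U hab ⊓ cz d) ∣ 11 ^ 2 := by
    refine (Subgroup.card_dvd_of_le inf_le_left).trans (dvd_of_eq ?_)
    rw [C.card_aSub I hU hab hG]; norm_num
  obtain ⟨k, hk, hk'⟩ := (Nat.dvd_prime_pow (by norm_num : Nat.Prime 11)).mp hdvd
  obtain ⟨a, ha, ha1, hc⟩ := C.refl_fix I hU hab hG hd hdD hdx
  interval_cases k
  · exfalso
    refine ha1 ?_
    have h := Subgroup.card_eq_one.mp (hk'.trans (pow_zero 11))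
    rw [← Subgroup.mem_bot, ← h]
    exact ⟨ha, mem_cz.mpr hc.symm⟩
  · rw [hk', pow_one]
  · exfalso
    refine C.no_121 I hU hab hG hd ?_
    rw [← inf_eq_left]
    exact Subgroup.eq_of_le_of_card_ge inf_le_left (by rw [hk', C.card_aSub I hU hab hG]; norm_num)

omit hd hdD hdx

/-- An involution inverting `x` is conjugate under `U` into `C(z)`. -/
theorem inv_to_dSub {j : G} (hj : j ∈ invSet x) :
    ∃ v ∈ U, orderOf (v * j * v⁻¹) = 2 ∧ v * j * v⁻¹ ∈ dSub z x ∧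
      (v * j * v⁻¹) * x * (v * j * v⁻¹)⁻¹ = x⁻¹ := by
  obtain ⟨hjo, hjx⟩ := hj
  obtain ⟨hj2, -, hji⟩ := orderOf_two hjo
  have hjn : j ∈ J4BigPrimes.nz x := J4Local.mem_normalizer_of_le (by
    rintro _ ⟨i, rfl⟩
    rw [← conj_zpow, hjx]
    exact zpow_mem (inv_mem (Subgroup.mem_zpowers x)) i)
  obtain ⟨u, hu, hud⟩ := C.exists_mem_cz_conj I hU hjn
  set d := u * j with hd
  have hdx : d * x * d⁻¹ = x⁻¹ := by
    rw [hd, show u * j * x * (u * j)⁻¹ = u * (j * x * j⁻¹) * u⁻¹ by group, hjx]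
    exact mul_inv_eq_iff_eq_mul.mpr (mem_cz.mp (hU.le_cz hu)).inv_right.eq
  have hdd : d * d ∈ Subgroup.zpowers x := by
    refine hU.inter _ ?_ (mem_cz.mp (mul_mem hud.2 hud.2))
    rw [hd, show u * j * (u * j) = u * (j * u * j) by group]
    refine mul_mem hu ?_
    have h := hU.mem_nz_conj hjn hu
    rwa [hji] at h
  obtain ⟨k, hk⟩ := Subgroup.mem_zpowers_iff.mp hdd
  have hd1 : d * d = 1 := by
    rw [← hk]
    refine zpow_self_inv C.ord ?_
    rw [zpow_neg, ← inv_zpow, ← hdx, conj_zpow, hk]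
    group
  have huj : j * u * j⁻¹ = u⁻¹ := by
    rw [hji]
    refine eq_inv_of_mul_eq_one_right ?_
    rw [hd] at hd1
    rw [← hd1]; group
  refine ⟨u ^ 6, pow_mem hu 6, ?_⟩
  have hv : u ^ 6 * j * (u ^ 6)⁻¹ = d := by
    have h1 : j * (u ^ 6)⁻¹ * j⁻¹ = u ^ 6 := by
      rw [← inv_pow, ← conj_pow, show j * u⁻¹ * j⁻¹ = (j * u * j⁻¹)⁻¹ by group, huj, inv_inv]
    calc u ^ 6 * j * (u ^ 6)⁻¹ = u ^ 6 * (j * (u ^ 6)⁻¹ * j⁻¹) * j := by group
      _ = u ^ (11 + 1) * j := by rw [h1, ← pow_add]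
      _ = d := by rw [pow_succ, hU.pow u hu, one_mul, hd]
  rw [hv]
  refine ⟨orderOf_eq_two hd1 fun h => ?_, hud, hdx⟩
  rw [h, one_mul, inv_one, mul_one] at hdx
  have := zpow_self_inv C.ord (i := 1) (by rw [zpow_one, zpow_neg_one]; exact hdx)
  rw [zpow_one] at this
  have := this ▸ C.ord
  simp at this

/-- All involutions inverting `x` are conjugate. -/
theorem invSet_conj {s j : G} (hs : orderOf s = 2) (hsD : s ∈ dSub z x) (hsx : s * x * s⁻¹ = x⁻¹)
    (hj : j ∈ invSet x) : IsConj s j := by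
  obtain ⟨v, -, hdo, hdD, hdx⟩ := C.inv_to_dSub I hU hab hG hj
  set d := v * j * v⁻¹ with hd
  obtain ⟨a, ha, ha1, hsa⟩ := C.refl_fix I hU hab hG hs hsD hsx
  obtain ⟨b, hb, hb1, hdb⟩ := C.refl_fix I hU hab hG hdo hdD hdx
  obtain ⟨g, hg, hgab⟩ := C.transitive_aSub I hU hab hG ha ha1 hb hb1
  set e := g * s * g⁻¹ with he
  have heD : e ∈ dSub z x := mul_mem (mul_mem hg hsD) (inv_mem hg)
  have heb : Commute e b := by rw [← hgab]; exact hsa.map (MulAut.conj g)
  have heo : orderOf e = 2 := (orderOf_conj' g s).trans hs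
  have hex : e * x * e⁻¹ = x⁻¹ := by
    refine (C.fix_cases I hU hab hG hb hb1 heD heb).resolve_left fun h => ?_
    have := orderOf_dvd_of_mem_zpowers h
    rw [heo, C.ord] at this
    norm_num at this
  have hc : Commute (d * e) x := by
    refine mul_inv_eq_iff_eq_mul.mp ?_
    rw [show d * e * x * (d * e)⁻¹ = d * (e * x * e⁻¹) * d⁻¹ by group, hex,
      show d * x⁻¹ * d⁻¹ = (d * x * d⁻¹)⁻¹ by group, hdx, inv_inv]
  have hde : d * e ∈ U := C.mem_of_cz I hU hab hG hb.1 (C.not_mem_zpowers hU hab hb hb1) hc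
    (hdb.mul_left heb)
  obtain ⟨k, hk⟩ := Subgroup.mem_zpowers_iff.mp
    (hU.inter _ hde ((mem_cz.mp hdD.2).mul_left (mem_cz.mp heD.2)))
  obtain ⟨hd2, -, hdi⟩ := orderOf_two hdo
  have hed : e = d * x ^ k := by rw [hk, ← mul_assoc, hd2, one_mul]
  have hconj : x ^ (-(6 * k)) * d * (x ^ (-(6 * k)))⁻¹ = e := by
    have h1 : d * x ^ (6 * k) * d⁻¹ = (x ^ (6 * k))⁻¹ := by rw [← conj_zpow, hdx, inv_zpow]
    rw [hed, zpow_neg, inv_inv, ← h1]
    calc d * x ^ (6 * k) * d⁻¹ * d * x ^ (6 * k) = d * (x ^ (6 * k) * x ^ (6 * k)) := by group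
      _ = d * x ^ k := by
        rw [← zpow_add]
        congr 1
        rw [zpow_eq_zpow_iff_modEq, C.ord, Int.ModEq]
        omega
  exact (isConj_iff.mpr ⟨g, he.symm⟩).trans ((isConj_iff.mpr ⟨_, hconj⟩).symm.trans
    (isConj_iff.mpr ⟨v, hd.symm⟩).symm)

theorem invSet_ne_z {j : G} (hj : j ∈ invSet x) : ¬ IsConj z j := fun h => by
  obtain ⟨v, -, hdo, hdD, hdx⟩ := C.inv_to_dSub I hU hab hG hj
  exact C.refl_ne_z I hU hab hG hdo hdD hdx (h.trans (isConj_iff.mpr ⟨v, rfl⟩))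

/-- Inverting a non-trivial element of `U` forces membership in `N(⟨x⟩)`. -/
theorem invSet_le {u j : G} (hu : u ∈ U) (hu1 : u ≠ 1) (hj : j ∈ invSet u) :
    j ∈ J4BigPrimes.nz x :=
  C.fusion I hU hab hG hu hu1 (hj.2 ▸ inv_mem hu)

omit hG in
theorem comm_U_aSub {v a : G} (hv : v ∈ U) (ha : a ∈ aSub z U hab) : v * a * v⁻¹ = a :=
  mul_inv_eq_iff_eq_mul.mpr (hab v hv a ha.1).eq

theorem invSet_mixed {i : ℤ} {a : G} (hi : x ^ i ≠ 1) (ha : a ∈ aSub z U hab) (j : G) :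
    j ∈ invSet (x ^ i * a) ↔ j ∈ invSet x ∧ j ∈ invSet a := by
  constructor
  · intro hj
    have hu : x ^ i * a ∈ U := mul_mem (zpow_mem hU.x_mem i) ha.1
    have hu1 : x ^ i * a ≠ 1 := fun h => hi
      ((C.decompose_unique hU hab (i := i) (j := 0) ha (one_mem _) (by simpa using h)).1.trans
        (zpow_zero x))
    have hjn := C.invSet_le I hU hab hG hu hu1 hj
    obtain ⟨v, hv, hvd⟩ := C.exists_mem_cz_conj I hU hjn
    have hjA : j * a * j⁻¹ ∈ aSub z U hab := by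
      have h := C.aSub_conj hU hab hvd.1 (mem_cz.mp hvd.2) ha
      rw [show v * j * a * (v * j)⁻¹ = v * (j * a * j⁻¹) * v⁻¹ by group,
        mul_inv_eq_iff_eq_mul.mpr (hab v hv _ (hU.mem_nz_conj hjn ha.1)).eq] at h
      exact h
    obtain ⟨k, hk⟩ := conj_x_of_nz hjn
    have h := hj.2
    rw [show j * (x ^ i * a) * j⁻¹ = (j * x ^ i * j⁻¹) * (j * a * j⁻¹) by group, ← conj_zpow, hk,
      ← zpow_mul, mul_inv_rev, ← ((mem_cz.mp (hU.le_cz ha.1)).zpow_right i).inv_inv.symm.eq,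
      ← zpow_neg] at h
    obtain ⟨e1, e2⟩ := C.decompose_unique hU hab hjA (inv_mem ha) h
    refine ⟨⟨hj.1, ?_⟩, hj.1, e2⟩
    rw [hk, ← zpow_neg_one]
    refine zpow_eq_of_cast C.ord ?_
    rw [zpow_eq_zpow_iff_modEq, C.ord] at e1
    have e1' := (ZMod.intCast_eq_intCast_iff _ _ _).mpr e1
    push_cast at e1' ⊢
    have hi0 : (i : ZMod 11) ≠ 0 := fun h0 => hi (by
      rw [zpow_eq_of_cast C.ord (b := 0) (by rw [h0]; norm_num), zpow_zero])
    exact (show ∀ a b : ZMod 11, a ≠ 0 → b * a = -a → b = -1 by decide) _ _ hi0 e1'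
  · rintro ⟨hjx, hja⟩
    refine ⟨hjx.1, ?_⟩
    rw [show j * (x ^ i * a) * j⁻¹ = (j * x ^ i * j⁻¹) * (j * a * j⁻¹) by group, ← conj_zpow,
      hjx.2, hja.2, inv_zpow, mul_inv_rev]
    exact ((mem_cz.mp (hU.le_cz ha.1)).zpow_right i).inv_inv.symm.eq

theorem card_invSet_comm {a : G} (ha : a ∈ aSub z U hab) (ha1 : a ≠ 1) :
    {j ∈ invSet x | Commute j a}.ncard = 121 := by
  obtain ⟨s, hs, hsD, hsx, hsa⟩ := C.exists_refl I hU hab hG ha ha1
  obtain ⟨hs2, -, hsi⟩ := orderOf_two hs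
  obtain ⟨hzo, hzD, hzx⟩ := C.refl_mul_z I hU hab hG hs hsD hsx
  have hux : ∀ {u : G}, u ∈ U → Commute u x := fun hu => mem_cz.mp (hU.le_cz hu)
  let f : ↥(Subgroup.zpowers x) × ↥(aSub z U hab ⊓ cz (s * z)) → G := fun q => q.1 * q.2 * s
  have hinj : Function.Injective f := by
    rintro ⟨⟨_, i, rfl⟩, b⟩ ⟨⟨_, k, rfl⟩, c⟩ h
    obtain ⟨h1, h2⟩ := C.decompose_unique hU hab b.2.1 c.2.1 (mul_right_cancel h)
    exact Prod.ext (Subtype.ext h1) (Subtype.ext h2)
  have hrange : Set.range f = {j ∈ invSet x | Commute j a} := by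
    ext j
    constructor
    · rintro ⟨⟨⟨_, i, rfl⟩, b, hb, hbs⟩, rfl⟩
      have huU : x ^ i * b ∈ U := mul_mem (zpow_mem hU.x_mem i) hb.1
      have hsu : s * (x ^ i * b) * s⁻¹ = (x ^ i * b)⁻¹ := by
        rw [show s * (x ^ i * b) * s⁻¹ = (s * x ^ i * s⁻¹) * (s * b * s⁻¹) by group, ← conj_zpow,
          hsx, (C.commute_mul_z I hU hab hs hsD hb).mp (mem_cz.mp hbs).symm, mul_inv_rev, inv_zpow]
        exact (((hux hb.1).zpow_right i).inv_inv).symm.eq
      refine ⟨⟨orderOf_eq_two ?_ ?_, ?_⟩, (hab _ huU a ha.1).mul_left hsa⟩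
      · show x ^ i * b * s * (x ^ i * b * s) = 1
        rw [show x ^ i * b * s * (x ^ i * b * s) = (x ^ i * b) * (s * (x ^ i * b) * s⁻¹) * (s * s) by
          group, hsu, hs2, mul_inv_cancel, one_mul]
      · show x ^ i * b * s ≠ 1
        intro h
        have h1 : s ∈ U := by rw [eq_inv_of_mul_eq_one_right h]; exact inv_mem huU
        have := (orderOf_dvd_of_pow_eq_one (hU.pow s h1))
        rw [hs] at this
        norm_num at this
      · show x ^ i * b * s * x * (x ^ i * b * s)⁻¹ = x⁻¹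
        rw [show x ^ i * b * s * x * (x ^ i * b * s)⁻¹ =
          (x ^ i * b) * (s * x * s⁻¹) * (x ^ i * b)⁻¹ by group, hsx]
        exact mul_inv_eq_iff_eq_mul.mpr (hux huU).inv_right.eq
    · rintro ⟨⟨hjo, hjx⟩, hja⟩
      have hu : j * s ∈ U := by
        refine C.mem_of_cz I hU hab hG ha.1 (C.not_mem_zpowers hU hab ha ha1)
          (mul_inv_eq_iff_eq_mul.mp ?_) (hja.mul_left hsa)
        rw [show j * s * x * (j * s)⁻¹ = j * (s * x * s⁻¹) * j⁻¹ by group, hsx,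
          show j * x⁻¹ * j⁻¹ = (j * x * j⁻¹)⁻¹ by group, hjx, inv_inv]
      obtain ⟨i, b, hb, hib⟩ := C.decompose hU hab hu
      obtain ⟨hj2, -, hji⟩ := orderOf_two hjo
      have hsu : s * (j * s) * s⁻¹ = (j * s)⁻¹ := by
        rw [hsi, mul_inv_rev, hji, hsi, show s * (j * s) * s = s * j * (s * s) by group, hs2,
          mul_one]
      rw [hib, show s * (x ^ i * b) * s⁻¹ = (s * x ^ i * s⁻¹) * (s * b * s⁻¹) by group,
        ← conj_zpow, hsx, inv_zpow, mul_inv_rev,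
        ← (((hux hb.1).zpow_right i).inv_inv).symm.eq] at hsu
      have hbz : b ∈ cz (s * z) := mem_cz.mpr
        ((C.commute_mul_z I hU hab hs hsD hb).mpr (mul_left_cancel hsu)).symm
      refine ⟨(⟨x ^ i, Subgroup.zpow_mem_zpowers x i⟩, ⟨b, hb, hbz⟩), ?_⟩
      show x ^ i * b * s = j
      rw [← hib, mul_assoc, hs2, mul_one]
  rw [← hrange, ← Set.image_univ, Set.ncard_image_of_injective _ hinj, Set.ncard_univ,
    Nat.card_prod, Nat.card_zpowers, C.ord, C.card_fix I hU hab hG hzo hzD hzx]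

theorem card_invSet : (invSet x).ncard = 1452 ∧
    ∀ a ∈ aSub z U hab, a ≠ 1 → {j ∈ invSet x | j * a * j⁻¹ = a⁻¹}.ncard = 121 := by
  classical
  have := Fintype.ofFinite G
  set J := (invSet x).toFinset with hJ
  set A := (Finset.univ : Finset G).filter (fun a => a ∈ aSub z U hab ∧ a ≠ 1) with hA
  have hAc : A.card = 120 := by
    have e : A = ((aSub z U hab : Set G).toFinset).erase 1 := by
      ext a
      simp [hA, and_comm]
    rw [e, Finset.card_erase_of_mem (by simp [one_mem]), ← Set.ncard_eq_toFinset_card',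
      ← Nat.card_coe_set_eq]
    show Nat.card ↥(aSub z U hab) - 1 = 120
    rw [C.card_aSub I hU hab hG]
  have hfixj : ∀ j ∈ invSet x, (A.filter fun a => Commute j a).card = 10 ∧
      (A.filter fun a => j * a * j⁻¹ = a⁻¹).card = 10 := by
    intro j hj
    obtain ⟨v, hv, hdo, hdD, hdx⟩ := C.inv_to_dSub I hU hab hG hj
    set d := v * j * v⁻¹ with hd
    obtain ⟨hzo, hzD, hzx⟩ := C.refl_mul_z I hU hab hG hdo hdD hdx
    have hconj : ∀ a ∈ aSub z U hab, d * a * d⁻¹ = v * (j * a * j⁻¹) * v⁻¹ := fun a ha => by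
      conv_rhs => rw [← C.comm_U_aSub I hU hab (inv_mem hv) ha]
      rw [hd]; group
    have key : ∀ (e : G), Nat.card ↥(aSub z U hab ⊓ cz e) = 11 →
        (A.filter fun a => Commute e a).card = 10 := fun e he => by
      have e' : (A.filter fun a => Commute e a) =
          ((aSub z U hab ⊓ cz e : Subgroup G) : Set G).toFinset.erase 1 := by
        ext a
        simp only [hA, Finset.mem_filter, Finset.mem_univ, true_and, Finset.mem_erase,
          Set.mem_toFinset, SetLike.mem_coe, Subgroup.mem_inf, mem_cz]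
        exact ⟨fun h => ⟨h.1.2, h.1.1, h.2.symm⟩, fun h => ⟨⟨h.2.1, h.1⟩, h.2.2.symm⟩⟩
      rw [e', Finset.card_erase_of_mem (by simp [one_mem]), ← Set.ncard_eq_toFinset_card',
        ← Nat.card_coe_set_eq]
      show Nat.card ↥(aSub z U hab ⊓ cz e) - 1 = 10
      rw [he]
    refine ⟨?_, ?_⟩
    · rw [← key d (C.card_fix I hU hab hG hdo hdD hdx)]
      congr 1
      refine Finset.filter_congr fun a ha => ?_
      have haA := (Finset.mem_filter.mp ha).2.1
      constructor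
      · intro h
        refine mul_inv_eq_iff_eq_mul.mp ?_
        rw [hconj a haA, mul_inv_eq_iff_eq_mul.mpr h.eq, C.comm_U_aSub I hU hab hv haA]
      · intro h
        refine mul_inv_eq_iff_eq_mul.mp ?_
        have h' := hconj a haA
        rw [mul_inv_eq_iff_eq_mul.mpr h.eq] at h'
        rw [show j * a * j⁻¹ = v⁻¹ * (v * (j * a * j⁻¹) * v⁻¹) * v⁻¹⁻¹ by group, ← h',
          C.comm_U_aSub I hU hab (inv_mem hv) haA]
    · rw [← key (d * z) (C.card_fix I hU hab hG hzo hzD hzx)]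
      congr 1
      refine Finset.filter_congr fun a ha => ?_
      have haA := (Finset.mem_filter.mp ha).2.1
      rw [C.commute_mul_z I hU hab hdo hdD haA, hconj a haA]
      constructor
      · intro h; rw [h, C.comm_U_aSub I hU hab hv (inv_mem haA)]
      · intro h
        rw [show j * a * j⁻¹ = v⁻¹ * (v * (j * a * j⁻¹) * v⁻¹) * v⁻¹⁻¹ by group, h,
          C.comm_U_aSub I hU hab (inv_mem hv) (inv_mem haA)]
  have hcomm : ∀ a ∈ A, (J.filter fun j => Commute j a).card = 121 := by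
    intro a ha
    obtain ⟨-, haA, ha1⟩ := Finset.mem_filter.mp ha
    rw [← C.card_invSet_comm I hU hab hG haA ha1, Set.ncard_eq_toFinset_card']
    congr 1
    ext j
    simp [hJ]
  have hJc : J.card = 1452 := by
    have h := Finset.sum_card_bipartiteAbove_eq_sum_card_bipartiteBelow (s := J) (t := A)
      (fun j a => Commute j a)
    simp only [Finset.bipartiteAbove, Finset.bipartiteBelow] at h
    rw [Finset.sum_congr rfl (fun j hj => (hfixj j (Set.mem_toFinset.mp hj)).1),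
      Finset.sum_congr rfl hcomm, Finset.sum_const, Finset.sum_const, smul_eq_mul, smul_eq_mul,
      hAc] at h
    rw [← hJ] at h
    omega
  refine ⟨by rw [Set.ncard_eq_toFinset_card']; exact hJc, fun a ha ha1 => ?_⟩
  have haA : a ∈ A := Finset.mem_filter.mpr ⟨Finset.mem_univ _, ha, ha1⟩
  have hconst : ∀ b ∈ A, (J.filter fun j => j * b * j⁻¹ = b⁻¹).card =
      (J.filter fun j => j * a * j⁻¹ = a⁻¹).card := by
    intro b hb
    obtain ⟨-, hbA, hb1⟩ := Finset.mem_filter.mp hb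
    obtain ⟨g, hg, hgab⟩ := C.transitive_aSub I hU hab hG ha ha1 hbA hb1
    symm
    obtain ⟨k, hk⟩ := conj_x_of_nz hg.1
    obtain ⟨k', hk'⟩ := conj_x_of_nz (inv_mem hg.1)
    have hmove : ∀ g c : G, (∀ j, j ∈ invSet x → g * j * g⁻¹ ∈ invSet x) →
        ∀ j ∈ J.filter (fun j => j * c * j⁻¹ = c⁻¹),
          g * j * g⁻¹ ∈ J.filter (fun j => j * (g * c * g⁻¹) * j⁻¹ = (g * c * g⁻¹)⁻¹) := by
      intro g c hgJ j hj
      simp only [hJ, Finset.mem_filter, Set.mem_toFinset] at hj ⊢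
      refine ⟨hgJ j hj.1, ?_⟩
      rw [show g * j * g⁻¹ * (g * c * g⁻¹) * (g * j * g⁻¹)⁻¹ = g * (j * c * j⁻¹) * g⁻¹ by group,
        hj.2]
      group
    have hgJ : ∀ g, g ∈ J4BigPrimes.nz x → ∀ j, j ∈ invSet x → g * j * g⁻¹ ∈ invSet x := by
      intro g hg j hj
      obtain ⟨i, hi⟩ := conj_x_of_nz (inv_mem hg)
      refine ⟨(orderOf_conj' g j).trans hj.1, ?_⟩
      calc g * j * g⁻¹ * x * (g * j * g⁻¹)⁻¹ = g * (j * (g⁻¹ * x * g⁻¹⁻¹) * j⁻¹) * g⁻¹ := by group
        _ = g * (g⁻¹ * x * g⁻¹⁻¹)⁻¹ * g⁻¹ := by rw [hi, ← conj_zpow, hj.2, inv_zpow]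
        _ = x⁻¹ := by group
    refine Finset.card_bij (fun j _ => g * j * g⁻¹) ?_ ?_ ?_
    · intro j hj
      rw [← hgab]
      exact hmove g a (hgJ g hg.1) j hj
    · intro j _ j' _ h
      exact mul_left_cancel (mul_right_cancel h)
    · intro j hj
      refine ⟨g⁻¹ * j * g⁻¹⁻¹, ?_, by group⟩
      have h := hmove g⁻¹ b (hgJ _ (inv_mem hg.1)) j hj
      rwa [show g⁻¹ * b * g⁻¹⁻¹ = a by rw [← hgab]; group] at h
  have h := Finset.sum_card_bipartiteAbove_eq_sum_card_bipartiteBelow (s := J) (t := A)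
    (fun j b => j * b * j⁻¹ = b⁻¹)
  simp only [Finset.bipartiteAbove, Finset.bipartiteBelow] at h
  rw [Finset.sum_congr rfl (fun j hj => (hfixj j (Set.mem_toFinset.mp hj)).2),
    Finset.sum_congr rfl hconst, Finset.sum_const, Finset.sum_const, smul_eq_mul, smul_eq_mul,
    hAc, hJc] at h
  rw [Set.ncard_eq_toFinset_card']
  have e : {j ∈ invSet x | j * a * j⁻¹ = a⁻¹}.toFinset = J.filter fun j => j * a * j⁻¹ = a⁻¹ := by
    ext j
    simp [hJ]
  rw [e]
  omega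

theorem card_invSet_mixed {i : ℤ} {a : G} (hi : x ^ i ≠ 1) (ha : a ∈ aSub z U hab) (ha1 : a ≠ 1) :
    (invSet (x ^ i * a)).ncard = 121 := by
  rw [← (C.card_invSet I hU hab hG).2 a ha ha1]
  congr 1
  ext j
  rw [C.invSet_mixed I hU hab hG hi ha]
  exact ⟨fun h => ⟨h.1, h.2.2⟩, fun h => ⟨h.1, h.1.1, h.2⟩⟩

theorem invSet_zpow {i : ℤ} (hi : x ^ i ≠ 1) : invSet (x ^ i) = invSet x := by
  ext j
  have h := C.invSet_mixed I hU hab hG hi (one_mem (aSub z U hab)) j
  rw [mul_one] at h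
  rw [h]
  exact ⟨fun hh => hh.1, fun hh => ⟨hh, hh.1, by simp⟩⟩

end Ctx

end Cfsg.Agent.Lib.J4Eleven49
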